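import Mathlib.LinearAlgebra.Matrix.SpecialLinearGroup
import Mathlib.GroupTheory.SpecificGroups.Alternating
import Mathlib.Tactic

/-!
Finite facts on the alternating group of degree six and the binary icosahedral group.
-/

set_option autoImplicit false
set_option maxRecDepth 100000
set_option maxHeartbeats 1000000
set_option Elab.async false

namespace CfsgLib.Recog.McLThree

open Equiv

/-- The binary icosahedral group. -/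
abbrev SL5 := Matrix.SpecialLinearGroup (Fin 2) (ZMod 5)

/-- The permutations of six letters. -/
abbrev P6 := Perm (Fin 6)

/-- The alternating group of degree six. -/
abbrev A6 := alternatingGroup (Fin 6)

theorem card_SL5 : Nat.card SL5 = 120 := by rw [Nat.card_eq_fintype_card]; decide +kernel

theorem sl_involution : ∀ g : SL5, g * g = 1 → g ≠ 1 → g = -1 := by decide +kernel

theorem sl_neg_one : (-1 : SL5) ≠ 1 ∧ (-1 : SL5) * -1 = 1 ∧ ∀ g : SL5, -1 * g = g * -1 := by decide +kernel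

theorem sl_three : ∀ g : SL5, g ^ 3 = 1 → g ≠ 1 →
    ∃ h : SL5, ∃ k : Fin 6, (g * (h * g * h⁻¹)) ^ (k : ℕ) = -1 := by decide +kernel

/-- Build an element of the alternating group. -/
def mkA (s : P6) (h : Perm.sign s = 1) : A6 := ⟨s, Perm.mem_alternatingGroup.2 h⟩

/-- `(0 1 2)`. -/
def c1 : A6 := mkA (swap 0 1 * swap 1 2) (by decide +kernel)
/-- `(3 4 5)`. -/
def c2 : A6 := mkA (swap 3 4 * swap 4 5) (by decide +kernel)
/-- `(0 3 1 4)(2 5)`. -/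
def w0 : A6 := mkA (swap 0 3 * swap 3 1 * swap 1 4 * swap 2 5) (by decide +kernel)
/-- `(0 1)(3 4)`. -/
def t0 : A6 := mkA (swap 0 1 * swap 3 4) (by decide +kernel)
/-- `(0 1)(2 5)`. -/
def u0 : A6 := mkA (swap 0 1 * swap 2 5) (by decide +kernel)

/-- The nine elements of the Sylow subgroup. -/
def InP0 (g : A6) : Prop := (∀ i : Fin 6, i < 3 ↔ (g : P6) i < 3) ∧ g ^ 3 = 1

instance : DecidablePred InP0 := fun _ => inferInstanceAs (Decidable (_ ∧ _))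

theorem p0_gens : InP0 c1 ∧ InP0 c2 ∧ InP0 1 := by decide +kernel

theorem p0_mul : ∀ g : A6, InP0 g → ∃ a b : Fin 3, g = c1 ^ (a : ℕ) * c2 ^ (b : ℕ) := by decide +kernel

theorem p0_closed : ∀ a b : Fin 3, InP0 (c1 ^ (a : ℕ) * c2 ^ (b : ℕ)) := by decide +kernel

theorem p0_card : Fintype.card {g : A6 // InP0 g} = 9 := by decide +kernel

theorem w0_facts : w0 * w0 = t0 ∧ t0 * t0 = 1 ∧ t0 ≠ 1 ∧ t0 * c1 * t0⁻¹ = c1⁻¹ ∧ t0 * c2 * t0⁻¹ = c2⁻¹ ∧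
    InP0 (w0 * c1 * w0⁻¹) ∧ InP0 (w0 * c2 * w0⁻¹) ∧ u0 * t0 = t0 * u0 ∧ u0 * u0 = 1 ∧
    u0 * w0 * u0⁻¹ = w0⁻¹ ∧ ¬ InP0 (u0 * c1 * u0⁻¹) := by decide +kernel

theorem norm_p0 : ∀ g : A6, InP0 (g * c1 * g⁻¹) → InP0 (g * c2 * g⁻¹) →
    ∃ k : Fin 4, InP0 (g * (w0 ^ (k : ℕ))⁻¹) := by decide +kernel

theorem p0_mul_closed : ∀ a b c d : Fin 3,
    InP0 (c1 ^ (a : ℕ) * c2 ^ (b : ℕ) * (c1 ^ (c : ℕ) * c2 ^ (d : ℕ))) := by decide +kernel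

theorem p0_inverted : ∀ a b : Fin 3,
    t0 * (c1 ^ (a : ℕ) * c2 ^ (b : ℕ)) * t0⁻¹ * (c1 ^ (a : ℕ) * c2 ^ (b : ℕ)) = 1 ∧
    InP0 (w0 * (c1 ^ (a : ℕ) * c2 ^ (b : ℕ)) * w0⁻¹) := by decide +kernel

theorem double_coset : ∀ g : A6, ¬ (InP0 (g * c1 * g⁻¹) ∧ InP0 (g * c2 * g⁻¹)) →
    ∃ a b : Fin 3, InP0 ((c1 ^ (a : ℕ) * c2 ^ (b : ℕ) * u0)⁻¹ * g * c1 * ((c1 ^ (a : ℕ) * c2 ^ (b : ℕ) * u0)⁻¹ * g)⁻¹) ∧
      InP0 ((c1 ^ (a : ℕ) * c2 ^ (b : ℕ) * u0)⁻¹ * g * c2 * ((c1 ^ (a : ℕ) * c2 ^ (b : ℕ) * u0)⁻¹ * g)⁻¹) := by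
  decide +kernel

theorem cent_t0 : ∀ g : A6, g * t0 = t0 * g → ∃ k : Fin 4, g = w0 ^ (k : ℕ) ∨ g = u0 * w0 ^ (k : ℕ) := by
  decide +kernel

end CfsgLib.Recog.McLThree
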