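import Cfsg.Agent.Lib.Recog.McLThree.Basic
import Cfsg.Agent.Lib.Recog.McLThree.Models

/-!
The action of the binary icosahedral group on the extraspecial subgroup, and the uniqueness of `J`.
-/

set_option autoImplicit false
set_option linter.style.haveILetI false
set_option linter.unusedSectionVars false

namespace CfsgLib.Recog.McLThree

open Subgroup

variable {G : Type*} [Group G] [Finite G]

/-- An element of order dividing five moves a multiple of five points of an invariant set. -/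
theorem five_dvd (f : G) (h5 : f ^ 5 = 1) (A : Finset G) (hA : ∀ a ∈ A, f * a * f⁻¹ ∈ A)
    (hfree : ∀ a ∈ A, f * a * f⁻¹ ≠ a) : 5 ∣ A.card := by
  classical
  by_contra hn
  let σ : Equiv.Perm G := (MulAut.conj f).toEquiv
  have e : A.image σ = A := Finset.eq_of_subset_of_card_le (Finset.image_subset_iff.2 hA)
    (by rw [Finset.card_image_of_injective _ σ.injective])
  have hiff : ∀ a, σ a ∈ A ↔ a ∈ A := fun a => ⟨fun h => by
    rw [← e, Finset.mem_image] at h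
    obtain ⟨b, hb, hbe⟩ := h
    exact σ.injective hbe ▸ hb, hA a⟩
  haveI : Fact (Nat.Prime 5) := ⟨by norm_num⟩
  have hσ5 : σ ^ 5 = 1 := by
    have h' : (MulAut.toPerm G) (MulAut.conj f ^ 5) = 1 := by rw [← map_pow, h5, map_one, map_one]
    rwa [map_pow] at h'
  have hg : σ.subtypePerm hiff ^ 5 ^ 1 = 1 := by ext a; simp [hσ5]
  obtain ⟨⟨a, ha⟩, hfa⟩ := Equiv.Perm.exists_fixed_point_of_prime (p := 5) (n := 1)
    (by rwa [Fintype.card_coe]) hg
  exact hfree a ha (congrArg Subtype.val hfa)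

/-- An element conjugating `q` to `q * a` with `a` fixed conjugates it by a power at the `n`-th step. -/
theorem conj_pow_fixed {f q a : G} (h : f * q * f⁻¹ = q * a) (ha : f * a * f⁻¹ = a) :
    ∀ n : ℕ, f ^ n * q * (f ^ n)⁻¹ = q * a ^ n
  | 0 => by simp
  | n + 1 => by
    have hn : f * a ^ n * f⁻¹ = a ^ n := by rw [← conj_pow, ha]
    calc f ^ (n + 1) * q * (f ^ (n + 1))⁻¹ = f * (f ^ n * q * (f ^ n)⁻¹) * f⁻¹ := by
          rw [pow_succ']; group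
      _ = f * (q * a ^ n) * f⁻¹ := by rw [conj_pow_fixed h ha n]
      _ = (f * q * f⁻¹) * (f * a ^ n * f⁻¹) := by group
      _ = q * a * a ^ n := by rw [h, hn]
      _ = q * a ^ (n + 1) := by rw [pow_succ', mul_assoc]

namespace Hyp

variable (h : Hyp G)

/-- Conjugation by a member of the normaliser of `Z` preserves `Q`. -/
theorem conj_Q {g q : G} (hg : g ∈ h.NZ) (hq : q ∈ h.Q) : g * q * g⁻¹ ∈ h.Q :=
  (mem_normalizer_iff.1 (h.NZ_le_normQ hg) q).1 hq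

theorem z_comm_Q {q : G} (hq : q ∈ h.Q) : Commute q h.z := h.z_central (h.Q_le_S hq)

theorem Z_comm_Q {q c : G} (hq : q ∈ h.Q) (hc : c ∈ h.Z) : q * c = c * q := by
  obtain ⟨n, rfl⟩ := mem_zpowers_iff.1 hc
  exact ((h.z_comm_Q hq).zpow_right n).eq

theorem Z_comm_CZ {g c : G} (hg : g ∈ h.CZ) (hc : c ∈ h.Z) : g * c * g⁻¹ = c := by
  obtain ⟨n, rfl⟩ := mem_zpowers_iff.1 hc
  rw [(Commute.zpow_right (show Commute g h.z from h.mem_CZ.1 hg) n).eq, mul_inv_cancel_right]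

/-- An element of order five of `L0` centralises only the centre of `Q`. -/
theorem cent_five {f : G} (hf : f ∈ h.CZ) (h5 : f ^ 5 = 1) (h1 : f ≠ 1) {q : G} (hq : q ∈ h.Q)
    {W : Subgroup G} (hWQ : W ≤ h.Q) (hZW : h.Z ≤ W) (hW : ∀ w ∈ W, f * w * f⁻¹ ∈ W)
    (hqW : q ∈ W) (hne : W ≠ h.Q ∨ f * q * f⁻¹ = q) : q ∈ h.Z := by
  classical
  haveI := Fintype.ofFinite G
  -- a general counting statement
  have count : ∀ V : Subgroup G, V ≤ h.Q → (∀ v ∈ V, f * v * f⁻¹ ∈ V) →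
      5 ∣ Nat.card V - Nat.card ↥(V ⊓ centralizer ({f} : Set G)) := by
    intro V _ hV
    have hd := five_dvd f h5 (Finset.univ.filter fun x => x ∈ V ∧ x ∉ centralizer ({f} : Set G))
      (fun a ha => by
        rw [Finset.mem_filter] at ha ⊢
        refine ⟨Finset.mem_univ _, hV a ha.2.1, fun hc => ha.2.2 ?_⟩
        rw [mem_centralizer_singleton_iff] at hc ⊢
        have := congrArg (fun s => f⁻¹ * s * f) hc
        simpa [mul_assoc] using this)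
      (fun a ha e => by
        rw [Finset.mem_filter] at ha
        exact ha.2.2 (mem_centralizer_singleton_iff.2 (mul_inv_eq_iff_eq_mul.1 e).symm))
    have hcV : Nat.card V = (Finset.univ.filter fun x => x ∈ V).card := by
      rw [Nat.card_eq_fintype_card, Fintype.card_subtype]
    have hcI : Nat.card ↥(V ⊓ centralizer ({f} : Set G)) =
        (Finset.univ.filter fun x => x ∈ V ∧ x ∈ centralizer ({f} : Set G)).card := by
      rw [Nat.card_eq_fintype_card, Fintype.card_subtype]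
      simp only [mem_inf]
    have hsplit : (Finset.univ.filter fun x => x ∈ V ∧ x ∉ centralizer ({f} : Set G)).card +
        (Finset.univ.filter fun x => x ∈ V ∧ x ∈ centralizer ({f} : Set G)).card =
        (Finset.univ.filter fun x => x ∈ V).card := by
      rw [← Finset.card_filter_add_card_filter_not (s := Finset.univ.filter fun x => x ∈ V)
        (fun x => x ∈ centralizer ({f} : Set G)), Finset.filter_filter, Finset.filter_filter, add_comm]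
    rw [hcV, hcI, ← hsplit]
    simpa using hd
  have hfz : h.Z ≤ centralizer ({f} : Set G) := fun c hc =>
    mem_centralizer_singleton_iff.2 (mul_inv_eq_iff_eq_mul.1 (h.Z_comm_CZ hf hc)).symm
  set F := h.Q ⊓ centralizer ({f} : Set G)
  have hF : F = h.Z := by
    obtain ⟨b, hb6, hb⟩ := h.card_three_pow ((inf_le_left : F ≤ h.Q).trans h.Q_le_S)
    have hge : 3 ≤ Nat.card F := h.card_Z ▸
      Subgroup.card_le_of_le (le_inf (zpowers_le.2 h.z_mem_Q) hfz)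
    have hle : Nat.card F ≤ 243 := h.Q_card ▸ Subgroup.card_le_of_le inf_le_left
    have hd := count h.Q le_rfl fun v hv => h.conj_Q (h.CZ_le_NZ hf) hv
    rw [h.Q_card, show Nat.card ↥(h.Q ⊓ centralizer ({f} : Set G)) = 3 ^ b from hb] at hd
    rw [hb] at hge hle
    have hb5 : b = 1 ∨ b = 5 := by interval_cases b <;> omega
    rcases hb5 with rfl | rfl
    · exact (Subgroup.eq_of_le_of_card_ge (le_inf (zpowers_le.2 h.z_mem_Q) hfz)
        (by rw [hb, h.card_Z]; norm_num)).symm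
    · exfalso
      have hQF : F = h.Q := Subgroup.eq_of_le_of_card_ge inf_le_left (by rw [hb, h.Q_card]; norm_num)
      have hfQ : f ∈ h.Q := h.cent_Q (mem_centralizer_iff.2 fun x hx =>
        mem_centralizer_singleton_iff.1 (hQF.ge hx).2)
      have h3 := h.Q_exp f hfQ
      refine h1 ?_
      have : f ^ 6 = 1 := by rw [show 6 = 3 * 2 from rfl, pow_mul, h3, one_pow]
      rwa [pow_succ, h5, one_mul] at this
  rcases hne with hne | hne
  · -- all of `W` is centralised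
    obtain ⟨a, ha6, ha⟩ := h.card_three_pow (hWQ.trans h.Q_le_S)
    obtain ⟨b, hb6, hb⟩ := h.card_three_pow
      (((inf_le_left : W ⊓ centralizer ({f} : Set G) ≤ W).trans hWQ).trans h.Q_le_S)
    have hge : 3 ≤ 3 ^ b := hb ▸ h.card_Z ▸ Subgroup.card_le_of_le (le_inf hZW hfz)
    have hle : (3 : ℕ) ^ b ≤ 3 ^ a := hb ▸ ha ▸ Subgroup.card_le_of_le inf_le_left
    have ha' : (3 : ℕ) ^ a < 243 := by
      refine lt_of_le_of_ne (ha ▸ h.Q_card ▸ Subgroup.card_le_of_le hWQ) fun e => hne ?_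
      exact Subgroup.eq_of_le_of_card_ge hWQ (by rw [h.Q_card, ha, e])
    have hd := count W hWQ hW
    rw [ha, hb] at hd
    have hab : a = b := by
      have ha5 : a ≤ 4 := by
        by_contra hc
        have : 3 ^ 5 ≤ 3 ^ a := Nat.pow_le_pow_right (by norm_num) (by omega)
        omega
      interval_cases a <;> interval_cases b <;> omega
    have hWc : W ⊓ centralizer ({f} : Set G) = W :=
      Subgroup.eq_of_le_of_card_ge inf_le_left (by rw [ha, hb, hab])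
    exact hF.le ⟨hq, (hWc.ge hqW).2⟩
  · exact hF.le ⟨hq, mem_centralizer_singleton_iff.2 (mul_inv_eq_iff_eq_mul.1 hne).symm⟩

theorem exists_five : ∃ f ∈ h.L0, f ^ 5 = 1 ∧ f ≠ 1 := by
  haveI : Fact (Nat.Prime 5) := ⟨by norm_num⟩
  obtain ⟨⟨f, hf⟩, ho⟩ := exists_prime_orderOf_dvd_card' (G := h.L0) 5 (by rw [h.card_L0]; norm_num)
  rw [Subgroup.orderOf_mk] at ho
  refine ⟨f, hf, by rw [← ho]; exact pow_orderOf_eq_one f, fun e => ?_⟩
  rw [e, orderOf_one] at ho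
  omega

/-- A subgroup between the centre and `Q` invariant under an element of order five is trivial or all. -/
theorem irreducible {f : G} (hf : f ∈ h.CZ) (h5 : f ^ 5 = 1) (h1 : f ≠ 1)
    {W : Subgroup G} (hWQ : W ≤ h.Q) (hZW : h.Z ≤ W) (hW : ∀ w ∈ W, f * w * f⁻¹ ∈ W) :
    W = h.Z ∨ W = h.Q := by
  by_contra hc
  push Not at hc
  exact hc.1 (le_antisymm (fun q hq => h.cent_five hf h5 h1 (hWQ hq) hWQ hZW hW hq (Or.inl hc.2)) hZW)

/-- The elements of `Q` centralised modulo the centre by an element. -/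
def fixQ (c : G) (hc : c ∈ h.CZ) : Subgroup G where
  carrier := {q | q ∈ h.Q ∧ c * q * c⁻¹ * q⁻¹ ∈ h.Z}
  one_mem' := ⟨one_mem _, by simp⟩
  mul_mem' := by
    rintro a b ⟨ha, ha'⟩ ⟨hb, hb'⟩
    refine ⟨mul_mem ha hb, ?_⟩
    have e : c * (a * b) * c⁻¹ * (a * b)⁻¹ =
        (c * a * c⁻¹ * a⁻¹) * (a * (c * b * c⁻¹ * b⁻¹) * a⁻¹) := by group
    rw [e, h.Z_comm_Q ha hb', mul_inv_cancel_right]
    exact mul_mem ha' hb'
  inv_mem' := by
    rintro a ⟨ha, ha'⟩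
    refine ⟨inv_mem ha, ?_⟩
    have e : c * a⁻¹ * c⁻¹ * a⁻¹⁻¹ = a⁻¹ * (c * a * c⁻¹ * a⁻¹)⁻¹ * a := by group
    rw [e, h.Z_comm_Q (inv_mem ha) (inv_mem ha'), mul_assoc, inv_mul_cancel, mul_one]
    exact inv_mem ha'

theorem mem_fixQ {c q : G} (hc : c ∈ h.CZ) :
    q ∈ h.fixQ c hc ↔ q ∈ h.Q ∧ c * q * c⁻¹ * q⁻¹ ∈ h.Z := Iff.rfl

theorem Z_le_fixQ {c : G} (hc : c ∈ h.CZ) : h.Z ≤ h.fixQ c hc := fun x hx => by
  refine ⟨(zpowers_le.2 h.z_mem_Q : h.Z ≤ h.Q) hx, ?_⟩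
  rw [h.Z_comm_CZ hc hx, mul_inv_cancel]
  exact one_mem _

/-- The subgroup of the normaliser of the centre acting trivially on `Q` modulo the centre is `Q`. -/
theorem mem_Q_of_trivial {g : G} (hg : g ∈ h.CZ)
    (ht : ∀ q ∈ h.Q, g * q * g⁻¹ * q⁻¹ ∈ h.Z) : g ∈ h.Q := by
  have hcube : ∀ x ∈ h.CZ, (∀ q ∈ h.Q, x * q * x⁻¹ * q⁻¹ ∈ h.Z) → x ^ 3 ∈ h.Q := by
    intro x hx hx'
    refine h.cent_Q (mem_centralizer_iff.2 fun q hq => ?_)
    have e : x * q * x⁻¹ = q * (x * q * x⁻¹ * q⁻¹) := by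
      rw [h.Z_comm_Q hq (hx' q hq)]; group
    have h3 := conj_pow_fixed e (h.Z_comm_CZ hx (hx' q hq)) 3
    obtain ⟨n, hn⟩ := mem_zpowers_iff.1 (hx' q hq)
    rw [← hn, ← zpow_natCast (h.z ^ n), ← zpow_mul, mul_comm, zpow_mul, zpow_natCast, h.z_cube,
      one_zpow, mul_one] at h3
    exact (mul_inv_eq_iff_eq_mul.1 h3).symm
  let K : Subgroup h.NZ :=
    { carrier := {x | (x : G) ∈ h.CZ ∧ ∀ q ∈ h.Q, (x : G) * q * (x : G)⁻¹ * q⁻¹ ∈ h.Z}
      one_mem' := ⟨one_mem _, fun q hq => by simp⟩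
      mul_mem' := by
        rintro ⟨a, ha⟩ ⟨b, hb⟩ ⟨ha1, ha2⟩ ⟨hb1, hb2⟩
        refine ⟨mul_mem ha1 hb1, fun q hq => ?_⟩
        have e : a * b * q * (a * b)⁻¹ * q⁻¹ =
            a * (b * q * b⁻¹ * q⁻¹) * a⁻¹ * (a * q * a⁻¹ * q⁻¹) := by group
        show a * b * q * (a * b)⁻¹ * q⁻¹ ∈ h.Z
        rw [e, h.Z_comm_CZ ha1 (hb2 q hq)]
        exact mul_mem (hb2 q hq) (ha2 q hq)
      inv_mem' := by
        rintro ⟨a, ha⟩ ⟨ha1, ha2⟩
        refine ⟨inv_mem ha1, fun q hq => ?_⟩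
        have e : a⁻¹ * q * a⁻¹⁻¹ * q⁻¹ = (a⁻¹ * (a * q * a⁻¹ * q⁻¹) * a)⁻¹ := by group
        show a⁻¹ * q * a⁻¹⁻¹ * q⁻¹ ∈ h.Z
        rw [e]
        have := h.Z_comm_CZ (inv_mem ha1) (ha2 q hq)
        rw [inv_inv] at this
        rw [this]
        exact inv_mem (ha2 q hq) }
  haveI hKn : K.Normal := ⟨fun x hx y => by
    obtain ⟨hx1, hx2⟩ := hx
    have hyn : ∀ c ∈ h.Z, (y : G) * c * (y : G)⁻¹ ∈ h.Z := fun c hc => (mem_normalizer_iff.1 y.2 c).1 hc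
    refine ⟨h.mem_CZ.2 ?_, fun q hq => ?_⟩
    · have hzc : (y : G)⁻¹ * h.z * y ∈ h.Z := by
        refine (mem_normalizer_iff.1 y.2 _).2 ?_
        rw [show (y : G) * ((y : G)⁻¹ * h.z * y) * (y : G)⁻¹ = h.z by group]
        exact mem_zpowers _
      have := h.Z_comm_CZ hx1 hzc
      calc (y : G) * x * (y : G)⁻¹ * h.z = (y : G) * (x * ((y : G)⁻¹ * h.z * y) * (x : G)⁻¹) * x * (y : G)⁻¹ := by
            group
        _ = (y : G) * ((y : G)⁻¹ * h.z * y) * x * (y : G)⁻¹ := by rw [this]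
        _ = h.z * ((y : G) * x * (y : G)⁻¹) := by group
    · have hq' : (y : G)⁻¹ * q * y ∈ h.Q := by
        have := h.conj_Q (inv_mem y.2) hq
        rwa [inv_inv] at this
      have := hyn _ (hx2 _ hq')
      show (y : G) * x * (y : G)⁻¹ * q * ((y : G) * x * (y : G)⁻¹)⁻¹ * q⁻¹ ∈ h.Z
      convert this using 1
      group⟩
  have hKp : IsPGroup 3 K := fun ⟨x, hx1, hx2⟩ => by
    refine ⟨2, Subtype.ext (Subtype.ext ?_)⟩
    show ((x : G)) ^ (3 ^ 2) = 1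
    rw [show 3 ^ 2 = 3 * 3 from rfl, pow_mul]
    exact h.Q_exp _ (hcube x hx1 hx2)
  rw [h.Q_eq]
  exact ⟨⟨g, h.CZ_le_NZ hg⟩, CfsgLib.Amalgam.le_pCore hKn hKp (show _ ∈ K from ⟨hg, ht⟩), rfl⟩

theorem piL_eq_iff {x y : G} (hx : x ∈ h.L0) (hy : y ∈ h.L0) :
    h.piL ⟨x, hx⟩ = h.piL ⟨y, hy⟩ ↔ y⁻¹ * x ∈ h.Q := by
  have e : ((⟨y, hy⟩ : h.L0)⁻¹ * ⟨x, hx⟩) ∈ h.piL.ker ↔ y⁻¹ * x ∈ h.Q := by
    rw [h.piL_ker, mem_subgroupOf]; rfl
  rw [← e, MonoidHom.mem_ker, map_mul, map_inv, inv_mul_eq_one]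
  exact eq_comm

/-- An element of `L0` mapping to the central involution inverts `Q` modulo the centre. -/
theorem neg_one_inverts {g : G} (hg : g ∈ h.L0) (hpi : h.piL ⟨g, hg⟩ = -1) {q : G} (hq : q ∈ h.Q) :
    g * q * g⁻¹ * q ∈ h.Z ∧ (g * q * g⁻¹ * q⁻¹ ∈ h.Z → q ∈ h.Z) := by
  have hgC := h.L0_le_CZ hg
  have hg2 : g * g ∈ h.Q := by
    have : (⟨g, hg⟩ * ⟨g, hg⟩ : h.L0) ∈ h.piL.ker := by
      rw [MonoidHom.mem_ker, map_mul, hpi]; exact sl_neg_one.2.1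
    rwa [h.piL_ker, mem_subgroupOf] at this
  obtain ⟨f, hf, h5, h1⟩ := h.exists_five
  have hfW : ∀ w ∈ h.fixQ g hgC, f * w * f⁻¹ ∈ h.fixQ g hgC := by
    rintro w ⟨hw, hw'⟩
    refine ⟨h.conj_Q (h.CZ_le_NZ (h.L0_le_CZ hf)) hw, ?_⟩
    -- `f⁻¹ g f` is `g` times an element of `Q`
    have hk : g⁻¹ * (f⁻¹ * g * f) ∈ h.Q := by
      have : (⟨g, hg⟩⁻¹ * (⟨f, hf⟩⁻¹ * ⟨g, hg⟩ * ⟨f, hf⟩) : h.L0) ∈ h.piL.ker := by
        rw [MonoidHom.mem_ker, map_mul, map_mul, map_mul, map_inv, map_inv, hpi,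
          mul_assoc (h.piL ⟨f, hf⟩)⁻¹, sl_neg_one.2.2, inv_mul_cancel_left, inv_mul_cancel]
      rwa [h.piL_ker, mem_subgroupOf] at this
    set k := g⁻¹ * (f⁻¹ * g * f)
    have hkw : k * w * k⁻¹ * w⁻¹ ∈ h.Z := h.Q_comm k hk w hw
    have e : g * (f * w * f⁻¹) * g⁻¹ * (f * w * f⁻¹)⁻¹ =
        f * (g * (k * w * k⁻¹ * w⁻¹) * g⁻¹ * (g * w * g⁻¹ * w⁻¹)) * f⁻¹ := by
      simp only [k]; group
    rw [e, h.Z_comm_CZ hgC hkw, h.Z_comm_CZ (h.L0_le_CZ hf) (mul_mem hkw hw')]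
    exact mul_mem hkw hw'
  have hW : h.fixQ g hgC = h.Z := by
    refine (h.irreducible (h.L0_le_CZ hf) h5 h1 (fun x hx => ((h.mem_fixQ hgC).1 hx).1) (h.Z_le_fixQ hgC) hfW).resolve_right
      fun e => ?_
    have hgQ := h.mem_Q_of_trivial hgC fun x hx => (e.ge hx).2
    have : (⟨g, hg⟩ : h.L0) ∈ h.piL.ker := by rw [h.piL_ker, mem_subgroupOf]; exact hgQ
    rw [MonoidHom.mem_ker, hpi] at this
    exact sl_neg_one.1 this
  refine ⟨?_, fun hz => hW.le ⟨hq, hz⟩⟩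
  have hgq := h.conj_Q (h.CZ_le_NZ hgC) hq
  have hmem : g * q * g⁻¹ * q ∈ h.fixQ g hgC := by
    refine ⟨mul_mem hgq hq, ?_⟩
    have hkq := h.Q_comm (g * g) hg2 q hq
    have hc := h.Q_comm q hq (g * q * g⁻¹) hgq
    have e : g * (g * q * g⁻¹ * q) * g⁻¹ * (g * q * g⁻¹ * q)⁻¹ =
        (g * g * q * (g * g)⁻¹ * q⁻¹) * (q * (g * q * g⁻¹) * q⁻¹ * (g * q * g⁻¹)⁻¹) := by group
    rw [e]
    exact mul_mem hkq hc
  exact hW.le hmem

/-- The fixed points modulo the centre of an element of `J` outside `A` lie in `A`. -/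
theorem fix_j {j q : G} (hj : j ∈ h.J) (hjA : j ∉ h.Q) (hq : q ∈ h.Q)
    (hc : j * q * j⁻¹ * q⁻¹ ∈ h.Z) : q ∈ h.A := by
  have hjL : j ∈ h.L0 := h.S_le_L0 (h.J_le hj)
  have hjC := h.L0_le_CZ hjL
  set a := h.piL ⟨j, hjL⟩ with ha
  have ha3 : a ^ 3 = 1 := by
    rw [ha, ← map_pow, show (⟨j, hjL⟩ : h.L0) ^ 3 = 1 from Subtype.ext (h.J_exp j hj), map_one]
  have ha1 : a ≠ 1 := fun e => hjA (by
    have : (⟨j, hjL⟩ : h.L0) ∈ h.piL.ker := MonoidHom.mem_ker.2 e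
    rwa [h.piL_ker, mem_subgroupOf] at this)
  obtain ⟨c, k, hk⟩ := sl_three a ha3 ha1
  obtain ⟨⟨g, hg⟩, rfl⟩ := h.piL_surj c
  set W := h.fixQ j hjC
  have hAW : h.A ≤ W := fun x hx => ⟨hx.2, by rw [h.J_comm j hj x hx.1]; simp⟩
  by_contra hqA
  have hlt : 81 ≤ Nat.card W := by
    obtain ⟨m, -, hm⟩ := h.card_three_pow (show W ≤ (h.S : Subgroup G) from fun x hx => h.Q_le_S hx.1)
    have : Nat.card h.A < Nat.card W := lt_of_le_of_ne (Subgroup.card_le_of_le hAW) fun e =>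
      hqA (Subgroup.eq_of_le_of_card_ge hAW e.ge ▸ (show q ∈ W from ⟨hq, hc⟩))
    rw [h.card_A, hm, show (27 : ℕ) = 3 ^ 3 by norm_num] at this
    have h4 := (Nat.pow_lt_pow_iff_right (by norm_num)).1 this
    rw [hm]
    exact (by norm_num : (81 : ℕ) = 3 ^ 4) ▸ Nat.pow_le_pow_right (by norm_num) h4
  set W' := W.map (MulAut.conj g).toMonoidHom with hW'
  have hW'Q : W' ≤ h.Q := by
    rintro _ ⟨x, hx, rfl⟩; exact h.conj_Q (h.CZ_le_NZ (h.L0_le_CZ hg)) hx.1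
  have hbig : 3 < Nat.card ↥(W ⊓ W') := by
    have h1 := CfsgLib.PLocal.card_mul_le_card_sup_mul_inf W W'
    have h2 : Nat.card ↥(W ⊔ W') ≤ 243 := h.Q_card ▸
      Subgroup.card_le_of_le (sup_le (fun x hx => hx.1) hW'Q)
    rw [Subgroup.card_map_of_injective (MulAut.conj g).injective] at h1
    nlinarith
  suffices hsub : W ⊓ W' ≤ h.Z by
    have := Subgroup.card_le_of_le hsub
    rw [h.card_Z] at this
    omega
  intro x hx
  obtain ⟨hxW, y, hy, rfl⟩ := hx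
  have hxQ : (MulAut.conj g).toMonoidHom y ∈ h.Q := hxW.1
  -- both generators fix it modulo the centre
  set j' := g * j * g⁻¹
  have hj'L : j' ∈ h.L0 := mul_mem (mul_mem hg hjL) (inv_mem hg)
  have hj'C := h.L0_le_CZ hj'L
  have hj' : (MulAut.conj g).toMonoidHom y ∈ h.fixQ j' hj'C := by
    refine ⟨hxQ, ?_⟩
    show j' * (g * y * g⁻¹) * j'⁻¹ * (g * y * g⁻¹)⁻¹ ∈ h.Z
    rw [show j' * (g * y * g⁻¹) * j'⁻¹ * (g * y * g⁻¹)⁻¹ = g * (j * y * j⁻¹ * y⁻¹) * g⁻¹ by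
      simp only [j']; group, h.Z_comm_CZ (h.L0_le_CZ hg) hy.2]
    exact hy.2
  set x := (MulAut.conj g).toMonoidHom y
  have hpow : ∀ n : ℕ, (j * j') ^ n * x * ((j * j') ^ n)⁻¹ * x⁻¹ ∈ h.Z := by
    intro n
    induction n with
    | zero => simp
    | succ n ih =>
      have hP : (j * j') ∈ h.CZ := mul_mem hjC hj'C
      have key : ∀ P : G, P ^ (n + 1) * x * (P ^ (n + 1))⁻¹ * x⁻¹ =
          P * (P ^ n * x * (P ^ n)⁻¹ * x⁻¹) * P⁻¹ * (P * x * P⁻¹ * x⁻¹) := fun P => by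
        rw [pow_succ']; group
      have e := key (j * j')
      have e2 : (j * j') * x * (j * j')⁻¹ * x⁻¹ =
          j * (j' * x * j'⁻¹ * x⁻¹) * j⁻¹ * (j * x * j⁻¹ * x⁻¹) := by group
      rw [e, h.Z_comm_CZ hP ih, e2, h.Z_comm_CZ hjC hj'.2]
      exact mul_mem ih (mul_mem hj'.2 hxW.2)
  have hkL : (j * j') ^ (k : ℕ) ∈ h.L0 := pow_mem (mul_mem hjL hj'L) _
  refine (h.neg_one_inverts hkL ?_ hxQ).2 (hpow k)
  rw [← hk, ha, show (⟨(j * j') ^ (k : ℕ), hkL⟩ : h.L0) =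
    (⟨j, hjL⟩ * (⟨g, hg⟩ * ⟨j, hjL⟩ * ⟨g, hg⟩⁻¹)) ^ (k : ℕ) from Subtype.ext (by simp [j']),
    map_pow, map_mul, map_mul, map_mul, map_inv]

theorem exists_mul {s : G} (hs : s ∈ (h.S : Subgroup G)) : ∃ j ∈ h.J, ∃ q ∈ h.Q, s = j * q := by
  rw [← h.sup_JQ] at hs
  have hmem : s ∈ ((h.J ⊔ h.Q : Subgroup G) : Set G) := hs
  rw [coe_mul_of_left_le_normalizer_right _ _
    ((h.J_le.trans h.S_le_CZ).trans (h.CZ_le_NZ.trans h.NZ_le_normQ))] at hmem
  obtain ⟨j, hj, q, hq, e⟩ := hmem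
  exact ⟨j, hj, q, hq, e.symm⟩

theorem centS_A {s : G} (hs : s ∈ (h.S : Subgroup G)) (hc : ∀ a ∈ h.A, s * a = a * s) : s ∈ h.J := by
  obtain ⟨j, hj, q, hq, rfl⟩ := h.exists_mul hs
  refine mul_mem hj (h.centQ_A hq fun a ha => ?_).1
  have h1 := hc a ha
  have h2 : j⁻¹ * a = a * j⁻¹ := h.J_comm j⁻¹ (inv_mem hj) a ha.1
  calc q * a = j⁻¹ * (j * q * a) := by group
    _ = (j⁻¹ * a) * (j * q) := by rw [h1]; group
    _ = a * q := by rw [h2]; group

/-- `J` is the only subgroup of its kind in the Sylow subgroup. -/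
theorem unique_in_S {J' : Subgroup G} (hle : J' ≤ h.S) (hc : ∀ a ∈ J', ∀ b ∈ J', a * b = b * a)
    (hcard : Nat.card J' = 81) : J' = h.J := by
  set A' := J' ⊓ h.Q
  have hA' : 27 ≤ Nat.card A' := by
    have h1 := h.card_sup_mul hle h.Q_le_S
    rw [hcard, h.Q_card] at h1
    change _ ≤ 729 * Nat.card A' at h1
    omega
  by_cases hex : ∃ s ∈ J', s ∉ h.Q
  · obtain ⟨s, hs, hsQ⟩ := hex
    obtain ⟨j, hj, q, hq, rfl⟩ := h.exists_mul (hle hs)
    have hjQ : j ∉ h.Q := fun hh => hsQ (mul_mem hh hq)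
    have hAA : A' ≤ h.A := fun a ha => by
      refine h.fix_j hj hjQ ha.2 ?_
      have hc1 := hc _ hs a ha.1
      have hz := h.Q_comm q hq a ha.2
      have e3 : j * (q * a * q⁻¹) * j⁻¹ = a := by
        calc j * (q * a * q⁻¹) * j⁻¹ = j * q * a * (j * q)⁻¹ := by group
          _ = a := by rw [hc1]; group
      have e : j * a * j⁻¹ * a⁻¹ = (j * (q * a * q⁻¹ * a⁻¹) * j⁻¹)⁻¹ := by
        calc j * a * j⁻¹ * a⁻¹ = j * a * j⁻¹ * (j * (q * a * q⁻¹) * j⁻¹)⁻¹ := by rw [e3]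
          _ = _ := by group
      rw [e, h.Z_comm_CZ (h.S_le_CZ (h.J_le hj)) hz]
      exact inv_mem hz
    have hA'eq : A' = h.A := Subgroup.eq_of_le_of_card_ge hAA (by rw [h.card_A]; exact hA')
    exact Subgroup.eq_of_le_of_card_ge
      (fun x hx => h.centS_A (hle hx) fun a ha => hc x hx a (hA'eq.ge ha).1)
      (by rw [hcard, h.J_card])
  · push Not at hex
    have := h.card_abelian_Q (B := J') hex hc
    omega

theorem J_isPGroup : IsPGroup 3 h.J := IsPGroup.of_card (n := 4) (by rw [h.J_card]; norm_num)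

/-- `J` is the only subgroup of its kind in every `3`-subgroup containing it. -/
theorem unique_J {P J' : Subgroup G} (hP : IsPGroup 3 P) (hJP : h.J ≤ P) (hle : J' ≤ P)
    (hc : ∀ a ∈ J', ∀ b ∈ J', a * b = b * a) (hcard : Nat.card J' = 81) : J' = h.J := by
  haveI : Fact (Nat.Prime 3) := ⟨by norm_num⟩
  obtain ⟨T, hT⟩ := hP.exists_le_sylow
  obtain ⟨g, hg⟩ := MulAction.exists_smul_eq G T h.S
  have key : ∀ K : Subgroup G, K ≤ P → (∀ a ∈ K, ∀ b ∈ K, a * b = b * a) → Nat.card K = 81 →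
      K.map (MulAut.conj g).toMonoidHom = h.J := by
    intro K hK hKc hKn
    refine h.unique_in_S ?_ ?_ ?_
    · rw [← hg, Sylow.coe_subgroup_smul]
      rintro _ ⟨x, hx, rfl⟩
      exact ⟨x, hT (hK hx), rfl⟩
    · rintro _ ⟨a, ha, rfl⟩ _ ⟨b, hb, rfl⟩
      rw [← map_mul, hKc a ha b hb, map_mul]
    · rw [Subgroup.card_map_of_injective (MulAut.conj g).injective, hKn]
  exact Subgroup.map_injective (MulAut.conj g).injective
    ((key J' hle hc hcard).trans (key h.J hJP h.J_comm h.J_card).symm)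

/-- `J` is self-centralising. -/
theorem cent_J : centralizer (h.J : Set G) = h.J := by
  haveI : Fact (Nat.Prime 3) := ⟨by norm_num⟩
  refine le_antisymm ?_ fun x hx => mem_centralizer_iff.2 fun y hy => h.J_comm y hy x hx
  set C := centralizer (h.J : Set G)
  have hCC : C ≤ h.CZ := fun c hc => h.mem_CZ.2 (mem_centralizer_iff.1 hc h.z h.z_mem_J).symm
  have hCp : IsPGroup 3 C := fun ⟨c, hc⟩ => by
    refine ⟨2, Subtype.ext ?_⟩
    show c ^ (3 ^ 2) = 1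
    rw [show 3 ^ 2 = 3 * 3 from rfl, pow_mul]
    refine h.Q_exp _ (h.cent_Q (mem_centralizer_iff.2 fun q hq => ?_))
    have hca : ∀ a ∈ h.A, c * a = a * c := fun a ha => (mem_centralizer_iff.1 hc a ha.1).symm
    have ha := h.comm_mem_A hq (h.conj_Q (h.CZ_le_NZ (hCC hc)) hq) (h.mem_CZ.1 (hCC hc)) hca
    have hqa : q * (q⁻¹ * (c * q * c⁻¹)) = c * q * c⁻¹ := by group
    have hm : q⁻¹ * (c * q * c⁻¹) ∈ h.A := by
      refine h.centQ_A (mul_mem (inv_mem hq) (h.conj_Q (h.CZ_le_NZ (hCC hc)) hq)) fun b hb => ?_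
      have hz := h.Q_comm q⁻¹ (inv_mem hq) (c * q * c⁻¹ * q⁻¹) ha.2
      have e : q⁻¹ * (c * q * c⁻¹) =
          (q⁻¹ * (c * q * c⁻¹ * q⁻¹) * q⁻¹⁻¹ * (c * q * c⁻¹ * q⁻¹)⁻¹) * (c * q * c⁻¹ * q⁻¹) := by
        group
      rw [e, mul_assoc, h.A_comm _ ha b hb, ← mul_assoc, ← h.Z_comm_Q hb.2 hz, mul_assoc]
    have h3 := conj_pow_fixed hqa.symm (by rw [hca _ hm, mul_inv_cancel_right]) 3
    rw [h.J_exp _ hm.1, mul_one] at h3
    exact (mul_inv_eq_iff_eq_mul.1 h3).symm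
  obtain ⟨T, hT⟩ := hCp.exists_le_sylow
  obtain ⟨g, hg⟩ := MulAction.exists_smul_eq G T h.S
  have hJC : h.J ≤ C := fun x hx => mem_centralizer_iff.2 fun y hy => h.J_comm y hy x hx
  have hJS : h.J.map (MulAut.conj g).toMonoidHom = h.J := by
    refine h.unique_in_S ?_ ?_ ?_
    · rw [← hg, Sylow.coe_subgroup_smul]
      rintro _ ⟨x, hx, rfl⟩
      exact ⟨x, hT (hJC hx), rfl⟩
    · rintro _ ⟨a, ha, rfl⟩ _ ⟨b, hb, rfl⟩
      rw [← map_mul, h.J_comm a ha b hb, map_mul]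
    · rw [Subgroup.card_map_of_injective (MulAut.conj g).injective, h.J_card]
  intro c hc
  have hcS : (MulAut.conj g).toMonoidHom c ∈ (h.S : Subgroup G) := by
    rw [← hg, Sylow.coe_subgroup_smul]; exact ⟨c, hT hc, rfl⟩
  have hmem : (MulAut.conj g).toMonoidHom c ∈ h.J := h.centS_A hcS fun a ha => by
    obtain ⟨b, hb, rfl⟩ := hJS.ge ha.1
    rw [← map_mul, ← map_mul, mem_centralizer_iff.1 hc b hb]
  obtain ⟨b, hb, e⟩ := hJS.ge hmem
  exact (MulAut.conj g).injective e ▸ hb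

/-- Conjugation of elements of `J` is realised in the normaliser of `J`. -/
theorem fusion_J {x g : G} (hx : x ∈ h.J) (hgx : g * x * g⁻¹ ∈ h.J) :
    ∃ n ∈ normalizer (h.J : Set G), n * x * n⁻¹ = g * x * g⁻¹ := by
  haveI : Fact (Nat.Prime 3) := ⟨by norm_num⟩
  set y := g * x * g⁻¹
  set C := centralizer ({y} : Set G)
  set J' := h.J.map (MulAut.conj g).toMonoidHom
  have hJC : h.J ≤ C := fun a ha => mem_centralizer_singleton_iff.2 (h.J_comm a ha y hgx)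
  have hJ'C : J' ≤ C := by
    rintro _ ⟨a, ha, rfl⟩
    refine mem_centralizer_singleton_iff.2 ?_
    show g * a * g⁻¹ * (g * x * g⁻¹) = g * x * g⁻¹ * (g * a * g⁻¹)
    rw [show g * a * g⁻¹ * (g * x * g⁻¹) = g * (a * x) * g⁻¹ by group, h.J_comm a ha x hx]
    group
  have hp : ∀ K : Subgroup G, Nat.card K = 81 → IsPGroup 3 K := fun K hK =>
    IsPGroup.of_card (n := 4) (by rw [hK]; norm_num)
  have hJ'card : Nat.card J' = 81 := by
    rw [Subgroup.card_map_of_injective (MulAut.conj g).injective, h.J_card]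
  obtain ⟨P, hP⟩ := ((hp _ h.J_card).comap_subtype (K := C)).exists_le_sylow
  obtain ⟨P', hP'⟩ := ((hp _ hJ'card).comap_subtype (K := C)).exists_le_sylow
  obtain ⟨c, hc⟩ := MulAction.exists_smul_eq C P' P
  have hPG : IsPGroup 3 ((P : Subgroup C).map C.subtype) := P.isPGroup'.map _
  have heq : J'.map (MulAut.conj (c : G)).toMonoidHom = h.J := by
    refine h.unique_J hPG ?_ ?_ ?_ ?_
    · exact fun a ha => ⟨⟨a, hJC ha⟩, hP (show _ ∈ h.J.subgroupOf C from ha), rfl⟩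
    · rintro _ ⟨a, ha, rfl⟩
      refine ⟨c * ⟨a, hJ'C ha⟩ * c⁻¹, ?_, rfl⟩
      rw [← hc, Sylow.coe_subgroup_smul]
      exact ⟨⟨a, hJ'C ha⟩, hP' (show _ ∈ J'.subgroupOf C from ha), rfl⟩
    · rintro _ ⟨_, ⟨a, ha, rfl⟩, rfl⟩ _ ⟨_, ⟨b, hb, rfl⟩, rfl⟩
      rw [← map_mul, ← map_mul, h.J_comm a ha b hb, map_mul, map_mul]
    · rw [Subgroup.card_map_of_injective (MulAut.conj (c : G)).injective, hJ'card]
  refine ⟨(c : G) * g, ?_, ?_⟩
  · refine mem_normalizer_iff.2 fun a => ?_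
    have hmap : h.J.map (MulAut.conj ((c : G) * g)).toMonoidHom = h.J := by
      refine Eq.trans ?_ heq
      show _ = (h.J.map (MulAut.conj g).toMonoidHom).map (MulAut.conj (c : G)).toMonoidHom
      rw [Subgroup.map_map]
      congr 1
      rw [map_mul]
      rfl
    constructor
    · exact fun ha => hmap.le ⟨a, ha, rfl⟩
    · intro ha
      obtain ⟨b, hb, e⟩ := hmap.ge ha
      exact (MulAut.conj ((c : G) * g)).injective e ▸ hb
  · rw [show (c : G) * g * x * ((c : G) * g)⁻¹ = (c : G) * y * (c : G)⁻¹ by simp only [y]; group,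
      mem_centralizer_singleton_iff.1 c.2, mul_inv_cancel_right]

end Hyp

end CfsgLib.Recog.McLThree
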