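import Cfsg.Prelude.Def_KGroupFacts
import Cfsg.Agent.S2073

/-!
A group with a self-centralising normal subgroup of index two isomorphic to the McLaughlin group is its
automorphism group.
-/

set_option autoImplicit false

namespace CfsgLib.Recog.McLThree

open Subgroup

universe u

/-- An automorphism group read off from an index two subgroup. -/
theorem mulEquiv_mulAut_of_index_two {G : Type u} [Group G] [Finite G] (N : Subgroup G) [hN : N.Normal]
    (hN2 : N.index = 2) (e : N ≃* Cfsg.Spor.McL) (hC : centralizer (N : Set G) = ⊥) :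
    Nonempty (G ≃* MulAut Cfsg.Spor.McL) := by
  classical
  haveI : Finite Cfsg.Spor.McL := Finite.of_equiv _ e.toEquiv
  have hcen : ∀ x : N, (∀ y : N, x * y = y * x) → x = 1 := fun x hx => by
    have hx' : (x : G) ∈ centralizer (N : Set G) := mem_centralizer_iff.2 fun y hy =>
      (congrArg Subtype.val (hx ⟨y, hy⟩)).symm
    rw [hC, mem_bot] at hx'
    exact Subtype.ext hx'
  have hconj : Function.Injective (MulAut.conj : Cfsg.Spor.McL →* MulAut Cfsg.Spor.McL) := by
    rw [← MonoidHom.ker_eq_bot_iff, eq_bot_iff]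
    intro a ha
    rw [mem_bot, ← e.symm.map_eq_one_iff]
    refine hcen _ fun y => ?_
    apply e.injective
    have h : a * e y * a⁻¹ = e y := by
      have := DFunLike.congr_fun (MonoidHom.mem_ker.1 ha) (e y)
      simpa using this
    rw [map_mul, map_mul, e.apply_symm_apply]
    exact mul_inv_eq_iff_eq_mul.1 h
  let φ : G →* MulAut Cfsg.Spor.McL := (MulAut.congr e).toMonoidHom.comp (MulAut.conjNormal (H := N))
  have hφ : Function.Injective φ := by
    refine (MulAut.congr e).injective.comp ?_
    rw [← MonoidHom.ker_eq_bot_iff, eq_bot_iff]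
    intro g hg
    have hg' : g ∈ centralizer (N : Set G) := mem_centralizer_iff.2 fun y hy => by
      have := congrArg Subtype.val (DFunLike.congr_fun (MonoidHom.mem_ker.1 hg) ⟨y, hy⟩)
      simp at this
      exact (mul_inv_eq_iff_eq_mul.1 this).symm
    rwa [hC] at hg'
  haveI : Finite (Cfsg.Out Cfsg.Spor.McL) := Nat.finite_of_card_ne_zero (by
    rw [Cfsg.Agent.S2073.result]; norm_num)
  have hcard : Nat.card (MulAut Cfsg.Spor.McL) ≤ Nat.card G := by
    refine le_of_eq ?_
    rw [Subgroup.card_eq_card_quotient_mul_card_subgroup (Cfsg.Inn Cfsg.Spor.McL),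
      Cfsg.Agent.S2073.result, ← Nat.card_congr (MonoidHom.ofInjective hconj).toEquiv,
      ← Nat.card_congr e.toEquiv, ← N.card_mul_index, hN2, mul_comm]
  exact ⟨MulEquiv.ofBijective φ (hφ.bijective_of_nat_card_le hcard)⟩

end CfsgLib.Recog.McLThree
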