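import Cfsg.Prelude.Def_Solvable
import Cfsg.Agent.Lib.PLocal.Replace
import Cfsg.Agent.Lib.Amalgam.PCore
import Mathlib.LinearAlgebra.Matrix.SpecialLinearGroup
import Mathlib.GroupTheory.SpecificGroups.Alternating
import Mathlib.Tactic

/-!
The hypotheses of the `3`-local characterisation of the McLaughlin group and their first
consequences.
-/

set_option autoImplicit false
set_option linter.style.haveILetI false

namespace CfsgLib.Recog.McLThree

open Subgroup

variable {G : Type*} [Group G] [Finite G]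

/-- The `3`-local data: `J` elementary abelian of order `3^4`, `M0/J` alternating of degree six, `Q` the
extraspecial core of the normaliser of the centre `⟨z⟩` of a Sylow `3`-subgroup, `L0/Q` the binary
icosahedral group. -/
structure Hyp (G : Type*) [Group G] [Finite G] where
  /-- The Sylow subgroup. -/
  S : Sylow 3 G
  /-- The elementary abelian subgroup. -/
  J : Subgroup G
  /-- The extraspecial subgroup. -/
  Q : Subgroup G
  /-- The subgroup generated by the `3`-elements of the normaliser of `J`. -/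
  M0 : Subgroup G
  /-- The subgroup generated by the `3`-elements of the normaliser of the centre. -/
  L0 : Subgroup G
  /-- The generator of the centre. -/
  z : G
  z_order : orderOf z = 3
  Z_eq : (S : Subgroup G) ⊓ centralizer ((S : Subgroup G) : Set G) = zpowers z
  J_le : J ≤ S
  J_comm : ∀ a ∈ J, ∀ b ∈ J, a * b = b * a
  J_exp : ∀ a ∈ J, a ^ 3 = 1
  J_card : Nat.card J = 81
  M0_eq : M0 = closure {g : G | g ∈ normalizer (J : Set G) ∧ ∃ k : ℕ, orderOf g = 3 ^ k}
  J_le_M0 : J ≤ M0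
  /-- The map onto the alternating group. -/
  piM : M0 →* alternatingGroup (Fin 6)
  piM_surj : Function.Surjective piM
  piM_ker : piM.ker = J.subgroupOf M0
  L0_eq : L0 = closure {g : G | g ∈ normalizer (zpowers z : Set G) ∧ ∃ k : ℕ, orderOf g = 3 ^ k}
  Q_eq : Q = (Cfsg.pCore 3 (normalizer (zpowers z : Set G))).map
    (normalizer (zpowers z : Set G)).subtype
  Q_card : Nat.card Q = 243
  Q_exp : ∀ a ∈ Q, a ^ 3 = 1
  Q_comm : ∀ a ∈ Q, ∀ b ∈ Q, a * b * a⁻¹ * b⁻¹ ∈ zpowers z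
  Q_center : ∀ a ∈ Q, (∀ b ∈ Q, a * b = b * a) → a ∈ zpowers z
  Q_le_L0 : Q ≤ L0
  /-- The map onto the binary icosahedral group. -/
  piL : L0 →* Matrix.SpecialLinearGroup (Fin 2) (ZMod 5)
  piL_surj : Function.Surjective piL
  piL_ker : piL.ker = Q.subgroupOf L0
  cent_Q' : z ∈ J → centralizer (Q : Set G) ≤ Q

namespace Hyp

variable (h : Hyp G)

/-- The centre. -/
abbrev Z : Subgroup G := zpowers h.z

/-- The normaliser of the centre. -/
abbrev NZ : Subgroup G := normalizer (h.Z : Set G)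

/-- The centraliser of the centre. -/
abbrev CZ : Subgroup G := centralizer ({h.z} : Set G)

/-- The intersection of `J` with `Q`. -/
abbrev A : Subgroup G := h.J ⊓ h.Q

theorem z_ne : h.z ≠ 1 := fun e => by
  have := h.z_order
  rw [e, orderOf_one] at this
  omega

theorem z_cube : h.z ^ 3 = 1 := by
  rw [← h.z_order]; exact pow_orderOf_eq_one h.z

theorem card_Z : Nat.card h.Z = 3 := by rw [Nat.card_zpowers, h.z_order]

theorem mem_CZ {g : G} : g ∈ h.CZ ↔ g * h.z = h.z * g := by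
  rw [mem_centralizer_singleton_iff]

theorem CZ_le_NZ : h.CZ ≤ h.NZ := by
  intro g hg
  refine mem_normalizer_iff.2 fun x => ?_
  have hz : ∀ k : ℤ, g * h.z ^ k * g⁻¹ = h.z ^ k := fun k => by
    rw [(Commute.zpow_right (show Commute g h.z from h.mem_CZ.1 hg) k).eq, mul_inv_cancel_right]
  constructor
  · intro hx
    obtain ⟨k, rfl⟩ := mem_zpowers_iff.1 hx
    rw [hz]; exact zpow_mem (mem_zpowers _) k
  · intro hx
    obtain ⟨k, e⟩ := mem_zpowers_iff.1 hx
    refine mem_zpowers_iff.2 ⟨k, ?_⟩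
    have : g⁻¹ * (g * h.z ^ k * g⁻¹) * g = g⁻¹ * (g * x * g⁻¹) * g := by rw [hz, e]
    simpa [mul_assoc] using this

theorem z_mem_NZ : h.z ∈ h.NZ := h.CZ_le_NZ (h.mem_CZ.2 rfl)

theorem Q_le_NZ : h.Q ≤ h.NZ := by rw [h.Q_eq]; exact map_subtype_le _

theorem NZ_le_normQ : h.NZ ≤ normalizer (h.Q : Set G) := by
  have hn : (Cfsg.pCore 3 h.NZ).Normal := CfsgLib.Amalgam.normal_pCore
  intro g hg
  refine mem_normalizer_iff.2 fun x => ?_
  rw [h.Q_eq]
  constructor
  · rintro ⟨y, hy, rfl⟩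
    exact ⟨_, hn.conj_mem y hy ⟨g, hg⟩, rfl⟩
  · rintro ⟨y, hy, e⟩
    refine ⟨_, hn.conj_mem y hy ⟨g⁻¹, inv_mem hg⟩, ?_⟩
    rw [map_mul, map_mul, e]
    simp [mul_assoc]

theorem z_mem_S : h.z ∈ (h.S : Subgroup G) := (h.Z_eq.symm.le (mem_zpowers h.z)).1

theorem z_central {s : G} (hs : s ∈ (h.S : Subgroup G)) : s * h.z = h.z * s :=
  mem_centralizer_iff.1 (h.Z_eq.symm.le (mem_zpowers h.z)).2 s hs

theorem S_le_CZ : (h.S : Subgroup G) ≤ h.CZ := fun _ hs => h.mem_CZ.2 (h.z_central hs)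

theorem orderOf_pow_three {P : Subgroup G} (hP : IsPGroup 3 P) {g : G} (hg : g ∈ P) :
    ∃ k : ℕ, orderOf g = 3 ^ k := by
  obtain ⟨k, hk⟩ := IsPGroup.iff_orderOf.1 hP ⟨g, hg⟩
  exact ⟨k, by rw [← Subgroup.orderOf_mk g hg]; exact hk⟩

theorem S_le_L0 : (h.S : Subgroup G) ≤ h.L0 := fun s hs => by
  rw [h.L0_eq]
  exact subset_closure ⟨h.CZ_le_NZ (h.S_le_CZ hs), orderOf_pow_three h.S.isPGroup' hs⟩

theorem Q_le_S : h.Q ≤ (h.S : Subgroup G) := by
  have hle : (h.S : Subgroup G) ≤ h.NZ := h.S_le_CZ.trans h.CZ_le_NZ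
  intro q hq
  rw [h.Q_eq] at hq
  obtain ⟨y, hy, rfl⟩ := hq
  exact CfsgLib.Amalgam.pCore_le_sylow (h.S.subtype hle) hy

theorem z_mem_Q : h.z ∈ h.Q := by
  rw [h.Q_eq]
  refine ⟨⟨h.z, h.z_mem_NZ⟩, CfsgLib.Amalgam.le_pCore (N := h.Z.subgroupOf h.NZ)
    normal_in_normalizer ?_ (mem_subgroupOf.2 (mem_zpowers h.z)), rfl⟩
  refine IsPGroup.of_card (n := 1) ?_
  rw [Nat.card_congr (subgroupOfEquivOfLe (zpowers_le.2 h.z_mem_NZ)).toEquiv, h.card_Z, pow_one]

theorem Q_le_CZ : h.Q ≤ h.CZ := h.Q_le_S.trans h.S_le_CZ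

theorem L0_le_CZ : h.L0 ≤ h.CZ := by
  rw [h.L0_eq, closure_le]
  rintro g ⟨hg, k, hk⟩
  obtain ⟨n, hn⟩ := mem_zpowers_iff.1 ((mem_normalizer_iff.1 hg h.z).1 (mem_zpowers h.z))
  refine h.mem_CZ.2 ?_
  -- the image of the generator is `z` or its square
  have key : g * h.z * g⁻¹ = h.z ∨ g * h.z * g⁻¹ = h.z⁻¹ := by
    have e : g * h.z * g⁻¹ = h.z ^ (n % 3) := by
      rw [← hn, show (3 : ℤ) = (orderOf h.z : ℕ) by rw [h.z_order]; rfl, zpow_mod_orderOf]
    have h0 : n % 3 = 0 ∨ n % 3 = 1 ∨ n % 3 = 2 := by omega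
    rcases h0 with e0 | e0 | e0 <;> rw [e0] at e
    · exact absurd (conj_eq_one_iff.1 (e.trans (zpow_zero h.z))) h.z_ne
    · exact Or.inl (by simpa using e)
    · refine Or.inr (e.trans (eq_inv_of_mul_eq_one_left ?_))
      rw [show (2 : ℤ) = ((2 : ℕ) : ℤ) from rfl, zpow_natCast, ← pow_succ, h.z_cube]
  rcases key with e | e
  · exact mul_inv_eq_iff_eq_mul.1 e
  · exfalso
    have hpow : ∀ m : ℕ, g ^ m * h.z * (g ^ m)⁻¹ = h.z ^ ((-1 : ℤ) ^ m) := by
      intro m
      induction m with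
      | zero => simp
      | succ m ih =>
        rw [pow_succ', show g * g ^ m * h.z * (g * g ^ m)⁻¹ = g * (g ^ m * h.z * (g ^ m)⁻¹) * g⁻¹ by group,
          ih, ← conj_zpow, e, inv_zpow, ← zpow_neg]
        congr 1
        ring
    have := hpow (3 ^ k)
    rw [← hk, pow_orderOf_eq_one, hk, Odd.neg_one_pow (Odd.pow (by decide))] at this
    simp only [one_mul, inv_one, mul_one, zpow_neg, zpow_one] at this
    have h2 : h.z ^ 2 = 1 := by
      rw [pow_two]
      nth_rewrite 1 [this]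
      exact inv_mul_cancel _
    have h3 := orderOf_dvd_of_pow_eq_one h2
    rw [h.z_order] at h3
    omega

theorem card_L0 : Nat.card h.L0 = 243 * 120 := by
  have h1 := Subgroup.card_mul_index h.piL.ker
  have h2 : Nat.card (Matrix.SpecialLinearGroup (Fin 2) (ZMod 5)) = 120 := by
    rw [Nat.card_eq_fintype_card]; decide +kernel
  rw [Subgroup.index_ker, MonoidHom.range_eq_top.2 h.piL_surj, Subgroup.card_top, h2, h.piL_ker,
    Nat.card_congr (subgroupOfEquivOfLe h.Q_le_L0).toEquiv, h.Q_card] at h1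
  exact h1.symm

theorem card_S : Nat.card (h.S : Subgroup G) = 729 := by
  haveI : Fact (Nat.Prime 3) := ⟨by norm_num⟩
  have hc := (h.S.subtype h.S_le_L0).card_eq_multiplicity
  rw [h.card_L0, show (243 * 120 : ℕ) = 3 ^ 6 * 40 by norm_num,
    Nat.factorization_mul (by norm_num) (by norm_num), Finsupp.add_apply,
    Nat.Prime.factorization_pow (by norm_num), Finsupp.single_eq_same,
    Nat.factorization_eq_zero_of_not_dvd (show ¬ 3 ∣ 40 by norm_num)] at hc
  rw [← Nat.card_congr (subgroupOfEquivOfLe h.S_le_L0).toEquiv]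
  exact hc

theorem card_sup_mul {H K : Subgroup G} (hH : H ≤ h.S) (hK : K ≤ h.S) :
    Nat.card H * Nat.card K ≤ 729 * Nat.card ↥(H ⊓ K) :=
  (CfsgLib.PLocal.card_mul_le_card_sup_mul_inf H K).trans
    (Nat.mul_le_mul_right _ (h.card_S ▸ Subgroup.card_le_of_le (sup_le hH hK)))

theorem card_three_pow {H : Subgroup G} (hH : H ≤ h.S) : ∃ k ≤ 6, Nat.card H = 3 ^ k := by
  have := Subgroup.card_dvd_of_le hH
  rw [h.card_S, show (729 : ℕ) = 3 ^ 6 by norm_num] at this
  exact (Nat.dvd_prime_pow (by norm_num)).1 this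

/-- An abelian subgroup of `Q` has order at most 27. -/
theorem card_abelian_Q {B : Subgroup G} (hB : B ≤ h.Q) (hc : ∀ a ∈ B, ∀ b ∈ B, a * b = b * a) :
    Nat.card B ≤ 27 := by
  obtain ⟨k, hk6, hk⟩ := h.card_three_pow (hB.trans h.Q_le_S)
  rw [hk]
  by_contra hbig
  have hk4 : 4 ≤ k := by
    by_contra h4
    have : 3 ^ k ≤ 3 ^ 3 := Nat.pow_le_pow_right (by norm_num) (by omega)
    omega
  have hk5 : k ≤ 5 := by
    by_contra h5
    have h1 := Subgroup.card_le_of_le hB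
    rw [hk, h.Q_card] at h1
    have : 3 ^ 6 ≤ 3 ^ k := Nat.pow_le_pow_right (by norm_num) (by omega)
    omega
  -- an element outside `B`, and the kernel of the pairing with it
  by_cases hex : ∃ q ∈ h.Q, q ∉ B
  · obtain ⟨q, hq, hqB⟩ := hex
    have hgen : B ⊔ zpowers q = h.Q := by
      refine Subgroup.eq_of_le_of_card_ge (sup_le hB (zpowers_le.2 hq)) ?_
      have hlt : Nat.card B < Nat.card ↥(B ⊔ zpowers q) := by
        refine lt_of_le_of_ne (Subgroup.card_le_of_le le_sup_left) fun e => hqB ?_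
        rw [Subgroup.eq_of_le_of_card_ge le_sup_left e.ge]
        exact mem_sup_right (mem_zpowers q)
      obtain ⟨m, -, hm⟩ := h.card_three_pow
        ((sup_le hB (zpowers_le.2 hq)).trans h.Q_le_S)
      rw [hm] at hlt ⊢
      rw [hk] at hlt
      have hlt' : k < m := (Nat.pow_lt_pow_iff_right (by norm_num)).1 hlt
      rw [h.Q_card, show (243 : ℕ) = 3 ^ 5 by norm_num]
      exact Nat.pow_le_pow_right (by norm_num) (by omega)
    have hcomm : ∀ b ∈ B, q * b * q⁻¹ * b⁻¹ ∈ h.Z := fun b hb => h.Q_comm q hq b (hB hb)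
    let f : B →* h.Z :=
      { toFun := fun b => ⟨q * b * q⁻¹ * (b : G)⁻¹, hcomm b b.2⟩
        map_one' := by ext; simp
        map_mul' := fun a b => by
          ext
          show q * ((a : G) * b) * q⁻¹ * ((a : G) * b)⁻¹ = q * a * q⁻¹ * (a : G)⁻¹ * (q * b * q⁻¹ * (b : G)⁻¹)
          have hz : q * (b : G) * q⁻¹ * (b : G)⁻¹ * (a : G) = a * (q * b * q⁻¹ * (b : G)⁻¹) := by
            obtain ⟨n, hn⟩ := mem_zpowers_iff.1 (hcomm b b.2)
            rw [← hn]
            exact ((Commute.symm (h.z_central (h.Q_le_S (hB a.2)) : Commute (a : G) h.z)).zpow_left n).eq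
          calc q * ((a : G) * b) * q⁻¹ * ((a : G) * b)⁻¹
              = q * a * q⁻¹ * (q * b * q⁻¹ * (b : G)⁻¹) * (a : G)⁻¹ := by group
            _ = q * a * q⁻¹ * ((a : G)⁻¹ * (q * b * q⁻¹ * (b : G)⁻¹ * a) * (a : G)⁻¹) := by
                rw [hz]; group
            _ = _ := by group }
    have hker : 27 ≤ Nat.card f.ker := by
      have h1 := Subgroup.card_mul_index f.ker
      rw [Subgroup.index_ker, hk] at h1
      have h2 : Nat.card f.range ≤ 3 := h.card_Z ▸ Subgroup.card_le_card_group _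
      have h3 : 3 ^ 4 ≤ 3 ^ k := Nat.pow_le_pow_right (by norm_num) hk4
      nlinarith
    have hsub : f.ker.map B.subtype ≤ h.Z := by
      rintro _ ⟨b, hb, rfl⟩
      refine h.Q_center _ (hB b.2) fun x hx => ?_
      have hle : h.Q ≤ centralizer ({(b : G)} : Set G) := by
        rw [← hgen]
        refine sup_le (fun y hy => mem_centralizer_singleton_iff.2 (hc y hy b b.2))
          (zpowers_le.2 (mem_centralizer_singleton_iff.2 ?_))
        have e : q * (b : G) * q⁻¹ * (b : G)⁻¹ = 1 := congrArg Subtype.val hb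
        exact mul_inv_eq_iff_eq_mul.1 (mul_inv_eq_one.1 e)
      exact (mem_centralizer_singleton_iff.1 (hle hx)).symm
    have := Subgroup.card_le_of_le hsub
    rw [Subgroup.card_map_of_injective B.subtype_injective, h.card_Z] at this
    omega
  · push Not at hex
    have hBQ : B = h.Q := le_antisymm hB hex
    have : h.Q ≤ h.Z := fun x hx => h.Q_center x hx fun y hy => hc x (hBQ ▸ hx) y (hBQ ▸ hy)
    have := Subgroup.card_le_of_le this
    rw [h.Q_card, h.card_Z] at this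
    omega

theorem z_mem_J : h.z ∈ h.J := by
  by_contra hzJ
  set H := h.J ⊔ h.Z with hH
  have hJc : h.J ≤ h.CZ := h.J_le.trans h.S_le_CZ
  have hHc : ∀ a ∈ H, ∀ b ∈ H, a * b = b * a := by
    have hle : H ≤ centralizer (H : Set G) := by
      rw [le_centralizer_iff]
      refine sup_le (fun a ha => ?_) (zpowers_le.2 ?_) <;>
        rw [mem_centralizer_iff] <;> intro b hb
      · have : H ≤ centralizer ({a} : Set G) := sup_le
          (fun c hc => mem_centralizer_singleton_iff.2 (h.J_comm c hc a ha))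
          (zpowers_le.2 (mem_centralizer_singleton_iff.2 (h.z_central (h.J_le ha)).symm))
        exact mem_centralizer_singleton_iff.1 (this hb)
      · have : H ≤ h.CZ := sup_le hJc (zpowers_le.2 (h.mem_CZ.2 rfl))
        exact h.mem_CZ.1 (this hb)
    exact fun a ha b hb => mem_centralizer_iff.1 (hle hb) a ha
  have hHS : H ≤ h.S := sup_le h.J_le (zpowers_le.2 h.z_mem_S)
  obtain ⟨k, -, hk⟩ := h.card_three_pow hHS
  have hlt : Nat.card h.J < Nat.card H := by
    refine lt_of_le_of_ne (Subgroup.card_le_of_le le_sup_left) fun e => hzJ ?_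
    rw [Subgroup.eq_of_le_of_card_ge le_sup_left e.ge]
    exact mem_sup_right (mem_zpowers h.z)
  rw [h.J_card, hk, show (81 : ℕ) = 3 ^ 4 by norm_num] at hlt
  have hk' : 4 < k := (Nat.pow_lt_pow_iff_right (by norm_num)).1 hlt
  have h1 := h.card_sup_mul hHS h.Q_le_S
  have h2 := h.card_abelian_Q (B := H ⊓ h.Q) inf_le_right fun a ha b hb => hHc a ha.1 b hb.1
  have h3 : 3 ^ 5 ≤ 3 ^ k := Nat.pow_le_pow_right (by norm_num) hk'
  rw [hk, h.Q_card] at h1
  omega

theorem cent_Q : centralizer (h.Q : Set G) ≤ h.Q := h.cent_Q' h.z_mem_J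

theorem z_mem_A : h.z ∈ h.A := ⟨h.z_mem_J, h.z_mem_Q⟩

theorem A_comm : ∀ a ∈ h.A, ∀ b ∈ h.A, a * b = b * a := fun a ha b hb => h.J_comm a ha.1 b hb.1

theorem card_A : Nat.card h.A = 27 := by
  have h1 := h.card_sup_mul h.J_le h.Q_le_S
  have h2 := h.card_abelian_Q (B := h.A) inf_le_right h.A_comm
  rw [h.J_card, h.Q_card] at h1
  change _ ≤ 729 * Nat.card h.A at h1
  omega

theorem sup_JQ : h.J ⊔ h.Q = (h.S : Subgroup G) := by
  refine Subgroup.eq_of_le_of_card_ge (sup_le h.J_le h.Q_le_S) ?_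
  have h1 := CfsgLib.PLocal.card_mul_le_card_sup_mul_inf h.J h.Q
  change _ ≤ _ * Nat.card h.A at h1
  rw [h.J_card, h.Q_card, h.card_A] at h1
  rw [h.card_S]
  omega

/-- `A` is self-centralising in `Q`. -/
theorem centQ_A {q : G} (hq : q ∈ h.Q) (hc : ∀ a ∈ h.A, q * a = a * q) : q ∈ h.A := by
  by_contra hqA
  set H := h.A ⊔ zpowers q
  have hle : H ≤ centralizer (H : Set G) := by
    rw [le_centralizer_iff]
    refine sup_le (fun a ha => ?_) (zpowers_le.2 ?_) <;>
      rw [mem_centralizer_iff] <;> intro b hb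
    · have : H ≤ centralizer ({a} : Set G) := sup_le
        (fun c hc' => mem_centralizer_singleton_iff.2 (h.A_comm c hc' a ha))
        (zpowers_le.2 (mem_centralizer_singleton_iff.2 (hc a ha)))
      exact mem_centralizer_singleton_iff.1 (this hb)
    · have : H ≤ centralizer ({q} : Set G) := sup_le
        (fun c hc' => mem_centralizer_singleton_iff.2 (hc c hc').symm)
        (zpowers_le.2 (mem_centralizer_singleton_iff.2 rfl))
      exact mem_centralizer_singleton_iff.1 (this hb)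
  have hHQ : H ≤ h.Q := sup_le inf_le_right (zpowers_le.2 hq)
  have h2 := h.card_abelian_Q hHQ fun a ha b hb => mem_centralizer_iff.1 (hle hb) a ha
  rw [← h.card_A] at h2
  exact hqA (Subgroup.eq_of_le_of_card_ge le_sup_left h2 ▸ mem_sup_right (mem_zpowers q))

/-- Commutators of `Q` with elements centralising `A` and normalising `Q` lie in `A`. -/
theorem comm_mem_A {q c : G} (hq : q ∈ h.Q) (hcQ : c * q * c⁻¹ ∈ h.Q) (hcz : c * h.z = h.z * c)
    (hc : ∀ a ∈ h.A, c * a = a * c) : c * q * c⁻¹ * q⁻¹ ∈ h.A := by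
  refine h.centQ_A (mul_mem hcQ (inv_mem hq)) fun a ha => ?_
  obtain ⟨n, hn⟩ := mem_zpowers_iff.1 (h.Q_comm q⁻¹ (inv_mem hq) a ha.2)
  have e1 : q⁻¹ * a * q = h.z ^ n * a := by rw [hn]; group
  have hcn : c * h.z ^ n = h.z ^ n * c := ((show Commute c h.z from hcz).zpow_right n).eq
  have hqn : q * h.z ^ n = h.z ^ n * q :=
    ((show Commute q h.z from h.z_central (h.Q_le_S hq)).zpow_right n).eq
  have hca : c * a = a * c := hc a ha
  have hca' : c⁻¹ * a = a * c⁻¹ := ((show Commute c a from hca).inv_left).eq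
  have e2 : q * a = (h.z ^ n)⁻¹ * a * q := by
    have h0 : a * q = q * (h.z ^ n * a) := by rw [← e1]; group
    rw [← mul_assoc, hqn] at h0
    rw [mul_assoc, h0]; group
  calc c * q * c⁻¹ * q⁻¹ * a = c * q * c⁻¹ * (q⁻¹ * a * q) * q⁻¹ := by group
    _ = c * q * c⁻¹ * (h.z ^ n * a) * q⁻¹ := by rw [e1]
    _ = c * q * (h.z ^ n * (c⁻¹ * a)) * q⁻¹ := by
        have : c⁻¹ * h.z ^ n = h.z ^ n * c⁻¹ := ((show Commute c (h.z ^ n) from hcn).inv_left).eq
        rw [show c * q * c⁻¹ * (h.z ^ n * a) = c * q * (c⁻¹ * h.z ^ n * a) by group, this]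
        group
    _ = c * (q * h.z ^ n) * (a * c⁻¹) * q⁻¹ := by rw [hca']; group
    _ = (c * h.z ^ n) * (q * a) * c⁻¹ * q⁻¹ := by rw [hqn]; group
    _ = h.z ^ n * c * ((h.z ^ n)⁻¹ * a * q) * c⁻¹ * q⁻¹ := by rw [hcn, e2]
    _ = h.z ^ n * (c * (h.z ^ n)⁻¹) * a * q * c⁻¹ * q⁻¹ := by group
    _ = h.z ^ n * ((h.z ^ n)⁻¹ * c) * a * q * c⁻¹ * q⁻¹ := by
        rw [((show Commute c (h.z ^ n) from hcn).inv_right).eq]
    _ = (c * a) * q * c⁻¹ * q⁻¹ := by group
    _ = a * (c * q * c⁻¹ * q⁻¹) := by rw [hca]; group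

theorem comm_JQ {j q : G} (hj : j ∈ h.J) (hq : q ∈ h.Q) : j * q * j⁻¹ * q⁻¹ ∈ h.A :=
  h.comm_mem_A hq ((mem_normalizer_iff.1 (h.NZ_le_normQ (h.CZ_le_NZ (h.S_le_CZ (h.J_le hj)))) q).1 hq)
    (h.z_central (h.J_le hj)) fun a ha => h.J_comm j hj a ha.1

theorem S_le_normJ : (h.S : Subgroup G) ≤ normalizer (h.J : Set G) := by
  rw [← h.sup_JQ]
  refine sup_le le_normalizer fun q hq => ?_
  have hf : ∀ q ∈ h.Q, ∀ j ∈ h.J, q * j * q⁻¹ ∈ h.J := by
    intro q hq j hj
    have := inv_mem (h.comm_JQ hj hq)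
    have hm := mul_mem this.1 hj
    simpa [mul_assoc] using hm
  refine mem_normalizer_iff.2 fun j => ⟨hf q hq j, fun hj => ?_⟩
  have := hf q⁻¹ (inv_mem hq) _ hj
  simpa [mul_assoc] using this

theorem S_le_M0 : (h.S : Subgroup G) ≤ h.M0 := fun s hs => by
  rw [h.M0_eq]
  exact subset_closure ⟨h.S_le_normJ hs, orderOf_pow_three h.S.isPGroup' hs⟩

theorem card_M0 : Nat.card h.M0 = 81 * 360 := by
  have h1 := Subgroup.card_mul_index h.piM.ker
  have h2 : Nat.card (alternatingGroup (Fin 6)) = 360 := by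
    rw [Nat.card_eq_fintype_card]; decide +kernel
  rw [Subgroup.index_ker, MonoidHom.range_eq_top.2 h.piM_surj, Subgroup.card_top, h2, h.piM_ker,
    Nat.card_congr (subgroupOfEquivOfLe h.J_le_M0).toEquiv, h.J_card] at h1
  exact h1.symm

end Hyp

end CfsgLib.Recog.McLThree
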