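import Cfsg.Agent.Lib.Recog.McLThree.Frame
import Cfsg.Agent.Lib.Transfer.AbelianSylow
import Cfsg.Agent.Lib.Classical.ExcIsoPermOdd
import Mathlib.GroupTheory.PGroup

/-!
The centraliser of `T` in `L0`: the product of the centre with a binary icosahedral group.
-/

set_option autoImplicit false
set_option linter.style.haveILetI false
set_option linter.unusedSectionVars false
set_option Elab.async false

namespace CfsgLib.Recog.McLThree

open Subgroup

theorem commutator_SL5 : commutator SL5 = ⊤ :=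
  haveI : Fact (Nat.Prime 5) := ⟨by norm_num⟩
  Matrix.SL2.commutator_eq_top (F := ZMod 5) (a := (2 : ZMod 5)) (by decide +revert : (2 : ZMod 5) ≠ 0)
    (by decide +revert : (2 : ZMod 5) ^ 2 ≠ 1)

set_option maxRecDepth 100000 in
theorem center_SL5 : ∀ g : SL5, (∀ k : SL5, g * k = k * g) → g = 1 ∨ g = -1 := by decide +kernel

/-- The map of the binary icosahedral group onto the alternating group of degree five. -/
theorem exists_SL5_toA5 : ∃ f : SL5 →* alternatingGroup (Fin 5), Function.Surjective f ∧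
    ∀ g, f g = 1 ↔ g = 1 ∨ g = -1 := by
  haveI : Fact (Nat.Prime 5) := ⟨by norm_num⟩
  obtain ⟨e⟩ := CfsgLib.Classical.psl_two_five_equiv
  let q : SL5 →* Matrix.ProjectiveSpecialLinearGroup (Fin 2) (ZMod 5) := QuotientGroup.mk' _
  have hs : Function.Surjective q := QuotientGroup.mk'_surjective _
  refine ⟨e.toMonoidHom.comp q, e.surjective.comp hs, fun g => ?_⟩
  show e (QuotientGroup.mk' _ g) = 1 ↔ _
  rw [EmbeddingLike.map_eq_one_iff, QuotientGroup.mk'_apply, QuotientGroup.eq_one_iff, mem_center_iff]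
  constructor
  · exact fun h => center_SL5 g fun k => (h k).symm
  · rintro (rfl | rfl) k
    · rw [mul_one, one_mul]
    · exact (sl_neg_one.2.2 k).symm

variable {G : Type*} [Group G] [Finite G] {h : Hyp G}

namespace Coords

variable (c : Coords h)

/-- The centraliser of `T` in `L0`. -/
abbrev HT : Subgroup G := h.L0 ⊓ centralizer ({c.T} : Set G)

/-- The binary icosahedral group in `HT`. -/
abbrev KT : Subgroup G := ⁅c.HT, c.HT⁆

theorem z_mem_HT : h.z ∈ c.HT :=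
  ⟨h.Q_le_L0 h.z_mem_Q, mem_centralizer_singleton_iff.2 (h.mem_CZ.1 c.T_CZ).symm⟩

theorem Z_le_HT : h.Z ≤ c.HT := (zpowers_le).2 c.z_mem_HT

theorem HT_inf_Q {g : G} (hg : g ∈ c.HT) (hQ : g ∈ h.Q) : g ∈ h.Z :=
  c.centQ_T hQ (mem_centralizer_singleton_iff.1 hg.2).symm

theorem T_mem_HT : c.T ∈ c.HT := ⟨c.T_L0.fst, mem_centralizer_singleton_iff.2 rfl⟩

/-- Every coset of `Q` in `L0` meets the centraliser of `T`. -/
theorem exists_HT_mul {g : G} (hg : g ∈ h.L0) : ∃ q ∈ h.Q, q * g ∈ c.HT := by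
  set t' := g * c.T * g⁻¹ with ht'
  have h2' : t' * t' = 1 := by
    rw [ht', show g * c.T * g⁻¹ * (g * c.T * g⁻¹) = g * (c.T * c.T) * g⁻¹ by group, c.T_sq]; group
  have hQ : c.T * t' ∈ h.Q := by
    have := c.T_comm_L0 hg
    rw [ht', show c.T * (g * c.T * g⁻¹) = c.T * g * c.T * g⁻¹ by group]
    rwa [c.T_inv] at this
  have hc := conj_invol c.T_sq h2' (h.Q_exp _ hQ)
  refine ⟨(c.T * t')⁻¹, inv_mem hQ, mul_mem (h.Q_le_L0 (inv_mem hQ)) hg, mem_centralizer_singleton_iff.2 ?_⟩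
  generalize c.T * t' = r at hc hQ
  calc r⁻¹ * g * c.T = r⁻¹ * t' * g := by rw [ht']; group
    _ = r⁻¹ * (r * c.T * r⁻¹) * g := by rw [hc]
    _ = c.T * (r⁻¹ * g) := by group

/-- The map of `HT` onto the binary icosahedral group. -/
def piHT : c.HT →* SL5 := h.piL.comp (Subgroup.inclusion inf_le_left)

theorem piHT_surj : Function.Surjective c.piHT := by
  intro x
  obtain ⟨⟨g, hg⟩, rfl⟩ := h.piL_surj x
  obtain ⟨q, hq, hqg⟩ := c.exists_HT_mul hg
  refine ⟨⟨q * g, hqg⟩, ?_⟩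
  show h.piL ⟨q * g, hqg.1⟩ = h.piL ⟨g, hg⟩
  rw [h.piL_eq_iff]
  have hn := h.NZ_le_normQ (h.CZ_le_NZ (h.L0_le_CZ (inv_mem hg)))
  have := (mem_normalizer_iff.1 hn q).1 hq
  rwa [inv_inv, mul_assoc] at this

theorem piHT_eq_one (g : c.HT) : c.piHT g = 1 ↔ (g : G) ∈ h.Z := by
  show h.piL ⟨(g : G), g.2.1⟩ = 1 ↔ _
  rw [← MonoidHom.mem_ker, h.piL_ker, mem_subgroupOf]
  exact ⟨fun hQ => c.HT_inf_Q g.2 hQ, fun hZ => (zpowers_le.2 h.z_mem_Q) hZ⟩

theorem card_HT : Nat.card c.HT = 360 := by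
  have h1 := card_mul_index c.piHT.ker
  have e : Nat.card c.piHT.ker = 3 := by
    rw [← h.card_Z]
    exact Nat.card_congr ⟨fun x => ⟨x.1.1, (c.piHT_eq_one x.1).1 x.2⟩,
      fun x => ⟨⟨x.1, c.Z_le_HT x.2⟩, (c.piHT_eq_one _).2 x.2⟩, fun _ => rfl, fun _ => rfl⟩
  rw [index_ker, MonoidHom.range_eq_top.2 c.piHT_surj, card_top, card_SL5, e] at h1
  omega

theorem HT_comm_z {g : G} (hg : g ∈ c.HT) : g * h.z = h.z * g := h.mem_CZ.1 (h.L0_le_CZ hg.1)

theorem KT_le : c.KT ≤ c.HT := (commutator_le.2 fun a ha b hb =>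
  mul_mem (mul_mem (mul_mem ha hb) (inv_mem ha)) (inv_mem hb))

theorem map_commutator_HT : (commutator c.HT).map (c.HT.subtype) = c.KT := by
  rw [commutator_def, map_commutator, ← MonoidHom.range_eq_map, range_subtype]

theorem KT_inf_Z : c.KT ⊓ h.Z = ⊥ := by
  haveI : Fact (Nat.Prime 3) := ⟨by norm_num⟩
  have hfac : (Nat.card c.HT).factorization 3 = 2 := by
    rw [c.card_HT, show (360 : ℕ) = 3 ^ 2 * 40 by norm_num,
      Nat.factorization_mul (by norm_num) (by norm_num), Finsupp.add_apply,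
      Nat.Prime.factorization_pow (by norm_num), Finsupp.single_eq_same,
      Nat.factorization_eq_zero_of_not_dvd (show ¬ 3 ∣ 40 by norm_num)]
  have hZp : IsPGroup 3 (h.Z.subgroupOf c.HT) := IsPGroup.of_card (n := 1) (by
    rw [Nat.card_congr (subgroupOfEquivOfLe c.Z_le_HT).toEquiv, h.card_Z, pow_one])
  obtain ⟨P, hP⟩ := hZp.exists_le_sylow
  have hPc : Nat.card (P : Subgroup c.HT) = 3 ^ 2 := by rw [P.card_eq_multiplicity, hfac]
  haveI : IsMulCommutative (P : Subgroup c.HT) := IsPGroup.isMulCommutative_of_card_eq_prime_sq hPc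
  have hcop : (Nat.card (P : Subgroup c.HT)).Coprime (P : Subgroup c.HT).index := by
    have h1 := card_mul_index (P : Subgroup c.HT)
    rw [hPc, c.card_HT] at h1
    have : (P : Subgroup c.HT).index = 40 := by omega
    rw [hPc, this]; norm_num
  have hb := CfsgLib.Transfer.inf_commutator_inf_center_eq_bot (P : Subgroup c.HT) hcop
  rw [eq_bot_iff]
  rintro x ⟨hxK, hxZ⟩
  rw [← c.map_commutator_HT] at hxK
  obtain ⟨y, hy, rfl⟩ := hxK
  have hc : y ∈ center c.HT := mem_center_iff.2 fun g => Subtype.ext (by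
    obtain ⟨k, hk⟩ := mem_zpowers_iff.1 hxZ
    show (g : G) * (y : G) = (y : G) * g
    rw [show (y : G) = h.z ^ k from hk.symm]
    exact (Commute.zpow_right (show Commute (g : G) h.z from c.HT_comm_z g.2) k).eq)
  have hm : y ∈ (P : Subgroup c.HT) ⊓ commutator c.HT ⊓ center c.HT :=
    ⟨⟨hP (show y ∈ h.Z.subgroupOf c.HT from hxZ), hy⟩, hc⟩
  rw [hb, mem_bot] at hm
  rw [hm]; exact one_mem _

/-- The binary icosahedral group. -/
theorem exists_KT_equiv : ∃ e : c.KT ≃* SL5, ∀ (g : c.KT), e g = h.piL ⟨(g : G), (c.KT_le g.2).1⟩ := by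
  let f : c.KT →* SL5 := c.piHT.comp (Subgroup.inclusion c.KT_le)
  have hinj : Function.Injective f := by
    rw [← MonoidHom.ker_eq_bot_iff, eq_bot_iff]
    intro g hg
    have hZ : (g : G) ∈ h.Z := (c.piHT_eq_one ⟨_, c.KT_le g.2⟩).1 hg
    have hm : (g : G) ∈ c.KT ⊓ h.Z := ⟨g.2, hZ⟩
    rw [c.KT_inf_Z, mem_bot] at hm
    exact mem_bot.2 (Subtype.ext hm)
  have hsurj : Function.Surjective f := by
    intro x
    have hx : x ∈ (commutator c.HT).map c.piHT := by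
      rw [commutator_def, map_commutator, ← MonoidHom.range_eq_map, MonoidHom.range_eq_top.2 c.piHT_surj,
        ← commutator_def, commutator_SL5]
      exact mem_top _
    obtain ⟨y, hy, rfl⟩ := hx
    exact ⟨⟨y, c.map_commutator_HT ▸ ⟨y, hy, rfl⟩⟩, rfl⟩
  exact ⟨MulEquiv.ofBijective f ⟨hinj, hsurj⟩, fun _ => rfl⟩

theorem card_KT : Nat.card c.KT = 120 := by
  obtain ⟨e, -⟩ := c.exists_KT_equiv
  rw [Nat.card_congr e.toEquiv, card_SL5]

theorem KT_comm_Z {k x : G} (hk : k ∈ c.KT) (hx : x ∈ h.Z) : k * x = x * k := by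
  obtain ⟨i, rfl⟩ := mem_zpowers_iff.1 hx
  exact (Commute.zpow_right (show Commute k h.z from c.HT_comm_z (c.KT_le hk)) i).eq

theorem exists_KT_mul {g : G} (hg : g ∈ c.HT) : ∃ k ∈ c.KT, ∃ x ∈ h.Z, g = k * x := by
  obtain ⟨e, he⟩ := c.exists_KT_equiv
  obtain ⟨k, hk⟩ := e.surjective (c.piHT ⟨g, hg⟩)
  refine ⟨k, k.2, (k : G)⁻¹ * g, ?_, (mul_inv_cancel_left _ _).symm⟩
  refine (c.piHT_eq_one ⟨_, mul_mem (inv_mem (c.KT_le k.2)) hg⟩).1 ?_
  have : c.piHT (⟨(k : G), c.KT_le k.2⟩⁻¹ * ⟨g, hg⟩) = 1 := by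
    rw [map_mul, map_inv, ← hk, he]
    exact inv_mul_cancel _
  exact this

theorem KT_sup_Z : c.KT ⊔ h.Z = c.HT := by
  refine le_antisymm (sup_le c.KT_le c.Z_le_HT) fun g hg => ?_
  obtain ⟨k, hk, x, hx, rfl⟩ := c.exists_KT_mul hg
  exact mul_mem_sup hk hx

theorem T_mem_KT : c.T ∈ c.KT := by
  obtain ⟨k, hk, x, hx, e⟩ := c.exists_KT_mul c.T_mem_HT
  have hcomm : k * x = x * k := c.KT_comm_Z hk hx
  have h2 : k * k * (x * x) = 1 := by
    rw [← c.T_sq, e]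
    calc k * k * (x * x) = k * (k * x) * x := by group
      _ = k * (x * k) * x := by rw [hcomm]
      _ = _ := by group
  have hm : k * k ∈ c.KT ⊓ h.Z :=
    ⟨mul_mem hk hk, by rw [eq_inv_of_mul_eq_one_left h2]; exact Subgroup.inv_mem h.Z (mul_mem hx hx)⟩
  rw [c.KT_inf_Z, mem_bot] at hm
  rw [hm, one_mul] at h2
  obtain ⟨i, rfl⟩ := mem_zpowers_iff.1 hx
  have h3 : (h.z ^ i) ^ 3 = 1 := by rw [← zpow_natCast, ← zpow_mul, mul_comm, zpow_mul, zpow_natCast, h.z_cube, one_zpow]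
  rw [pow_succ, pow_two, h2, one_mul] at h3
  rw [e, h3, mul_one]; exact hk

/-- `HT` and `KT` are invariant under the normaliser of the centre centralising `T`. -/
theorem conj_HT {g a : G} (hg : g ∈ h.NZ) (hgT : g * c.T = c.T * g) (ha : a ∈ c.HT) :
    g * a * g⁻¹ ∈ c.HT := by
  refine ⟨?_, mem_centralizer_singleton_iff.2 ?_⟩
  · have ha' := ha.1
    clear ha
    rw [h.L0_eq] at ha' ⊢
    induction ha' using closure_induction with
    | mem x hx =>
      refine subset_closure ⟨mul_mem (mul_mem hg hx.1) (inv_mem hg), ?_⟩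
      obtain ⟨k, hk⟩ := hx.2
      exact ⟨k, by rw [← hk]; exact MulEquiv.orderOf_eq (MulAut.conj g) x⟩
    | one => simp
    | mul x y _ _ hx hy => rw [show g * (x * y) * g⁻¹ = (g * x * g⁻¹) * (g * y * g⁻¹) by group]; exact mul_mem hx hy
    | inv x _ hx => rw [show g * x⁻¹ * g⁻¹ = (g * x * g⁻¹)⁻¹ by group]; exact Subgroup.inv_mem _ hx
  · have hgT' : g⁻¹ * c.T = c.T * g⁻¹ := (show Commute g c.T from hgT).inv_left.eq
    calc g * a * g⁻¹ * c.T = g * a * (c.T * g⁻¹) := by rw [← hgT', mul_assoc]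
      _ = g * (c.T * a) * g⁻¹ := by rw [← mem_centralizer_singleton_iff.1 ha.2]; group
      _ = c.T * g * a * g⁻¹ := by rw [← hgT]; group
      _ = c.T * (g * a * g⁻¹) := by group

theorem conj_KT {g a : G} (hg : g ∈ h.NZ) (hgT : g * c.T = c.T * g) (ha : a ∈ c.KT) :
    g * a * g⁻¹ ∈ c.KT := by
  have hle : c.KT.map (MulAut.conj g).toMonoidHom ≤ c.KT := by
    rw [map_commutator]
    refine commutator_mono ?_ ?_ <;> rintro _ ⟨x, hx, rfl⟩ <;> exact c.conj_HT hg hgT hx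
  exact hle ⟨a, ha, rfl⟩

/-- `KT/⟨T⟩` is alternating of degree five. -/
theorem exists_KT_toA5 : ∃ f : c.KT →* alternatingGroup (Fin 5), Function.Surjective f ∧
    ∀ k : c.KT, f k = 1 ↔ (k : G) ∈ zpowers c.T := by
  obtain ⟨f, hf, hk⟩ := exists_SL5_toA5
  obtain ⟨e, he⟩ := c.exists_KT_equiv
  have hT : e ⟨c.T, c.T_mem_KT⟩ = -1 := by
    rw [he]; exact c.T_L0.snd
  refine ⟨f.comp e.toMonoidHom, hf.comp e.surjective, fun k => ?_⟩
  show f (e k) = 1 ↔ _
  rw [hk]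
  constructor
  · rintro (h1 | h1)
    · rw [EmbeddingLike.map_eq_one_iff] at h1
      rw [h1]; exact one_mem _
    · rw [e.injective (h1.trans hT.symm)]; exact mem_zpowers _
  · intro hm
    obtain ⟨i, hi⟩ := mem_zpowers_iff.1 hm
    have hk' : k = (⟨c.T, c.T_mem_KT⟩ : c.KT) ^ i := Subtype.ext (by rw [← hi]; rfl)
    rw [hk', map_zpow, hT]
    have h2 : (-1 : SL5) ^ (2 : ℤ) = 1 := by rw [zpow_two]; exact sl_neg_one.2.1
    rcases Int.even_or_odd' i with ⟨j, rfl | rfl⟩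
    · left; rw [zpow_mul, h2, one_zpow]
    · right; rw [zpow_add, zpow_one, zpow_mul, h2, one_zpow, one_mul]

/-- The bundled statement. -/
theorem exists_K : ∃ K : Subgroup G, K ≤ c.HT ∧
    (∀ g ∈ h.NZ ⊓ centralizer ({c.T} : Set G), ∀ a ∈ K, g * a * g⁻¹ ∈ K) ∧ K ⊓ h.Z = ⊥ ∧ K ⊔ h.Z = c.HT ∧
    c.T ∈ K ∧ Nat.card K = 120 ∧ Nonempty (K ≃* SL5) ∧
    ∃ f : K →* alternatingGroup (Fin 5), Function.Surjective f ∧ ∀ k : K, f k = 1 ↔ (k : G) ∈ zpowers c.T :=
  ⟨c.KT, c.KT_le, fun _ hg _ ha => c.conj_KT hg.1 (mem_centralizer_singleton_iff.1 hg.2) ha, c.KT_inf_Z,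
    c.KT_sup_Z, c.T_mem_KT, c.card_KT, ⟨c.exists_KT_equiv.choose⟩, c.exists_KT_toA5⟩

end Coords

end CfsgLib.Recog.McLThree
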