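import Cfsg.Agent.Lib.Recog.McLThree.ChartAbstract

/-!
`S3 × S5`, recognised as the normaliser of a group of order three centralising a normal alternating subgroup of
degree five.
-/

set_option autoImplicit false
set_option linter.style.haveILetI false
set_option Elab.async false

namespace CfsgLib.Recog.McLThree

open Equiv Subgroup

/-- The action on the five Sylow subgroups of a normal alternating subgroup of degree five. -/
theorem exists_sylow_action {N : Type*} [Group N] [Finite N] (K : Subgroup N) [hKn : K.Normal]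
    (eK : K ≃* alternatingGroup (Fin 5)) :
    ∃ f : N →* Perm (Fin 5), ∀ n : N, f n = 1 → ∀ k ∈ K, n * k = k * n := by
  classical
  haveI : Fact (Nat.Prime 2) := ⟨by norm_num⟩
  haveI : Nontrivial K := eK.toEquiv.nontrivial
  haveI hKs : IsSimpleGroup K := IsSimpleGroup.isSimpleGroup_of_surjective eK.symm.toMonoidHom eK.symm.surjective
  have h5 : Nat.card (Sylow 2 K) = 5 := by
    rw [← card_sylow_two_A5]
    exact le_antisymm
      (Nat.card_le_card_of_surjective _ (Sylow.mapSurjective_surjective (f := eK.symm.toMonoidHom) eK.symm.surjective 2))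
      (Nat.card_le_card_of_surjective _ (Sylow.mapSurjective_surjective (f := eK.toMonoidHom) eK.surjective 2))
  let e5 : Sylow 2 K ≃ Fin 5 := Finite.equivFinOfCardEq h5
  let φ : N →* MulAut K := MulAut.conjNormal
  let f2 : N →* Perm (Fin 5) :=
    e5.permCongrHom.toMonoidHom.comp ((MulAction.toPermHom (MulAut K) (Sylow 2 K)).comp φ)
  have hf2 : ∀ n : N, f2 n = 1 ↔ ∀ P : Sylow 2 K, φ n • P = P := by
    intro n
    show e5.permCongrHom (MulAction.toPermHom (MulAut K) (Sylow 2 K) (φ n)) = 1 ↔ _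
    rw [EmbeddingLike.map_eq_one_iff, Equiv.ext_iff]
    exact Iff.rfl
  have hφK : ∀ (k : K) (P : Sylow 2 K), φ (k : N) • P = k • P := by
    intro k P
    rw [Sylow.smul_def]
    congr 1
    exact MulEquiv.ext fun l => Subtype.ext rfl
  have hfix : f2.ker.subgroupOf K ≠ ⊤ := by
    intro e
    have hfixall : ∀ (k : K) (P : Sylow 2 K), k • P = P := fun k P => by
      rw [← hφK]
      exact (hf2 k).1 (e ▸ mem_top k : k ∈ f2.ker.subgroupOf K) P
    have hsub : Subsingleton (Sylow 2 K) := ⟨fun P P' => by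
      obtain ⟨k, hk⟩ := MulAction.exists_smul_eq K P P'
      rw [← hk, hfixall]⟩
    have := (Nat.card_eq_one_iff_unique).2 ⟨hsub, inferInstance⟩
    omega
  refine ⟨f2, fun n hn k hk => ?_⟩
  have hk' : n * k * n⁻¹ * k⁻¹ ∈ K := mul_mem (hKn.conj_mem k hk n) (inv_mem hk)
  have h1 : f2 (n * k * n⁻¹ * k⁻¹) = 1 := by
    rw [map_mul, map_mul, map_mul, map_inv, map_inv, hn, one_mul, inv_one, mul_one, mul_inv_cancel]
  have hmem : (⟨_, hk'⟩ : K) ∈ f2.ker.subgroupOf K := h1
  rw [(IsSimpleGroup.eq_bot_or_eq_top_of_normal _ inferInstance).resolve_right hfix, mem_bot] at hmem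
  calc n * k = n * k * n⁻¹ * k⁻¹ * k * n := by group
    _ = k * n := by rw [show n * k * n⁻¹ * k⁻¹ = 1 from congrArg Subtype.val hmem, one_mul]

theorem cent_three_cycle : ∀ p x : Perm (Fin 3), p ^ 3 = 1 → p ≠ 1 → x * p = p * x →
    ∃ k : Fin 3, x = p ^ (k : ℕ) := by decide +kernel

/-- The chart of the whole normaliser. -/
theorem exists_prod_equiv {N : Type*} [Group N] [Finite N] (hcard : Nat.card N = 720) (K : Subgroup N)
    [hKn : K.Normal] (eK : Nonempty (K ≃* alternatingGroup (Fin 5))) (z : N) (hz : orderOf z = 3)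
    (hzK : ∀ k ∈ K, z * k = k * z) (hzn : ∀ n : N, n * z * n⁻¹ = z ∨ n * z * n⁻¹ = z⁻¹)
    (hC : ∀ n : N, n * z = z * n → (∀ k ∈ K, n * k = k * n) → n ∈ zpowers z) :
    ∃ f : N ≃* Perm (Fin 3) × Perm (Fin 5), (f z).1 ≠ 1 ∧ (f z).2 = 1 := by
  classical
  obtain ⟨eK⟩ := eK
  obtain ⟨f2, hf2⟩ := exists_sylow_action K eK
  have hz3 : z ^ 3 = 1 := by have := pow_orderOf_eq_one z; rwa [hz] at this
  have hzne : z ≠ z⁻¹ := fun e => by
    have h2 : z ^ 2 = 1 := by rw [pow_two]; nth_rewrite 2 [e]; exact mul_inv_cancel z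
    have := Nat.le_of_dvd (by norm_num) (orderOf_dvd_of_pow_eq_one h2)
    omega
  have hzc : Nat.card (zpowers z) = 3 := by rw [Nat.card_zpowers, hz]
  set R := f2.ker with hR
  -- the kernel has order at most six
  have hsplit : ∀ a ∈ R, ∀ b ∈ R, a * z ≠ z * a → b * z ≠ z * b → a⁻¹ * b ∈ zpowers z := by
    intro a ha b hb ha' hb'
    refine hC _ ?_ (hf2 _ (mul_mem (inv_mem ha) hb))
    have ea : a * z * a⁻¹ = z⁻¹ := (hzn a).resolve_left fun e => ha' (mul_inv_eq_iff_eq_mul.1 e)
    have eb : b * z * b⁻¹ = z⁻¹ := (hzn b).resolve_left fun e => hb' (mul_inv_eq_iff_eq_mul.1 e)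
    calc a⁻¹ * b * z = a⁻¹ * (b * z * b⁻¹) * b := by group
      _ = a⁻¹ * (a * z * a⁻¹) * b := by rw [eb, ea]
      _ = z * (a⁻¹ * b) := by group
  have hP5 : Nat.card (Perm (Fin 5)) = 120 := by
    rw [Nat.card_eq_fintype_card, Fintype.card_perm, Fintype.card_fin]; rfl
  have hr2 := card_mul_index R
  rw [hR, index_ker, hcard, ← hR] at hr2
  have hr2le : Nat.card f2.range ≤ 120 := hP5 ▸ Subgroup.card_le_card_group f2.range
  -- an inverting element of the kernel
  obtain ⟨r, hrR, hr⟩ : ∃ r ∈ R, r * z ≠ z * r := by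
    by_contra hcon
    push Not at hcon
    have := Subgroup.card_le_of_le (show R ≤ zpowers z from fun n hn => hC n (hcon n hn) (hf2 n hn))
    rw [hzc] at this
    nlinarith
  have hrz : r * z * r⁻¹ = z⁻¹ := (hzn r).resolve_left fun e => hr (mul_inv_eq_iff_eq_mul.1 e)
  have hzR : z ∈ R := by
    by_contra hzR
    -- otherwise the kernel is too small
    have h2 : ∀ a ∈ R, a = 1 ∨ a = r := by
      intro a ha
      have small : ∀ x ∈ R, x ∈ zpowers z → x = 1 := by
        intro x hx hxz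
        by_contra hx1
        obtain ⟨i, rfl⟩ := mem_zpowers_iff.1 hxz
        have hm : i % 3 = 1 ∨ i % 3 = 2 := by
          rcases (show i % 3 = 0 ∨ i % 3 = 1 ∨ i % 3 = 2 by omega) with e | e
          · exact absurd (by rw [← zpow_mod_orderOf, hz, Nat.cast_ofNat, e, zpow_zero]) hx1
          · exact e
        rw [← zpow_mod_orderOf, hz, Nat.cast_ofNat] at hx
        rcases hm with e | e <;> rw [e] at hx
        · exact hzR (by simpa using hx)
        · refine hzR ?_
          have := inv_mem hx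
          rwa [show (2 : ℤ) = 3 - 1 from rfl, zpow_sub, show (z : N) ^ (3 : ℤ) = 1 by exact_mod_cast hz3, zpow_one, one_mul,
            inv_inv] at this
      by_cases haz : a * z = z * a
      · exact Or.inl (small a ha (hC a haz (hf2 a ha)))
      · right
        have := small _ (mul_mem (inv_mem hrR) ha) (hsplit r hrR a ha hr haz)
        exact (inv_mul_eq_one.1 this).symm
    have hle : Nat.card R ≤ 2 := by
      refine le_trans (Nat.card_le_card_of_surjective (fun i : Fin 2 => if i = 0 then (1 : R) else ⟨r, hrR⟩) ?_)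
        (le_of_eq (Nat.card_fin 2))
      rintro ⟨a, ha⟩
      rcases h2 a ha with rfl | rfl
      · exact ⟨0, rfl⟩
      · exact ⟨1, rfl⟩
    nlinarith
  have hdec : ∀ a ∈ R, a ∈ zpowers z ∨ r⁻¹ * a ∈ zpowers z := by
    intro a ha
    by_cases haz : a * z = z * a
    · exact Or.inl (hC a haz (hf2 a ha))
    · exact Or.inr (hsplit r hrR a ha hr haz)
  have hRle : Nat.card R ≤ 6 := by
    refine le_trans (Nat.card_le_card_of_surjective
      (fun t : Fin 2 × zpowers z => (⟨r ^ (t.1 : ℕ) * t.2, mul_mem (pow_mem hrR _)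
        ((zpowers_le.2 hzR : zpowers z ≤ R) t.2.2)⟩ : R)) ?_) ?_
    · rintro ⟨a, ha⟩
      rcases hdec a ha with h | h
      · exact ⟨(0, ⟨a, h⟩), Subtype.ext (by show r ^ 0 * a = a; rw [pow_zero, one_mul])⟩
      · exact ⟨(1, ⟨_, h⟩), Subtype.ext (by show r ^ 1 * (r⁻¹ * a) = a; rw [pow_one, mul_inv_cancel_left])⟩
    · rw [Nat.card_prod, Nat.card_fin, hzc]
  have hRcard : Nat.card R = 6 := by nlinarith
  have hf2s : Function.Surjective f2 := by
    rw [← MonoidHom.range_eq_top]
    refine eq_top_of_card_eq _ ?_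
    rw [hP5]; rw [hRcard] at hr2; omega
  -- the action on the inverting elements modulo the group of order three
  have hab : (⟨r, hrR⟩ : R) * ⟨z, hzR⟩ ≠ ⟨z, hzR⟩ * ⟨r, hrR⟩ := fun e => hr (congrArg Subtype.val e)
  obtain ⟨f0, hf0⟩ := exists_perm_three hRcard hab
  -- the involutions of the kernel
  let I := {p : Perm (Fin 3) // p * p = 1 ∧ p ≠ 1}
  haveI hRn : R.Normal := MonoidHom.normal_ker f2
  let e0 : R ≃* Perm (Fin 3) := MulEquiv.ofBijective f0 hf0
  let α : N →* MulAut (Perm (Fin 3)) :=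
    (MulAut.congr e0).toMonoidHom.comp (MulAut.conjNormal (H := R))
  have hα : ∀ (a : MulAut (Perm (Fin 3))) (p : I), a p.1 * a p.1 = 1 ∧ a p.1 ≠ 1 := fun a p =>
    ⟨by rw [← map_mul, p.2.1, map_one], fun e => p.2.2 (a.injective (e.trans (map_one a).symm))⟩
  let toP : MulAut (Perm (Fin 3)) →* Perm I :=
    { toFun := fun a => ⟨fun p => ⟨a p.1, hα a p⟩, fun p => ⟨a.symm p.1, hα a.symm p⟩,
        fun p => Subtype.ext (a.symm_apply_apply _), fun p => Subtype.ext (a.apply_symm_apply _)⟩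
      map_one' := Equiv.ext fun _ => rfl
      map_mul' := fun a b => Equiv.ext fun _ => rfl }
  let eI : I ≃ Fin 3 := Fintype.equivFinOfCardEq (by decide +kernel)
  let f1 : N →* Perm (Fin 3) := eI.permCongrHom.toMonoidHom.comp (toP.comp α)
  have key : ∀ a : R, f1 (a : N) = 1 → a = 1 := by
    intro a ha
    have ha' : toP (α (a : N)) = 1 := eI.permCongrHom.injective (ha.trans (map_one _).symm)
    have hfix : ∀ p : I, e0 a * p.1 * (e0 a)⁻¹ = p.1 := by
      intro p
      have h1 := congrArg Subtype.val (Equiv.ext_iff.1 ha' p)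
      have h2 : α (a : N) p.1 = p.1 := h1
      have h3 : MulAut.conjNormal (H := R) (a : N) (e0.symm p.1) = a * e0.symm p.1 * a⁻¹ :=
        Subtype.ext rfl
      have h4 : α (a : N) p.1 = e0 (MulAut.conjNormal (H := R) (a : N) (e0.symm p.1)) := rfl
      rw [h4, h3, map_mul, map_mul, map_inv, e0.apply_symm_apply] at h2
      exact h2
    refine e0.injective (Eq.trans ?_ (map_one e0).symm)
    exact (show ∀ x : Perm (Fin 3), (∀ p : Perm (Fin 3), p * p = 1 → p ≠ 1 → x * p * x⁻¹ = p) → x = 1 by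
      decide +kernel) _ fun p h1 h2 => hfix ⟨p, h1, h2⟩
  have hinj : Function.Injective (f1.prod f2) := by
    rw [← MonoidHom.ker_eq_bot_iff, eq_bot_iff]
    intro n hn
    rw [MonoidHom.mem_ker] at hn
    have hn1 : f1 n = 1 := congrArg Prod.fst hn
    have hn2 : n ∈ R := MonoidHom.mem_ker.2 (congrArg Prod.snd hn)
    exact mem_bot.2 (congrArg Subtype.val (key ⟨n, hn2⟩ hn1))
  have hbij : Function.Bijective (f1.prod f2) := (Nat.bijective_iff_injective_and_card _).2 ⟨hinj, by
    rw [hcard, Nat.card_prod, hP5, Nat.card_eq_fintype_card, Fintype.card_perm, Fintype.card_fin]; rfl⟩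
  refine ⟨MulEquiv.ofBijective _ hbij, fun e => ?_, MonoidHom.mem_ker.1 hzR⟩
  have h1 := key ⟨z, hzR⟩ e
  rw [show z = 1 from congrArg Subtype.val h1, orderOf_one] at hz
  omega

/-- The chart of the centraliser and of the normaliser of a group of order three in an ambient group. -/
theorem exists_big_charts {M : Type*} [Group M] [Finite M] (z : M) (hz : orderOf z = 3)
    (hcard : Nat.card (normalizer (zpowers z : Set M)) = 720) (K : Subgroup M)
    (hKN : K ≤ normalizer (zpowers z : Set M))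
    (hKn : ∀ n ∈ normalizer (zpowers z : Set M), ∀ k ∈ K, n * k * n⁻¹ ∈ K)
    (eK : Nonempty (K ≃* alternatingGroup (Fin 5))) (hzK : ∀ k ∈ K, z * k = k * z)
    (hC : ∀ x : M, x * z = z * x → (∀ k ∈ K, x * k = k * x) → x ∈ zpowers z) :
    Nonempty (centralizer ({z} : Set M) ≃* Multiplicative (ZMod 3) × Perm (Fin 5)) ∧
      Nonempty (normalizer (zpowers z : Set M) ≃* Perm (Fin 3) × Perm (Fin 5)) := by
  classical
  set N := normalizer (zpowers z : Set M)
  have hzN : z ∈ N := le_normalizer (mem_zpowers z)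
  haveI : (K.subgroupOf N).Normal := ⟨fun k hk n => hKn n n.2 k hk⟩
  have hz3 : z ^ 3 = 1 := by have := pow_orderOf_eq_one z; rwa [hz] at this
  obtain ⟨f, hfz1, hfz2⟩ := exists_prod_equiv hcard (K.subgroupOf N)
    (eK.map fun e => (subgroupOfEquivOfLe hKN).trans e) ⟨z, hzN⟩ (by rw [Subgroup.orderOf_mk]; exact hz)
    (fun k hk => Subtype.ext (hzK k hk))
    (fun n => by
      obtain ⟨i, hi⟩ := mem_zpowers_iff.1 ((mem_normalizer_iff.1 n.2 z).1 (mem_zpowers z))
      rcases (show i % 3 = 0 ∨ i % 3 = 1 ∨ i % 3 = 2 by omega) with e | e | e <;>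
        rw [← zpow_mod_orderOf, hz, Nat.cast_ofNat, e] at hi
      · exfalso
        rw [zpow_zero] at hi
        rw [conj_eq_one_iff.1 hi.symm, orderOf_one] at hz
        omega
      · left; exact Subtype.ext (hi.symm.trans (zpow_one z))
      · right; refine Subtype.ext (hi.symm.trans ?_)
        show z ^ (2 : ℤ) = z⁻¹
        rw [show (2 : ℤ) = 3 - 1 from rfl, zpow_sub, show z ^ (3 : ℤ) = 1 by exact_mod_cast hz3, zpow_one, one_mul])
    (fun n h1 h2 => by
      obtain ⟨i, hi⟩ := mem_zpowers_iff.1 (hC n (congrArg Subtype.val h1) fun k hk =>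
        congrArg Subtype.val (h2 ⟨k, hKN hk⟩ hk))
      exact mem_zpowers_iff.2 ⟨i, Subtype.ext (by rw [← hi]; rfl)⟩)
  refine ⟨?_, ⟨f⟩⟩
  have hle : centralizer ({z} : Set M) ≤ N := by
    intro x hx
    rw [mem_centralizer_singleton_iff] at hx
    refine mem_normalizer_iff.2 fun y => ?_
    have hx' : ∀ i : ℤ, x * z ^ i * x⁻¹ = z ^ i := fun i => by
      rw [((show Commute x z from hx).zpow_right i).eq, mul_inv_cancel_right]
    constructor
    · intro hy
      obtain ⟨i, rfl⟩ := mem_zpowers_iff.1 hy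
      rw [hx']; exact zpow_mem (mem_zpowers z) i
    · intro hy
      obtain ⟨i, hi⟩ := mem_zpowers_iff.1 hy
      exact mem_zpowers_iff.2 ⟨i, mul_left_cancel (a := x) (mul_right_cancel (b := x⁻¹) (by rw [hx', hi]))⟩
  set c := (f ⟨z, hzN⟩).1 with hc
  have hfz : f ⟨z, hzN⟩ = (c, 1) := Prod.ext rfl hfz2
  have hc3 : c ^ 3 = 1 := by
    rw [hc, ← Prod.pow_fst, ← map_pow, show (⟨z, hzN⟩ : N) ^ 3 = 1 from Subtype.ext hz3, map_one]
    rfl
  let g3 : Multiplicative (ZMod 3) →* Perm (Fin 3) :=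
    MonoidHom.mk' (fun i => c ^ i.toAdd.val) fun i j => by
      rw [← pow_add]
      show c ^ (i.toAdd + j.toAdd).val = _
      rw [ZMod.val_add]
      exact (pow_eq_pow_mod _ hc3).symm
  let g : Multiplicative (ZMod 3) × Perm (Fin 5) →* N :=
    f.symm.toMonoidHom.comp (g3.prodMap (MonoidHom.id _))
  have hmem : ∀ t, (g t : M) ∈ centralizer ({z} : Set M) := by
    intro t
    refine mem_centralizer_singleton_iff.2 (congrArg Subtype.val (?_ : g t * ⟨z, hzN⟩ = ⟨z, hzN⟩ * g t))
    apply f.injective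
    have hg : f (g t) = (c ^ t.1.toAdd.val, t.2) := f.apply_symm_apply _
    rw [map_mul, map_mul, hg, hfz, Prod.mk_mul_mk, Prod.mk_mul_mk, mul_one, one_mul,
      ← pow_succ, ← pow_succ']
  let G' : Multiplicative (ZMod 3) × Perm (Fin 5) →* centralizer ({z} : Set M) :=
    (N.subtype.comp g).codRestrict _ hmem
  refine ⟨(MulEquiv.ofBijective G' ⟨?_, ?_⟩).symm⟩
  · rw [← MonoidHom.ker_eq_bot_iff, eq_bot_iff]
    rintro ⟨i, x⟩ hn
    have h1 : (g (i, x) : M) = 1 := congrArg Subtype.val (MonoidHom.mem_ker.1 hn)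
    have h2 : (c ^ i.toAdd.val, x) = (1 : Perm (Fin 3) × Perm (Fin 5)) :=
      f.symm.injective ((Subtype.ext h1 : g (i, x) = 1).trans (map_one f.symm).symm)
    obtain ⟨h3, rfl⟩ := Prod.mk.inj h2
    have hc1 : orderOf c = 3 := by
      haveI : Fact (Nat.Prime 3) := ⟨Nat.prime_three⟩
      exact orderOf_eq_prime hc3 hfz1
    have h5 := orderOf_dvd_of_pow_eq_one h3
    rw [hc1] at h5
    have h4 : i.toAdd.val = 0 := Nat.eq_zero_of_dvd_of_lt h5 (ZMod.val_lt _)
    rw [mem_bot, show i = 1 from Multiplicative.toAdd.injective ((ZMod.val_eq_zero _).1 h4)]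
    rfl
  · rintro ⟨x, hx⟩
    have hcomm : f ⟨x, hle hx⟩ * f ⟨z, hzN⟩ = f ⟨z, hzN⟩ * f ⟨x, hle hx⟩ := by
      rw [← map_mul, ← map_mul]
      exact congrArg f (Subtype.ext (mem_centralizer_singleton_iff.1 hx))
    rw [hfz] at hcomm
    obtain ⟨k, hk⟩ := cent_three_cycle c _ hc3 hfz1 (congrArg Prod.fst hcomm)
    refine ⟨(Multiplicative.ofAdd ((k : ℕ) : ZMod 3), (f ⟨x, hle hx⟩).2), Subtype.ext ?_⟩
    show (f.symm (c ^ ((k : ℕ) : ZMod 3).val, (f ⟨x, hle hx⟩).2) : M) = x
    rw [ZMod.val_natCast, Nat.mod_eq_of_lt k.2, ← hk, Prod.mk.eta, f.symm_apply_apply]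

end CfsgLib.Recog.McLThree
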