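import Cfsg.Agent.Lib.Recog.McLThree.CentTChart
import Cfsg.Agent.Lib.Recog.McLThree.CentTK
import Cfsg.Agent.Lib.Recog.McLThree.ChartAbstractBig

/-!
The big case: the centraliser and the normaliser of the line of `z` in the central quotient of the centraliser
of `T`.
-/

set_option autoImplicit false
set_option linter.style.haveILetI false
set_option linter.unusedSectionVars false
set_option Elab.async false

namespace CfsgLib.Recog.McLThree

open Subgroup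

variable {G : Type*} [Group G] [Finite G] {h : Hyp G}

namespace Coords

variable (c : Coords h)

theorem T_pow_two : orderOf c.T = 2 :=
  haveI : Fact (Nat.Prime 2) := ⟨by norm_num⟩
  orderOf_eq_prime (by rw [pow_two]; exact c.T_sq) c.T_ne

/-- The centraliser of `z` and `T` has order 720 in the big case. -/
theorem card_CZ_CT (hbig : Nat.card h.CZ = 2 * Nat.card h.L0) {d : G} (hd : d ∈ c.D) (hdL : d ∉ h.L0) :
    Nat.card ↥(h.CZ ⊓ c.CT) = 720 := by
  have hidx : (h.L0.subgroupOf h.CZ).index = 2 := by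
    have e := card_mul_index (h.L0.subgroupOf h.CZ)
    rw [Nat.card_congr (subgroupOfEquivOfLe h.L0_le_CZ).toEquiv, hbig, mul_comm 2] at e
    exact Nat.eq_of_mul_eq_mul_left Nat.card_pos e
  obtain ⟨hdz, hdT, -⟩ := c.mem_D.1 hd
  have hdA : d ∈ h.CZ ⊓ c.CT := ⟨h.mem_CZ.2 hdz, c.mem_cent_T.2 hdT⟩
  let f : c.HT × Fin 2 → ↥(h.CZ ⊓ c.CT) := fun t =>
    ⟨(t.1 : G) * d ^ (t.2 : ℕ), mul_mem ⟨h.L0_le_CZ t.1.2.1, t.1.2.2⟩ (pow_mem hdA _)⟩
  have hinj : Function.Injective f := by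
    rintro ⟨x, i⟩ ⟨y, j⟩ e
    have e0 : (x : G) * d ^ (i : ℕ) = (y : G) * d ^ (j : ℕ) := congrArg Subtype.val e
    fin_cases i <;> fin_cases j <;> simp only [pow_zero, pow_one, mul_one] at e0
    · rw [Subtype.ext e0]
    · refine absurd ?_ hdL
      rw [show d = (y : G)⁻¹ * x by rw [e0, inv_mul_cancel_left]]
      exact mul_mem (inv_mem y.2.1) x.2.1
    · refine absurd ?_ hdL
      rw [show d = (x : G)⁻¹ * y by rw [← e0, inv_mul_cancel_left]]
      exact mul_mem (inv_mem x.2.1) y.2.1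
    · rw [Subtype.ext (mul_right_cancel e0)]
  have hsurj : Function.Surjective f := by
    rintro ⟨g, hgZ, hgT⟩
    by_cases hgL : g ∈ h.L0
    · exact ⟨(⟨g, hgL, hgT⟩, 0), Subtype.ext (by show g * d ^ 0 = g; rw [pow_zero, mul_one])⟩
    · have hL : g * d⁻¹ ∈ h.L0 := by
        have hm := (mul_mem_iff_of_index_two hidx (a := (⟨g, hgZ⟩ : h.CZ)) (b := ⟨d, hdA.1⟩⁻¹)).2
          (iff_of_false hgL (fun e => hdL (by simpa [mem_subgroupOf] using e)))
        exact hm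
      have hT : g * d⁻¹ ∈ c.CT := mul_mem hgT (inv_mem hdA.2)
      exact ⟨(⟨_, hL, hT⟩, 1), Subtype.ext (by show g * d⁻¹ * d ^ 1 = g; rw [pow_one, inv_mul_cancel_right])⟩
  rw [← Nat.card_congr (Equiv.ofBijective f ⟨hinj, hsurj⟩), Nat.card_prod, c.card_HT, Nat.card_fin]

/-- The normaliser of the line of `z` in `CT` has order 1440 in the big case. -/
theorem card_NZ_CT (hbig : Nat.card h.CZ = 2 * Nat.card h.L0) {d : G} (hd : d ∈ c.D) (hdL : d ∉ h.L0) :
    Nat.card ↥(h.NZ ⊓ c.CT) = 1440 := by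
  have hW : c.W ∈ h.NZ ⊓ c.CT := ⟨c.W_NZ, c.W_mem_cent⟩
  have hpar : ∀ x ∈ h.CZ, x * c.W ∉ h.CZ := by
    intro x hx hxW
    refine h.z_ne_inv ?_
    have e := mul_inv_eq_iff_eq_mul.2 (h.mem_CZ.1 hxW)
    rw [show x * c.W * h.z * (x * c.W)⁻¹ = x * (c.W * h.z * c.W⁻¹) * x⁻¹ by group, c.W_z, ← conj_inv,
      mul_inv_eq_iff_eq_mul.2 (h.mem_CZ.1 hx)] at e
    exact e.symm
  let f : ↥(h.CZ ⊓ c.CT) × Fin 2 → ↥(h.NZ ⊓ c.CT) := fun t =>
    ⟨(t.1 : G) * c.W ^ (t.2 : ℕ), mul_mem ⟨h.CZ_le_NZ t.1.2.1, t.1.2.2⟩ (pow_mem hW _)⟩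
  have hinj : Function.Injective f := by
    rintro ⟨x, i⟩ ⟨y, j⟩ e
    have e0 : (x : G) * c.W ^ (i : ℕ) = (y : G) * c.W ^ (j : ℕ) := congrArg Subtype.val e
    fin_cases i <;> fin_cases j <;> simp only [pow_zero, pow_one, mul_one] at e0
    · rw [Subtype.ext e0]
    · exact absurd (e0 ▸ x.2.1) (hpar _ y.2.1)
    · exact absurd (e0.symm ▸ y.2.1) (hpar _ x.2.1)
    · rw [Subtype.ext (mul_right_cancel e0)]
  have hsurj : Function.Surjective f := by
    rintro ⟨g, hgN, hgT⟩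
    rcases h.z_conj hgN with e | e
    · exact ⟨(⟨g, h.mem_CZ.2 (mul_inv_eq_iff_eq_mul.1 e), hgT⟩, 0),
        Subtype.ext (by show g * c.W ^ 0 = g; rw [pow_zero, mul_one])⟩
    · have e2 : c.W⁻¹ * h.z * c.W = h.z⁻¹ := by
        have := congrArg (fun x => c.W⁻¹ * x⁻¹ * c.W) c.W_z
        simpa [mul_assoc] using this.symm
      have hC : g * c.W⁻¹ ∈ h.CZ := h.mem_CZ.2 (mul_inv_eq_iff_eq_mul.1 (by
        rw [show g * c.W⁻¹ * h.z * (g * c.W⁻¹)⁻¹ = g * (c.W⁻¹ * h.z * c.W) * g⁻¹ by group, e2, ← conj_inv, e,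
          inv_inv]))
      exact ⟨(⟨_, hC, mul_mem hgT (Subgroup.inv_mem c.CT c.W_mem_cent)⟩, 1),
        Subtype.ext (by show g * c.W⁻¹ * c.W ^ 1 = g; rw [pow_one, inv_mul_cancel_right])⟩
  rw [← Nat.card_congr (Equiv.ofBijective f ⟨hinj, hsurj⟩), Nat.card_prod, c.card_CZ_CT hbig hd hdL,
    Nat.card_fin]

/-- The normaliser of the line in the quotient has order 720. -/
theorem card_NZb_big (hbig : Nat.card h.CZ = 2 * Nat.card h.L0) {d : G} (hd : d ∈ c.D) (hdL : d ∉ h.L0) :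
    Nat.card c.NZb = 720 := by
  let P : Subgroup c.CT := h.NZ.subgroupOf c.CT
  have hTP : c.TN ≤ P := zpowers_le.2 (mem_subgroupOf.2 (h.CZ_le_NZ c.T_CZ))
  have hP : Nat.card P = 1440 := by
    rw [← c.card_NZ_CT hbig hd hdL]
    exact Nat.card_congr ⟨fun x => ⟨x.1.1, x.2, x.1.2⟩, fun x => ⟨⟨x.1, x.2.2⟩, x.2.1⟩,
      fun _ => rfl, fun _ => rfl⟩
  have hmap : P.map c.mkT = c.NZb := by
    apply le_antisymm
    · rintro _ ⟨n, hn, rfl⟩; exact c.NZb_of_conj hn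
    · intro X hX
      obtain ⟨n, rfl⟩ := QuotientGroup.mk'_surjective c.TN X
      exact ⟨n, c.conj_of_NZb hX, rfl⟩
  have hT2 : Nat.card c.TN = 2 := by
    rw [Nat.card_zpowers, ← Subgroup.orderOf_coe]; exact c.T_pow_two
  have h1 := card_mul_index (c.mkT.domRestrict P).ker
  rw [index_ker, MonoidHom.domRestrict_range, hmap, hP] at h1
  have e1 : Nat.card (c.mkT.domRestrict P).ker = 2 := by
    rw [← hT2]
    exact Nat.card_congr ⟨fun x => ⟨x.1.1, (QuotientGroup.eq_one_iff _).1 x.2⟩,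
      fun x => ⟨⟨x.1, hTP x.2⟩, (QuotientGroup.eq_one_iff _).2 x.2⟩, fun _ => rfl, fun _ => rfl⟩
  rw [e1] at h1
  omega

/-- The image of the binary icosahedral group in the quotient. -/
def KTb : Subgroup c.CTbar := (c.mkT.comp (inclusion (c.KT_le.trans inf_le_right))).range

theorem exists_KTb_A5 : Nonempty (c.KTb ≃* alternatingGroup (Fin 5)) := by
  obtain ⟨f, hf, hk⟩ := c.exists_KT_toA5
  let μ : c.KT →* c.CTbar := c.mkT.comp (inclusion (c.KT_le.trans inf_le_right))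
  have hker : μ.ker = f.ker := by
    ext k
    rw [MonoidHom.mem_ker, MonoidHom.mem_ker, hk]
    show (QuotientGroup.mk' c.TN) _ = 1 ↔ _
    rw [QuotientGroup.mk'_apply, QuotientGroup.eq_one_iff]
    constructor
    · intro hm
      obtain ⟨i, hi⟩ := mem_zpowers_iff.1 hm
      exact mem_zpowers_iff.2 ⟨i, congrArg Subtype.val hi⟩
    · intro hm
      obtain ⟨i, hi⟩ := mem_zpowers_iff.1 hm
      exact mem_zpowers_iff.2 ⟨i, Subtype.ext hi⟩
  exact ⟨(QuotientGroup.quotientKerEquivRange μ).symm.trans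
    ((QuotientGroup.quotientMulEquivOfEq hker).trans (QuotientGroup.quotientKerEquivOfSurjective f hf))⟩

/-- What centralises `z` and the icosahedral group modulo `T` is in the line. -/
theorem cent_KTb {X : c.CTbar} (hXz : X * c.zb = c.zb * X) (hX : ∀ k ∈ c.KTb, X * k = k * X) :
    X ∈ zpowers c.zb := by
  obtain ⟨x, rfl⟩ := QuotientGroup.mk'_surjective c.TN X
  obtain ⟨b, hb⟩ := c.exists_gen
  obtain ⟨e, he⟩ := c.exists_KT_equiv
  have hKT : c.KT ≤ c.CT := c.KT_le.trans inf_le_right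
  have hexact : ∀ a : c.CT, (a : G) ^ 3 = 1 → c.mkT x * c.mkT a = c.mkT a * c.mkT x → (x : G) * a = a * x := by
    intro a ha hc
    have := c.lift_eq (a := x * a * x⁻¹) (b := a)
      (by simp only [Subgroup.coe_mul, Subgroup.coe_inv]; rw [conj_pow, ha]; simp) ha
      (by rw [map_mul, map_mul, map_inv, mul_inv_eq_iff_eq_mul]; exact hc)
    exact mul_inv_eq_iff_eq_mul.1 this
  have hxz : (x : G) * h.z = h.z * x := hexact ⟨h.z, c.E_le_cent c.z_mem_E⟩ h.z_cube hXz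
  have hxT : (x : G) * c.T = c.T * x := c.mem_cent_T.1 x.2
  have comm : ∀ k : c.KT, k ^ 3 = 1 → (x : G) * k = k * x := fun k hk =>
    hexact (inclusion hKT k) (congrArg Subtype.val hk) (hX _ ⟨k, rfl⟩)
  obtain ⟨ka, hka⟩ := e.surjective c.a0
  obtain ⟨kb, hkb⟩ := e.surjective (h.piL b)
  have hka3 : ka ^ 3 = 1 := e.injective (by rw [map_pow, hka, map_one]; exact c.a0_facts.1)
  have hkb3 : kb ^ 3 = 1 := e.injective (by rw [map_pow, hkb, map_one]; exact hb.1)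
  rw [he] at hka hkb
  have hz'Z : (ka : G)⁻¹ * c.z' ∈ h.Z := by
    refine c.centQ_T ((h.piL_eq_iff c.z'_mem_L0 (c.KT_le ka.2).1).1 hka.symm) ?_
    exact (((show Commute c.T (ka : G) from (c.mem_cent_T.1 (hKT ka.2)).symm).inv_right).mul_right
      (show Commute c.T c.z' from (mem_centralizer_singleton_iff.1 c.z'_mem_E.2).symm)).eq
  have hxz' : (x : G) * c.z' = c.z' * x := by
    obtain ⟨i, hi⟩ := mem_zpowers_iff.1 hz'Z
    rw [show c.z' = (ka : G) * h.z ^ i by rw [hi, mul_inv_cancel_left]]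
    exact ((show Commute (x : G) (ka : G) from comm ka hka3).mul_right
      ((show Commute (x : G) h.z from hxz).zpow_right i)).eq
  have hxD : (x : G) ∈ c.D := c.mem_D.2 ⟨hxz, hxT, hxz'⟩
  have hxN : c.InN b x := by
    refine ⟨hxD, ?_⟩
    set q0 := (b : G) * (kb : G)⁻¹ with hq0
    have hq : q0 ∈ h.Q := by
      have := (h.piL_eq_iff b.2 (c.KT_le kb.2).1).1 hkb.symm
      have := h.conj_Q (h.CZ_le_NZ (h.L0_le_CZ (c.KT_le kb.2).1)) this
      rwa [show (kb : G) * ((kb : G)⁻¹ * b) * (kb : G)⁻¹ = q0 by simp only [q0]; group] at this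
    have e1 : (x : G) * b * (x : G)⁻¹ = ((x : G) * q0 * (x : G)⁻¹) * kb := by
      calc (x : G) * b * (x : G)⁻¹ = ((x : G) * q0 * (x : G)⁻¹) * ((x : G) * kb * (x : G)⁻¹) := by
            simp only [q0]; group
        _ = _ := by rw [mul_inv_eq_iff_eq_mul.2 (comm kb hkb3)]
    have e2 : (b : G)⁻¹ * ((x : G) * b * (x : G)⁻¹) =
        (kb : G)⁻¹ * (q0⁻¹ * ((x : G) * q0 * (x : G)⁻¹)) * kb := by
      rw [e1, show (b : G) = q0 * kb by simp only [q0]; group]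
      group
    rw [e2]
    have := h.conj_Q (inv_mem (h.CZ_le_NZ (h.L0_le_CZ (c.KT_le kb.2).1)))
      (mul_mem (inv_mem hq) (h.conj_Q (h.CZ_le_NZ (c.D_CZ hxD)) hq))
    rwa [inv_inv] at this
  have fin : ∀ y : c.CT, (y : G) ∈ h.Z → c.mkT y ∈ zpowers c.zb := by
    intro y hy
    obtain ⟨i, hi⟩ := mem_zpowers_iff.1 hy
    exact mem_zpowers_iff.2 ⟨i, by rw [zb, ← map_zpow]; congr 1; exact Subtype.ext (by simpa using hi)⟩
  rcases hxN.small c hb with hz | hz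
  · exact fin x hz
  · have := fin (c.Tc * x) hz
    rwa [map_mul, c.mk_T, one_mul] at this

/-- The two charts of the big case. -/
theorem big_charts (hbig : Nat.card h.CZ = 2 * Nat.card h.L0) {d : G} (hd : d ∈ c.D) (hdL : d ∉ h.L0) :
    Nonempty (centralizer ({c.zb} : Set c.CTbar) ≃* Multiplicative (ZMod 3) × Equiv.Perm (Fin 5)) ∧
      Nonempty (c.NZb ≃* Equiv.Perm (Fin 3) × Equiv.Perm (Fin 5)) := by
  haveI : Fact (Nat.Prime 3) := ⟨by norm_num⟩
  have hKT : c.KT ≤ c.CT := c.KT_le.trans inf_le_right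
  have hz3 : c.zb ^ 3 = 1 := by
    rw [zb, ← map_pow]; exact (congrArg c.mkT (Subtype.ext h.z_cube)).trans (map_one _)
  have hzb1 : c.zb ≠ 1 := fun e => h.z_ne
    (c.lift_eq (a := ⟨h.z, c.E_le_cent c.z_mem_E⟩) (b := 1) h.z_cube (by simp) (e.trans (map_one c.mkT).symm))
  refine exists_big_charts c.zb (orderOf_eq_prime hz3 hzb1) (c.card_NZb_big hbig hd hdL) c.KTb ?_ ?_
    c.exists_KTb_A5 ?_ fun X h1 h2 => c.cent_KTb h1 h2
  · rintro _ ⟨k, rfl⟩
    exact c.NZb_of_conj (h.CZ_le_NZ (h.L0_le_CZ (c.KT_le k.2).1))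
  · intro X hX Y hY
    obtain ⟨n, rfl⟩ := QuotientGroup.mk'_surjective c.TN X
    obtain ⟨k, rfl⟩ := hY
    exact ⟨⟨_, c.conj_KT (c.conj_of_NZb hX) (c.mem_cent_T.1 n.2) k.2⟩, rfl⟩
  · rintro _ ⟨k, rfl⟩
    rw [zb, MonoidHom.comp_apply, ← map_mul, ← map_mul]
    congr 1
    exact Subtype.ext (c.HT_comm_z (c.KT_le k.2)).symm

end Coords

end CfsgLib.Recog.McLThree
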