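import Cfsg.Agent.Lib.Recog.McLThree.CentT

/-!
Local facts for the case in which `L0` has index two in the centraliser of `z`: the conjugates of `T`
commuting with it and with a member of `E`.
-/

set_option autoImplicit false
set_option linter.style.haveILetI false
set_option linter.unusedSectionVars false

namespace CfsgLib.Recog.McLThree

open Subgroup

theorem exists_rot : ∃ s : A6, s * t0 * s⁻¹ = u0 ∧ s * u0 * s⁻¹ = t0 * u0 := by decide +kernel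

variable {G : Type*} [Group G] [Finite G] {h : Hyp G}

/-- Two members of `CZ` outside `L0` multiply into `L0`. -/
theorem Hyp.mul_mem_L0 (hbig : Nat.card h.CZ = 2 * Nat.card h.L0) {a b : G} (ha : a ∈ h.CZ)
    (hb : b ∈ h.CZ) (ha' : a ∉ h.L0) (hb' : b ∉ h.L0) : a * b ∈ h.L0 := by
  have hidx : (h.L0.subgroupOf h.CZ).index = 2 := by
    have h1 := Subgroup.card_mul_index (h.L0.subgroupOf h.CZ)
    rw [Nat.card_congr (subgroupOfEquivOfLe h.L0_le_CZ).toEquiv, hbig,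
      mul_comm 2 (Nat.card h.L0)] at h1
    exact Nat.eq_of_mul_eq_mul_left Nat.card_pos h1
  have hm := (mul_mem_iff_of_index_two hidx (a := (⟨a, ha⟩ : h.CZ)) (b := ⟨b, hb⟩)).2
    (iff_of_false (fun e => ha' e) (fun e => hb' e))
  exact hm

namespace Coords

variable (c : Coords h)

include c in
theorem exists_outer (hbig : Nat.card h.CZ = 2 * Nat.card h.L0) : ∃ d ∈ c.D, d ∉ h.L0 := by
  by_contra hc
  push Not at hc
  have hle : h.CZ ≤ h.L0 := fun g hg => by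
    obtain ⟨k, hk, d, hd, rfl⟩ := c.CZ_decomp hg
    exact mul_mem hk (hc d hd)
  have h1 := Subgroup.card_le_of_le hle
  have h2 : 0 < Nat.card h.L0 := Nat.card_pos
  omega

/-- The members of `D` lie in two cosets. -/
theorem D_big_cases (hbig : Nat.card h.CZ = 2 * Nat.card h.L0) {d x : G} (hd : d ∈ c.D)
    (hdL : d ∉ h.L0) (hx : x ∈ c.D) :
    (x ∈ c.E ∨ x * c.T ∈ c.E) ∨ (d⁻¹ * x ∈ c.E ∨ d⁻¹ * x * c.T ∈ c.E) := by
  by_cases hxL : x ∈ h.L0
  · exact Or.inl (c.D_L0_cases hx hxL)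
  · exact Or.inr (c.D_L0_cases (mul_mem (inv_mem hd) hx)
      (h.mul_mem_L0 hbig (inv_mem (c.D_CZ hd)) (c.D_CZ hx) (fun e => hdL (inv_mem_iff.1 e)) hxL))

theorem W_pow_z : ∀ i : ℕ, c.W ^ i * h.z * (c.W ^ i)⁻¹ = h.z ^ ((-1 : ℤ) ^ i)
  | 0 => by simp
  | i + 1 => by
    rw [pow_succ', show c.W * c.W ^ i * h.z * (c.W * c.W ^ i)⁻¹ = c.W * (c.W ^ i * h.z * (c.W ^ i)⁻¹) * c.W⁻¹ by
      group, W_pow_z i, ← conj_zpow, c.W_z, inv_zpow, ← zpow_neg]
    congr 1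
    ring

include c in
/-- The centraliser of `z` in `M0` lies in `L0`. -/
theorem M0_CZ {x : G} (hx : x ∈ h.M0) (hxC : x ∈ h.CZ) : x ∈ h.L0 := by
  obtain ⟨hT, -⟩ := c.T_L0
  obtain ⟨s, hs, i, e⟩ := c.normS_decomp (k := ⟨x, hx⟩)
    (h.NZ_normJ_le_normS (h.CZ_le_NZ hxC) (h.M0_le_normJ hx))
  change x = s * c.W ^ i at e
  rcases Nat.even_or_odd i with hev | hodd
  · obtain ⟨m, hm⟩ := hev
    rw [e, hm, ← two_mul, pow_mul, pow_two]
    exact mul_mem (h.S_le_L0 hs) (pow_mem hT m)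
  · exfalso
    have hWi : c.W ^ i * h.z * (c.W ^ i)⁻¹ = h.z := by
      have : c.W ^ i ∈ h.CZ := by
        have := mul_mem (inv_mem (h.S_le_CZ hs)) hxC
        rwa [e, inv_mul_cancel_left] at this
      exact mul_inv_eq_iff_eq_mul.2 (h.mem_CZ.1 this)
    rw [c.W_pow_z i, hodd.neg_one_pow, zpow_neg_one] at hWi
    exact h.z_ne_inv hWi.symm

/-- A `3`-element of the centraliser of `T` is conjugate there into `E`. -/
theorem exists_conj_E {x : G} (hx : x * c.T = c.T * x) (h3 : x ^ 3 = 1) :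
    ∃ k : G, k * c.T = c.T * k ∧ k * x * k⁻¹ ∈ c.E := by
  haveI : Fact (Nat.Prime 3) := ⟨by norm_num⟩
  set C := centralizer ({c.T} : Set G)
  have hp : IsPGroup 3 c.E := IsPGroup.of_card (n := 2) (by rw [c.card_E]; norm_num)
  obtain ⟨P, hP⟩ := (hp.comap_subtype (K := C)).exists_le_sylow
  have hPE : (P : Subgroup C).map C.subtype = c.E :=
    c.three_sub_cent (P.isPGroup'.map _) (map_subtype_le _)
      fun e he => ⟨⟨e, c.E_le_cent he⟩, hP (show _ ∈ c.E.subgroupOf C from he), rfl⟩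
  have hxp : IsPGroup 3 (zpowers (⟨x, mem_centralizer_singleton_iff.2 hx⟩ : C)) := by
    rintro ⟨u, hu⟩
    obtain ⟨n, rfl⟩ := mem_zpowers_iff.1 hu
    refine ⟨1, Subtype.ext ?_⟩
    show ((⟨x, _⟩ : C) ^ n) ^ (3 ^ 1) = 1
    rw [pow_one, ← zpow_natCast, ← zpow_mul, mul_comm, zpow_mul, zpow_natCast,
      show (⟨x, mem_centralizer_singleton_iff.2 hx⟩ : C) ^ 3 = 1 from Subtype.ext h3, one_zpow]
  obtain ⟨R, hR⟩ := hxp.exists_le_sylow
  obtain ⟨k, hk⟩ := MulAction.exists_smul_eq C R P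
  refine ⟨k, mem_centralizer_singleton_iff.1 k.2, hPE.le ?_⟩
  refine ⟨k * ⟨x, mem_centralizer_singleton_iff.2 hx⟩ * k⁻¹, ?_, rfl⟩
  show k * ⟨x, _⟩ * k⁻¹ ∈ (P : Subgroup C)
  rw [← hk, Sylow.coe_subgroup_smul]
  exact ⟨_, hR (mem_zpowers _), rfl⟩

/-- The only conjugate of `T` commuting with `T` and `z` is `T`. -/
theorem not_conj_z {v g : G} (hvT : v * c.T = c.T * v) (hvz : v * h.z = h.z * v)
    (e : g * c.T * g⁻¹ = v) : v = c.T := by
  have hx : g⁻¹ * h.z * g * c.T = c.T * (g⁻¹ * h.z * g) := by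
    calc g⁻¹ * h.z * g * c.T = g⁻¹ * (h.z * v) * g := by rw [← e]; group
      _ = g⁻¹ * (v * h.z) * g := by rw [hvz]
      _ = c.T * (g⁻¹ * h.z * g) := by rw [← e]; group
  obtain ⟨k, hk, hkE⟩ := c.exists_conj_E hx (by
    have := conj_pow (a := g⁻¹) (b := h.z) (i := 3)
    rw [inv_inv, h.z_cube, mul_one, inv_mul_cancel] at this
    exact this)
  -- move the point to `z`
  obtain ⟨m, hm, hmz⟩ : ∃ m : G, m * c.T = c.T * m ∧ m * (k * (g⁻¹ * h.z * g) * k⁻¹) * m⁻¹ = h.z := by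
    have hp := c.points_E (g := k * g⁻¹) (by
      rwa [show k * g⁻¹ * h.z * (k * g⁻¹)⁻¹ = k * (g⁻¹ * h.z * g) * k⁻¹ by group])
    rw [show k * g⁻¹ * h.z * (k * g⁻¹)⁻¹ = k * (g⁻¹ * h.z * g) * k⁻¹ by group] at hp
    rcases hp with e1 | e1 | e1 | e1 <;> rw [e1]
    · exact ⟨1, by simp, by simp⟩
    · exact ⟨c.W, (mul_assoc _ _ _).symm, by rw [← conj_inv, c.W_z, inv_inv]⟩
    · exact ⟨c.U, c.U_T, c.U_conj_z'⟩
    · refine ⟨c.U * c.W, (Commute.mul_left c.U_T (mul_assoc _ _ _).symm).eq, ?_⟩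
      rw [show c.U * c.W * c.z'⁻¹ * (c.U * c.W)⁻¹ = c.U * (c.W * c.z'⁻¹ * c.W⁻¹) * c.U⁻¹ by group,
        ← conj_inv, c.W_z', inv_inv, c.U_conj_z']
  set g2 := g * k⁻¹ * m⁻¹
  have hg2 : g2 ∈ h.CZ := by
    refine h.mem_CZ.2 ?_
    calc g2 * h.z = g * k⁻¹ * m⁻¹ * (m * (k * (g⁻¹ * h.z * g) * k⁻¹) * m⁻¹) := by rw [hmz]
      _ = h.z * g2 := by simp only [g2]; group
  have hv : g2 * c.T * g2⁻¹ = v := by
    have h1 : k⁻¹ * m⁻¹ * c.T * (m * k) = c.T := by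
      have hc : Commute (k⁻¹ * m⁻¹) c.T :=
        Commute.mul_left (show Commute k c.T from hk).inv_left (show Commute m c.T from hm).inv_left
      rw [hc.eq]; group
    calc g2 * c.T * g2⁻¹ = g * (k⁻¹ * m⁻¹ * c.T * (m * k)) * g⁻¹ := by simp only [g2]; group
      _ = v := by rw [h1, e]
  obtain ⟨hT, hpi⟩ := c.T_L0
  have hvL : v ∈ h.L0 := hv ▸ h.conj_L0 (h.CZ_le_NZ hg2) hT
  have hv2 : v * v = 1 := by
    rw [← e, show g * c.T * g⁻¹ * (g * c.T * g⁻¹) = g * (c.T * c.T) * g⁻¹ by group, c.T_sq]; group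
  have hvQ : v ∉ h.Q := fun hq => by
    have h3 := h.Q_exp _ hq
    rw [pow_succ, pow_two, hv2, one_mul] at h3
    rw [h3] at e
    exact c.T_ne (conj_eq_one_iff.1 e)
  have hne : h.piL ⟨v, hvL⟩ ≠ 1 := fun e1 => hvQ (by
    have hk : (⟨v, hvL⟩ : h.L0) ∈ h.piL.ker := MonoidHom.mem_ker.2 e1
    rwa [h.piL_ker, mem_subgroupOf] at hk)
  have hneg := sl_involution _ (by
    rw [← map_mul, show (⟨v, hvL⟩ : h.L0) * ⟨v, hvL⟩ = 1 from Subtype.ext hv2, map_one]) hne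
  have hk : (⟨v, hvL⟩ * ⟨c.T, hT⟩ : h.L0) ∈ h.piL.ker := by
    rw [MonoidHom.mem_ker, map_mul, hneg, hpi, sl_neg_one.2.1]
  rw [h.piL_ker, mem_subgroupOf] at hk
  have hZ : v * c.T ∈ h.Z :=
    c.centQ_T hk ((show Commute c.T v from hvT.symm).mul_right (Commute.refl _)).eq
  have h3 := h.Q_exp _ ((zpowers_le.2 h.z_mem_Q : h.Z ≤ h.Q) hZ)
  rw [(show Commute v c.T from hvT).mul_pow, pow_succ, pow_two, hv2, one_mul, pow_succ, pow_two,
    c.T_sq, one_mul] at h3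
  rw [eq_inv_of_mul_eq_one_left h3, c.T_inv]

/-- A conjugate of `T` commuting with `T` and with `y` lies in `M0`. -/
theorem not_conj_y (hy : centralizer ({c.y} : Set G) ≤ normalizer (h.J : Set G)) {v g : G}
    (hvy : v * c.y = c.y * v) (e : g * c.T * g⁻¹ = v) : v ∈ h.M0 := by
  have hx : g⁻¹ * c.y * g * c.T = c.T * (g⁻¹ * c.y * g) := by
    calc g⁻¹ * c.y * g * c.T = g⁻¹ * (c.y * v) * g := by rw [← e]; group
      _ = g⁻¹ * (v * c.y) * g := by rw [hvy]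
      _ = c.T * (g⁻¹ * c.y * g) := by rw [← e]; group
  obtain ⟨k, hk, hkE⟩ := c.exists_conj_E hx (by
    have := conj_pow (a := g⁻¹) (b := c.y) (i := 3)
    rw [inv_inv, h.J_exp _ c.y_mem_J, mul_one, inv_mul_cancel] at this
    exact this)
  obtain ⟨l, hl, hlT, hlz', -⟩ := c.exists_l
  have hlz : l * h.z * l⁻¹ = h.z := mul_inv_eq_iff_eq_mul.2 (h.mem_CZ.1 (h.L0_le_CZ hl))
  have hly : l * (h.z * c.z'⁻¹) * l⁻¹ = c.y := by
    rw [← conj_mul, hlz, ← conj_inv, hlz', inv_inv]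
  have hWy : ∀ a b : G, c.W * a * c.W⁻¹ = a⁻¹ → c.W * b * c.W⁻¹ = b⁻¹ → a * b = b * a →
      c.W * (a * b)⁻¹ * c.W⁻¹ = a * b := by
    intro a b ha hb hab
    rw [← conj_inv, ← conj_mul, ha, hb, mul_inv_rev, inv_inv, inv_inv, hab]
  -- move the member of `E` to `y`
  obtain ⟨m, hm, hmy⟩ : ∃ m : G, m * c.T = c.T * m ∧ m * (k * (g⁻¹ * c.y * g) * k⁻¹) * m⁻¹ = c.y := by
    obtain ⟨a, b, hab⟩ := c.mem_E_iff.1 hkE
    have hnp : ∀ f : G, f * h.z * f⁻¹ ≠ k * (g⁻¹ * c.y * g) * k⁻¹ ∧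
        f * h.z⁻¹ * f⁻¹ ≠ k * (g⁻¹ * c.y * g) * k⁻¹ := by
      intro f
      refine ⟨fun e1 => (c.y_not_conj (g := g * k⁻¹ * f)).1 ?_,
        fun e1 => (c.y_not_conj (g := g * k⁻¹ * f)).2 ?_⟩
      · calc g * k⁻¹ * f * h.z * (g * k⁻¹ * f)⁻¹ = g * k⁻¹ * (f * h.z * f⁻¹) * k * g⁻¹ := by group
          _ = c.y := by rw [e1]; group
      · calc g * k⁻¹ * f * h.z * (g * k⁻¹ * f)⁻¹ = (g * k⁻¹ * (f * h.z⁻¹ * f⁻¹) * k * g⁻¹)⁻¹ := by group
          _ = c.y⁻¹ := by rw [e1]; group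
    have hy1 : k * (g⁻¹ * c.y * g) * k⁻¹ ≠ 1 := fun e1 => by
      have h1 : c.y = 1 := by
        calc c.y = g * k⁻¹ * (k * (g⁻¹ * c.y * g) * k⁻¹) * k * g⁻¹ := by group
          _ = 1 := by rw [e1]; group
      exact c.z'_notMem_Z (by rw [eq_inv_of_mul_eq_one_right h1]; exact inv_mem (mem_zpowers _))
    rw [hab] at hnp hy1 ⊢
    have hzi : h.z ^ 2 = h.z⁻¹ := eq_inv_of_mul_eq_one_left (by rw [← pow_succ, h.z_cube])
    have hz'i : c.z' ^ 2 = c.z'⁻¹ := eq_inv_of_mul_eq_one_left (by rw [← pow_succ, c.z'_cube])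
    have hcomm : h.z * c.z' = c.z' * h.z := h.J_comm _ h.z_mem_J _ c.z'_mem_E.1
    fin_cases a <;> fin_cases b <;>
      simp only [pow_zero, pow_one, one_mul, mul_one, hzi, hz'i] at hnp hy1 ⊢
    · exact absurd rfl hy1
    · exact absurd rfl (hnp c.U).1
    · exact absurd (conj_inv (a := h.z)).symm (hnp c.U).2
    · exact absurd (by simp) (hnp 1).1
    · exact ⟨1, by simp, by simp⟩
    · exact ⟨l, hlT, hly⟩
    · exact absurd (by simp) (hnp 1).2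
    · refine ⟨l * c.W, (Commute.mul_left (show Commute l c.T from hlT) (mul_assoc _ _ _).symm).eq, ?_⟩
      rw [show l * c.W * (h.z⁻¹ * c.z') * (l * c.W)⁻¹ = l * (c.W * (h.z⁻¹ * c.z') * c.W⁻¹) * l⁻¹ by group,
        show h.z⁻¹ * c.z' = (h.z * c.z'⁻¹)⁻¹ from by
          rw [mul_inv_rev, inv_inv]; exact ((show Commute h.z c.z' from hcomm).inv_left).eq,
        hWy _ _ c.W_z (by rw [← conj_inv, c.W_z'])
          ((show Commute h.z c.z' from hcomm).inv_right).eq, hly]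
    · refine ⟨c.W, (mul_assoc _ _ _).symm, ?_⟩
      rw [show h.z⁻¹ * c.z'⁻¹ = (h.z * c.z')⁻¹ by rw [← mul_inv_rev, hcomm], hWy _ _ c.W_z c.W_z' hcomm]
  set g2 := g * k⁻¹ * m⁻¹
  have hg2 : g2 ∈ normalizer (h.J : Set G) := hy (mem_centralizer_singleton_iff.2 (by
    calc g2 * c.y = g * k⁻¹ * m⁻¹ * (m * (k * (g⁻¹ * c.y * g) * k⁻¹) * m⁻¹) := by rw [hmy]
      _ = c.y * g2 := by simp only [g2]; group))
  have hv : g2 * c.T * g2⁻¹ = v := by
    have h1 : k⁻¹ * m⁻¹ * c.T * (m * k) = c.T := by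
      have hc : Commute (k⁻¹ * m⁻¹) c.T :=
        Commute.mul_left (show Commute k c.T from hk).inv_left (show Commute m c.T from hm).inv_left
      rw [hc.eq]; group
    calc g2 * c.T * g2⁻¹ = g * (k⁻¹ * m⁻¹ * c.T * (m * k)) * g⁻¹ := by simp only [g2]; group
      _ = v := by rw [h1, e]
  exact hv ▸ h.normJ_le_normM0 hg2 c.T_mem_M0

/-- An element rotating the three involutions of `⟨T, U⟩`. -/
theorem exists_sigma : ∃ σ : G, σ * c.T * σ⁻¹ = c.U ∧ σ * c.U * σ⁻¹ = c.T * c.U := by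
  obtain ⟨s, hs1, hs2⟩ := exists_rot
  obtain ⟨g1, hg1⟩ := c.pi_surj s
  set t : h.M0 := c.w * c.w
  have htt : t * t = 1 := Subtype.ext c.T_sq
  set T' := g1 * t * g1⁻¹
  have hT'2 : T' * T' = 1 := by
    rw [show g1 * t * g1⁻¹ * (g1 * t * g1⁻¹) = g1 * (t * t) * g1⁻¹ by group, htt]; group
  have hcube : ∀ x : h.M0, c.pi x = 1 → x ^ 3 = 1 := fun x hx =>
    Subtype.ext (h.J_exp _ ((c.pi_ker x).1 hx))
  have hu2 : c.u * c.u = 1 := c.u_two
  have hu00 : u0 * u0 = 1 := w0_facts.2.2.2.2.2.2.2.2.1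
  have hk : c.pi (T' * c.u) = 1 := by
    rw [map_mul, map_mul, map_mul, map_inv, hg1, c.pi_T, c.pi_u, hs1, hu00]
  set g2 := T' * c.u * g1
  have hg2T : g2 * t * g2⁻¹ = c.u := by
    rw [show g2 * t * g2⁻¹ = T' * c.u * T' * (T' * c.u)⁻¹ by simp only [g2, T']; group]
    exact conj_invol hT'2 hu2 (hcube _ hk)
  have hpg2 : c.pi g2 = s := by rw [map_mul, hk, hg1, one_mul]
  set U' := g2 * c.u * g2⁻¹
  set X := t * c.u
  have hut : c.u * t = t * c.u := c.u_t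
  have hX2 : X * X = 1 := by
    calc X * X = t * (c.u * t) * c.u := by simp only [X, mul_assoc]
      _ = t * t * (c.u * c.u) := by rw [hut]; simp only [mul_assoc]
      _ = 1 := by rw [htt, hu2, one_mul]
  have hU'2 : U' * U' = 1 := by
    rw [show g2 * c.u * g2⁻¹ * (g2 * c.u * g2⁻¹) = g2 * (c.u * c.u) * g2⁻¹ by group, hu2]; group
  have hpU' : c.pi U' = t0 * u0 := by
    show c.pi (g2 * c.u * g2⁻¹) = _
    rw [map_mul c.pi (g2 * c.u) g2⁻¹, map_mul c.pi g2 c.u, map_inv, hpg2, c.pi_u, hs2]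
  have hpX : c.pi X = t0 * u0 := by
    show c.pi (t * c.u) = _
    rw [map_mul c.pi t c.u, c.pi_T, c.pi_u]
  have hk2 : c.pi (U' * X) = 1 := by
    rw [map_mul c.pi U' X, hpU', hpX,
      show t0 * u0 * (t0 * u0) = t0 * (u0 * t0) * u0 by simp only [mul_assoc],
      w0_facts.2.2.2.2.2.2.2.1, show t0 * (t0 * u0) * u0 = t0 * t0 * (u0 * u0) by simp only [mul_assoc],
      hu00, w0_facts.2.1, one_mul]
  have hUU' : U' * c.u = c.u * U' := by
    calc U' * c.u = g2 * c.u * g2⁻¹ * (g2 * t * g2⁻¹) := by rw [hg2T]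
      _ = g2 * (c.u * t) * g2⁻¹ := by group
      _ = g2 * (t * c.u) * g2⁻¹ := by rw [hut]
      _ = g2 * t * g2⁻¹ * U' := by simp only [U']; group
      _ = c.u * U' := by rw [hg2T]
  have hXu : X * c.u = c.u * X := by
    simp only [X]; rw [← mul_assoc c.u, hut]
  set σ := U' * X * g2
  refine ⟨(σ : h.M0), congrArg Subtype.val (?_ : σ * t * σ⁻¹ = c.u),
    congrArg Subtype.val (?_ : σ * c.u * σ⁻¹ = X)⟩
  · rw [show σ * t * σ⁻¹ = U' * X * (g2 * t * g2⁻¹) * (U' * X)⁻¹ by simp only [σ]; group, hg2T,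
      ((show Commute U' c.u from hUU').mul_left hXu).eq, mul_inv_cancel_right]
  · rw [show σ * c.u * σ⁻¹ = U' * X * U' * (U' * X)⁻¹ by simp only [σ, U']; group]
    exact conj_invol hU'2 hX2 (hcube _ hk2)

/-- `l` times its conjugate under `U` agrees with `W` up to `E` and `T`, so they do not commute. -/
theorem l_noncomm {l : G} (hl : l ∈ h.L0) (hlT : l * c.T = c.T * l)
    (hlz' : l * c.z' * l⁻¹ = c.z'⁻¹) (hll : l * l * c.T⁻¹ ∈ h.Z) :
    (c.W⁻¹ * (l * (c.U * l * c.U)) ∈ c.E ∨ c.W⁻¹ * (l * (c.U * l * c.U)) * c.T ∈ c.E) ∧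
      l * (c.U * l * c.U) ≠ c.U * l * c.U * l := by
  obtain ⟨hTL, -⟩ := c.T_L0
  have hlz : l * h.z * l⁻¹ = h.z := mul_inv_eq_iff_eq_mul.2 (h.mem_CZ.1 (h.L0_le_CZ hl))
  have hlN := h.CZ_le_NZ (h.L0_le_CZ hl)
  have hlJ : l ∈ normalizer (h.J : Set G) := by
    refine h.normS_le_normJ (mem_normalizer_of_forward fun s hs => ?_)
    have hle : h.Q ⊔ zpowers c.z' ≤ (h.S : Subgroup G).comap (MulAut.conj l).toMonoidHom := by
      refine sup_le (fun x hx => h.Q_le_S (h.conj_Q hlN hx)) (zpowers_le.2 ?_)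
      show l * c.z' * l⁻¹ ∈ (h.S : Subgroup G)
      rw [hlz']
      exact inv_mem (h.J_le c.z'_mem_E.1)
    exact hle (c.S_le_sup hs)
  set X := l * (c.U * l * c.U)
  have hXM : c.W⁻¹ * X ∈ h.M0 := by
    refine mul_mem (inv_mem c.w.2) ?_
    rw [show X = (l * c.U * l⁻¹) * (l * l * c.T⁻¹) * c.T * c.U by simp only [X]; group]
    exact mul_mem (mul_mem (mul_mem (h.normJ_le_normM0 hlJ c.u.2)
      (h.J_le_M0 ((zpowers_le.2 h.z_mem_J : h.Z ≤ h.J) hll))) c.T_mem_M0) c.u.2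
  have hUz : c.U * h.z * c.U⁻¹ = c.z' := rfl
  have hXz : X * h.z * X⁻¹ = h.z⁻¹ := by
    rw [show X * h.z * X⁻¹ = l * (c.U * (l * (c.U * h.z * c.U⁻¹) * l⁻¹) * c.U⁻¹) * l⁻¹ by
      simp only [X]; group, hUz, hlz', ← conj_inv, c.U_conj_z', ← conj_inv, hlz]
  have hXz' : X * c.z' * X⁻¹ = c.z'⁻¹ := by
    rw [show X * c.z' * X⁻¹ = l * (c.U * (l * (c.U * c.z' * c.U⁻¹) * l⁻¹) * c.U⁻¹) * l⁻¹ by
      simp only [X]; group, c.U_conj_z', hlz, hUz, hlz']
  have hWT : Commute c.W c.T := (mul_assoc _ _ _).symm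
  have hUT : Commute c.U c.T := c.U_T
  have hXT : Commute X c.T := (show Commute l c.T from hlT).mul_left ((hUT.mul_left hlT).mul_left hUT)
  have hD : c.W⁻¹ * X ∈ c.D := c.mem_D_of_same hWT.eq hXT.eq (by rw [hXz, c.W_z]) (by rw [hXz', c.W_z'])
  have hcases := c.D_L0_cases hD (c.M0_CZ hXM (c.D_CZ hD))
  refine ⟨hcases, fun hc => ?_⟩
  -- then `U` would commute with `W` up to `E`
  have hUX : c.U * X * c.U = X := by
    rw [show c.U * X * c.U = c.U * l * c.U * l * (c.U * c.U) by simp only [X]; group, c.U_sq, mul_one]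
    exact hc.symm
  set j := c.W * c.U * c.W * c.U with hj
  have hjE : j ∈ c.E := by
    refine ⟨(c.pi_ker (c.w * c.u * c.w * c.u)).1 ?_, mem_centralizer_singleton_iff.2
      (((hWT.mul_left hUT).mul_left hWT).mul_left hUT).eq⟩
    rw [map_mul, map_mul, map_mul, c.pi_w, c.pi_u]
    have e := w0_facts.2.2.2.2.2.2.2.2.2.1
    rw [inv_eq_of_mul_eq_one_right w0_facts.2.2.2.2.2.2.2.2.1] at e
    calc w0 * u0 * w0 * u0 = w0 * (u0 * w0 * u0) := by simp only [mul_assoc]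
      _ = 1 := by rw [e, mul_inv_cancel]
  have hUE : ∀ e ∈ c.E, c.U * e * c.U ∈ c.E := by
    intro e he
    obtain ⟨a, b, rfl⟩ := c.mem_E_iff.1 he
    nth_rewrite 2 [← c.U_inv]
    rw [← conj_mul, ← conj_pow, ← conj_pow, c.U_conj_z']
    exact mul_mem (pow_mem c.z'_mem_E _) (pow_mem c.z_mem_E _)
  have key : ∀ e ∈ c.E, c.U * (c.W * e) * c.U = c.W * e → False := by
    intro e he h1
    have h2 : c.W * c.W = j * (c.U * e * c.U) * e⁻¹ := by
      calc c.W * c.W = c.W * (c.U * (c.W * e) * c.U) * e⁻¹ := by rw [h1]; group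
        _ = c.W * c.U * c.W * (c.U * c.U) * e * c.U * e⁻¹ := by
            rw [c.U_sq]; simp only [mul_assoc, one_mul]
        _ = j * (c.U * e * c.U) * e⁻¹ := by simp only [j]; group
    have hTE : c.T ∈ c.E := by
      show c.W * c.W ∈ c.E
      rw [h2]; exact mul_mem (mul_mem hjE (hUE e he)) (inv_mem he)
    exact c.T_notMem_Q ((zpowers_le.2 h.z_mem_Q : h.Z ≤ h.Q) (by
      have h3 := h.J_exp _ hTE.1
      rw [pow_succ, pow_two, c.T_sq, one_mul] at h3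
      rw [h3]; exact one_mem _))
  rcases hcases with he | he
  · exact key _ he (by rw [mul_inv_cancel_left]; exact hUX)
  · refine key _ he ?_
    rw [show c.W * (c.W⁻¹ * X * c.T) = X * c.T by group,
      show c.U * (X * c.T) * c.U = c.U * X * (c.T * c.U) by group, ← hUT.eq,
      show c.U * X * (c.U * c.T) = (c.U * X * c.U) * c.T by group, hUX]

end Coords

end CfsgLib.Recog.McLThree
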