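import Mathlib.GroupTheory.Perm.Cycle.Type
import Mathlib.GroupTheory.SpecificGroups.Alternating
import Mathlib.Tactic

/-!
Involutions of the symmetric group of degree eight and the centraliser of a Sylow `3`-subgroup.
-/

set_option autoImplicit false
set_option maxRecDepth 100000
set_option maxHeartbeats 1000000
set_option Elab.async false

namespace CfsgLib.Recog.McLThree

open Equiv Equiv.Perm

/-- The permutations of eight letters. -/
abbrev Q8p := Perm (Fin 8)

/-- `(0 1 2)`. -/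
def ea8 : Q8p := swap 0 1 * swap 1 2
/-- `(3 4 5)`. -/
def eb8 : Q8p := swap 3 4 * swap 4 5
/-- `(6 7)`. -/
def tr1 : Q8p := swap 6 7
/-- `(0 1)(3 4)`. -/
def tr2 : Q8p := swap 0 1 * swap 3 4
/-- `(0 3)(1 4)(2 5)`. -/
def tr3 : Q8p := swap 0 3 * swap 1 4 * swap 2 5

/-- The elements of the centraliser of the Sylow subgroup. -/
def el8 (a b : Fin 3) (e : Fin 2) : Q8p := ea8 ^ (a : ℕ) * eb8 ^ (b : ℕ) * tr1 ^ (e : ℕ)

theorem el8_inj : ∀ a b : Fin 3, ∀ e : Fin 2, ∀ a' b' : Fin 3, ∀ e' : Fin 2,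
    el8 a b e = el8 a' b' e' → a = a' ∧ b = b' ∧ e = e' := by decide +kernel

theorem el8_comm : ∀ a b : Fin 3, ∀ e : Fin 2,
    el8 a b e * ea8 = ea8 * el8 a b e ∧ el8 a b e * eb8 = eb8 * el8 a b e := by decide +kernel

theorem el8_closed : ∀ a b a' b' : Fin 3, ∃ a'' b'' : Fin 3,
    el8 a b 0 * el8 a' b' 0 = el8 a'' b'' 0 := by decide +kernel

theorem el8_invol : ∀ a b : Fin 3, ∀ e : Fin 2,
    el8 a b e * el8 a b e = 1 → el8 a b e ≠ 1 → el8 a b e = tr1 := by decide +kernel

theorem tr1_ne : ∀ a b : Fin 3, tr1 ≠ el8 a b 0 := by decide +kernel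

theorem tr1_cent : tr1 * ea8 = ea8 * tr1 ∧ tr1 * eb8 = eb8 * tr1 ∧ tr1 * tr1 = 1 ∧ tr1.support.card = 2 := by
  decide +kernel

theorem el8_invert : ∀ a b : Fin 3, ∀ e : Fin 2, Equiv.Perm.sign (el8 a b e * tr2) = 1 →
    el8 a b e * tr2 * (el8 a b e * tr2) = 1 → (el8 a b e * tr2).support.card = 4 := by decide +kernel

theorem tr2_facts : tr2 * tr2 = 1 ∧ tr2 * ea8 * tr2 = ea8⁻¹ ∧ tr2 * eb8 * tr2 = eb8⁻¹ := by decide +kernel

theorem tr3_facts : tr3 * tr3 = 1 ∧ tr3.support.card = 6 ∧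
    (swap (0 : Fin 8) 3).support.card = 2 ∧ (swap (1 : Fin 8) 4).support.card = 2 ∧
    (swap (2 : Fin 8) 5).support.card = 2 ∧
    (swap (0 : Fin 8) 3 * swap 1 4).support.card = 4 ∧ (swap (0 : Fin 8) 3 * swap 2 5).support.card = 4 ∧
    (swap (1 : Fin 8) 4 * swap 2 5).support.card = 4 ∧
    (swap (0 : Fin 8) 3 * swap 1 4) * (swap 0 3 * swap 1 4) = 1 ∧
    (swap (0 : Fin 8) 3 * swap 2 5) * (swap 0 3 * swap 2 5) = 1 ∧
    (swap (1 : Fin 8) 4 * swap 2 5) * (swap 1 4 * swap 2 5) = 1 := by decide +kernel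

/-- Three double transpositions commuting with an odd involution. -/
def HasDoubles (r : Q8p) : Prop := ∃ x y : Q8p,
  x * r = r * x ∧ y * r = r * y ∧ x * x = 1 ∧ y * y = 1 ∧ x * y * (x * y) = 1 ∧
    x.support.card = 4 ∧ y.support.card = 4 ∧ (x * y).support.card = 4

theorem doubles_tr : HasDoubles tr1 ∧ HasDoubles tr3 :=
  ⟨⟨swap 0 1 * swap 2 3, swap 0 2 * swap 1 3, by decide +kernel⟩,
    ⟨swap 0 3 * swap 1 4, swap 1 4 * swap 2 5, by decide +kernel⟩⟩

/-- Involutions with supports of equal size are conjugate. -/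
theorem isConj_invol {x y : Q8p} (hx : x * x = 1) (hy : y * y = 1)
    (hs : x.support.card = y.support.card) : IsConj x y := by
  haveI : Fact (Nat.Prime 2) := ⟨Nat.prime_two⟩
  refine isConj_of_cycleType_eq ?_
  have ex := cycleType_of_pow_prime_eq_one (σ := x) (p := 2) (by rw [pow_two, hx])
  have ey := cycleType_of_pow_prime_eq_one (σ := y) (p := 2) (by rw [pow_two, hy])
  rw [← x.sum_cycleType, ← y.sum_cycleType, ex, ey, Multiset.sum_replicate, Multiset.sum_replicate,
    smul_eq_mul, smul_eq_mul] at hs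
  rw [ex, ey, show x.cycleType.card = y.cycleType.card by omega]

/-- The four kinds of involutions. -/
theorem invol_kinds {x : Q8p} (hx : x * x = 1) (h1 : x ≠ 1) :
    (x.support.card = 2 ∧ Equiv.Perm.sign x = -1) ∨ (x.support.card = 4 ∧ Equiv.Perm.sign x = 1) ∨
      (x.support.card = 6 ∧ Equiv.Perm.sign x = -1) ∨ (x.support.card = 8 ∧ Equiv.Perm.sign x = 1) := by
  haveI : Fact (Nat.Prime 2) := ⟨Nat.prime_two⟩
  have ex := cycleType_of_pow_prime_eq_one (σ := x) (p := 2) (by rw [pow_two, hx])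
  have hsum : x.support.card = x.cycleType.card * 2 := by
    conv_lhs => rw [← x.sum_cycleType, ex, Multiset.sum_replicate, smul_eq_mul]
  have hle : x.support.card ≤ 8 := (Finset.card_le_univ _).trans (by simp)
  have hpos : 0 < x.cycleType.card := card_cycleType_pos.2 h1
  have hsgn : Equiv.Perm.sign x = (-1) ^ (x.cycleType.card * 2 + x.cycleType.card) := by
    rw [sign_of_cycleType, sum_cycleType, hsum]
  have hn : x.cycleType.card = 1 ∨ x.cycleType.card = 2 ∨ x.cycleType.card = 3 ∨ x.cycleType.card = 4 := by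
    omega
  rcases hn with e | e | e | e <;> rw [e] at hsum hsgn
  · exact Or.inl ⟨hsum, hsgn.trans (by decide)⟩
  · exact Or.inr (Or.inl ⟨hsum, hsgn.trans (by decide)⟩)
  · exact Or.inr (Or.inr (Or.inl ⟨hsum, hsgn.trans (by decide)⟩))
  · exact Or.inr (Or.inr (Or.inr ⟨hsum, hsgn.trans (by decide)⟩))

/-- An odd involution has three commuting double transpositions. -/
theorem odd_doubles {x : Q8p} (hx : x * x = 1) (hs : Equiv.Perm.sign x = -1) : HasDoubles x := by
  have hne : x ≠ 1 := fun e => by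
    rw [e, map_one] at hs
    exact absurd hs (by decide)
  have key : ∀ r : Q8p, HasDoubles r → IsConj r x → HasDoubles x := by
    rintro r ⟨a, b, h1, h2, h3, h4, h5, h6, h7, h8⟩ hc
    obtain ⟨g, hg⟩ := isConj_iff.1 hc
    subst hg
    refine ⟨g * a * g⁻¹, g * b * g⁻¹, ?_, ?_, ?_, ?_, ?_, ?_, ?_, ?_⟩
    · rw [conj_mul, h1, conj_mul]
    · rw [conj_mul, h2, conj_mul]
    · rw [conj_mul, h3]; group
    · rw [conj_mul, h4]; group
    · rw [conj_mul, conj_mul, h5]; group
    · rw [card_support_conj, h6]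
    · rw [card_support_conj, h7]
    · rw [conj_mul, card_support_conj, h8]
  rcases invol_kinds hx hne with ⟨e, e'⟩ | ⟨e, e'⟩ | ⟨e, e'⟩ | ⟨e, e'⟩
  · exact key _ doubles_tr.1 (isConj_invol tr1_cent.2.2.1 hx (by rw [tr1_cent.2.2.2, e]))
  · rw [e'] at hs; exact absurd hs (by decide)
  · exact key _ doubles_tr.2 (isConj_invol tr3_facts.1 hx (by rw [tr3_facts.2.1, e]))
  · rw [e'] at hs; exact absurd hs (by decide)

/-- A transposition times a fixed-point-free involution is no transposition. -/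
theorem tr1_mul_support {x : Q8p} (hx : x.support.card = 8) : (tr1 * x).support.card ≠ 2 := by
  intro hc
  have hle := Finset.card_le_card (support_mul_le tr1⁻¹ (tr1 * x))
  rw [inv_mul_cancel_left, hx, Finset.sup_eq_union] at hle
  have h2 := Finset.card_union_le tr1⁻¹.support (tr1 * x).support
  rw [support_inv, tr1_cent.2.2.2, hc] at h2
  rw [support_inv] at hle
  omega

end CfsgLib.Recog.McLThree
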