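import Cfsg.Agent.Lib.Recog.McLThree.CentTQuot
import Cfsg.Agent.Lib.Recog.McLThree.CentTK
import Cfsg.Agent.Lib.Recog.McLThree.BigLocal
import Cfsg.Agent.Lib.Recog.McLThree.EightFacts

/-!
The sign of the centraliser of `T` when its central quotient is symmetric of degree eight: the even
involutions are conjugates of `T`, the odd ones are not, and there are odd involutions.
-/

set_option autoImplicit false
set_option linter.style.haveILetI false
set_option linter.unusedSectionVars false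

namespace CfsgLib.Recog.McLThree

open Subgroup

theorem el8_inv : ∀ a b : Fin 3, ∃ a' b' : Fin 3, (el8 a b 0)⁻¹ = el8 a' b' 0 := by decide +kernel

/-- The Sylow subgroup spanned by two disjoint three-cycles. -/
def nine8 : Subgroup Q8p where
  carrier := {x | ∃ a b : Fin 3, x = el8 a b 0}
  one_mem' := ⟨0, 0, by decide +kernel⟩
  mul_mem' := by
    rintro _ _ ⟨a, b, rfl⟩ ⟨a', b', rfl⟩
    exact el8_closed a b a' b'
  inv_mem' := by
    rintro _ ⟨a, b, rfl⟩
    exact el8_inv a b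

theorem card_nine8 : Nat.card nine8 = 9 := by
  let f : Fin 3 × Fin 3 → nine8 := fun p => ⟨el8 p.1 p.2 0, p.1, p.2, rfl⟩
  have hb : Function.Bijective f := by
    refine ⟨fun p q e => ?_, ?_⟩
    · obtain ⟨h1, h2, -⟩ := el8_inj _ _ _ _ _ _ (congrArg Subtype.val e)
      exact Prod.ext h1 h2
    · rintro ⟨_, a, b, rfl⟩
      exact ⟨(a, b), rfl⟩
  rw [← Nat.card_congr (Equiv.ofBijective f hb), Nat.card_prod, Nat.card_fin]

variable {G : Type*} [Group G] [Finite G] {h : Hyp G}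

namespace Coords

variable (c : Coords h)

theorem exists_theta (θ : c.CTbar ≃* Q8p) : ∃ θ' : c.CTbar ≃* Q8p, c.Eb.map θ'.toMonoidHom = nine8 := by
  haveI : Fact (Nat.Prime 3) := ⟨by norm_num⟩
  have hfac : (Nat.card Q8p).factorization 3 = 2 := by
    rw [Nat.card_eq_fintype_card, Fintype.card_perm, Fintype.card_fin,
      show (Nat.factorial 8) = 3 ^ 2 * 4480 by decide,
      Nat.factorization_mul (by norm_num) (by norm_num), Finsupp.add_apply,
      Nat.Prime.factorization_pow (by norm_num), Finsupp.single_eq_same,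
      Nat.factorization_eq_zero_of_not_dvd (show ¬ 3 ∣ 4480 by norm_num)]
  let P1 : Sylow 3 Q8p := Sylow.ofCard (c.Eb.map θ.toMonoidHom) (by
    rw [hfac, Subgroup.card_map_of_injective θ.injective, c.card_Eb]; norm_num)
  let P2 : Sylow 3 Q8p := Sylow.ofCard nine8 (by rw [hfac, card_nine8]; norm_num)
  obtain ⟨g, hg⟩ := MulAction.exists_smul_eq Q8p P1 P2
  refine ⟨θ.trans (MulAut.conj g), ?_⟩
  have e : ((g • P1 : Sylow 3 Q8p) : Subgroup Q8p) = nine8 := by rw [hg]; rfl
  rw [← e, Sylow.coe_subgroup_smul]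
  show c.Eb.map ((MulAut.conj g).toMonoidHom.comp θ.toMonoidHom) = _
  rw [← Subgroup.map_map]
  rfl

/-- The odd character of the centraliser of `T` and its involutions. -/
theorem exists_odd_char (hbig : Nat.card h.CZ = 2 * Nat.card h.L0)
    (hy : centralizer ({c.y} : Set G) ≤ normalizer (h.J : Set G)) (θ₀ : c.CTbar ≃* Q8p) :
    ∃ (χ : c.CT →* ℤˣ) (d : c.CT), (d : G) ∈ c.D ∧ (d : G) ∉ h.L0 ∧ χ d = -1 ∧
      χ ⟨c.U, c.U_mem_cent⟩ = 1 ∧ χ c.Tc = 1 ∧
      (d * d = 1 ∨ d * ⟨c.U, c.U_mem_cent⟩ * (d * ⟨c.U, c.U_mem_cent⟩) = 1) ∧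
      (∀ v : c.CT, v * v = 1 → v ≠ 1 → v ≠ c.Tc → χ v = 1 → ∃ g : G, g * c.T * g⁻¹ = v) ∧
      (∀ v : c.CT, v * v = 1 → χ v = -1 → ∀ g : G, g * c.T * g⁻¹ ≠ (v : G)) := by
  classical
  obtain ⟨θ, hθ⟩ := c.exists_theta θ₀
  let f : c.CT →* Q8p := θ.toMonoidHom.comp c.mkT
  have hfs : Function.Surjective f := θ.surjective.comp (QuotientGroup.mk'_surjective _)
  have hfk : ∀ x : c.CT, f x = 1 → x = 1 ∨ x = c.Tc := by
    intro x hx
    have h1 : c.mkT x = 1 := θ.injective (hx.trans (map_one θ).symm)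
    exact (c.mem_TN ((QuotientGroup.eq_one_iff _).1 h1)).imp (fun e => Subtype.ext e) (fun e => Subtype.ext e)
  have hfT : f c.Tc = 1 := by
    show θ (c.mkT c.Tc) = 1
    rw [c.mk_T, map_one]
  let χ : c.CT →* ℤˣ := (Equiv.Perm.sign).comp f
  have hχ : ∀ x, χ x = Equiv.Perm.sign (f x) := fun _ => rfl
  set Tc := c.Tc with hTc
  have hTc2 : Tc * Tc = 1 := Subtype.ext c.T_sq
  have hTcen : ∀ x : c.CT, x * Tc = Tc * x := fun x => Subtype.ext (c.mem_cent_T.1 x.2)
  have hTne : Tc ≠ 1 := fun e => c.T_ne (congrArg Subtype.val e)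
  set Uc : c.CT := ⟨c.U, c.U_mem_cent⟩ with hUc
  have hUc2 : Uc * Uc = 1 := Subtype.ext c.U_sq
  let Wc : c.CT := ⟨c.W, c.W_mem_cent⟩
  have hWc2 : Wc * Wc = Tc := rfl
  -- the image of `E`
  have hE : ∀ e : c.E, ∃ a b : Fin 3, f (inclusion c.E_le_cent e) = el8 a b 0 := fun e =>
    hθ.le ⟨_, ⟨e, rfl⟩, rfl⟩
  have hEge : ∀ a b : Fin 3, ∃ e : c.E, f (inclusion c.E_le_cent e) = el8 a b 0 := fun a b => by
    obtain ⟨_, ⟨e, rfl⟩, he⟩ := hθ.ge ⟨a, b, rfl⟩
    exact ⟨e, he⟩
  have hgen8 : ∀ p : Q8p, p * ea8 = ea8 * p → p * eb8 = eb8 * p →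
      ∀ a b : Fin 3, p * el8 a b 0 = el8 a b 0 * p := by
    intro p h1 h2 a b
    show p * (ea8 ^ (a : ℕ) * eb8 ^ (b : ℕ) * tr1 ^ 0) = _
    rw [pow_zero, mul_one, show el8 a b 0 = ea8 ^ (a : ℕ) * eb8 ^ (b : ℕ) * tr1 ^ 0 from rfl, pow_zero,
      mul_one]
    exact (((show Commute p ea8 from h1).pow_right _).mul_right ((show Commute p eb8 from h2).pow_right _)).eq
  have centD : ∀ n : c.CT, f n * ea8 = ea8 * f n → f n * eb8 = eb8 * f n → (n : G) ∈ c.D := by
    intro n h1 h2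
    have key : ∀ e : c.E, (n : G) * e * (n : G)⁻¹ = e := by
      intro e
      obtain ⟨a, b, he⟩ := hE e
      refine c.lift_eq (a := n * inclusion c.E_le_cent e * n⁻¹) (b := inclusion c.E_le_cent e) ?_
        (h.J_exp _ e.2.1) (θ.injective ?_)
      · simp only [Subgroup.coe_mul, Subgroup.coe_inv, Subgroup.coe_inclusion]
        rw [conj_pow, h.J_exp _ e.2.1]; simp
      · show f (n * inclusion c.E_le_cent e * n⁻¹) = f (inclusion c.E_le_cent e)
        rw [map_mul, map_mul, map_inv, he, hgen8 _ h1 h2, mul_inv_cancel_right]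
    exact c.mem_D.2 ⟨mul_inv_eq_iff_eq_mul.1 (key ⟨h.z, c.z_mem_E⟩), c.mem_cent_T.1 n.2,
      mul_inv_eq_iff_eq_mul.1 (key ⟨c.z', c.z'_mem_E⟩)⟩
  obtain ⟨d, hd⟩ := hfs tr1
  have hdD : (d : G) ∈ c.D := centD d (hd ▸ tr1_cent.1) (hd ▸ tr1_cent.2.1)
  have hEor : ∀ x : c.CT, ((x : G) ∈ c.E ∨ (x : G) * c.T ∈ c.E) → ∃ a b : Fin 3, f x = el8 a b 0 := by
    intro x hx
    exact hθ.le ⟨_, c.mk_mem_Eb hx, rfl⟩
  have hdL : (d : G) ∉ h.L0 := fun hL => by
    obtain ⟨a, b, e⟩ := hEor d (c.D_L0_cases hdD hL)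
    exact tr1_ne a b (hd ▸ e)
  have hD18 : ∀ x : c.CT, (x : G) ∈ c.D → ∃ (a b : Fin 3) (e : Fin 2), f x = el8 a b e := by
    intro x hx
    rcases c.D_big_cases hbig hdD hdL hx with hc | hc
    · obtain ⟨a, b, e⟩ := hEor x hc
      exact ⟨a, b, 0, e⟩
    · obtain ⟨a, b, e⟩ := hEor (d⁻¹ * x) hc
      refine ⟨a, b, 1, ?_⟩
      rw [map_mul, map_inv, hd, inv_mul_eq_iff_eq_mul] at e
      rw [e, hgen8 _ tr1_cent.1 tr1_cent.2.1]
      simp [el8]
  -- the sign
  have hu3 : ∀ u : ℤˣ, u ^ 3 = 1 → u = 1 := by decide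
  have hu2 : ∀ u : ℤˣ, u * u = 1 := Int.units_mul_self
  have hχT : χ Tc = 1 := by rw [hχ, hfT, map_one]
  have hχ3 : ∀ x : c.CT, (x : G) ^ 3 = 1 → χ x = 1 := fun x hx =>
    hu3 _ (by rw [← map_pow, show x ^ 3 = 1 from Subtype.ext hx, map_one])
  obtain ⟨l, hl, hlT, hlz', hll⟩ := c.exists_l
  have hχl : χ ⟨l, c.mem_cent_T.2 hlT⟩ = 1 := by
    obtain ⟨k, hk, a, ha, e⟩ := c.exists_KT_mul (g := l) ⟨hl, mem_centralizer_singleton_iff.2 hlT⟩
    have hkT : k ∈ c.CT := (c.KT_le hk).2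
    have haT : a ∈ c.CT := (c.Z_le_HT ha).2
    have e2 : (⟨l, c.mem_cent_T.2 hlT⟩ : c.CT) = ⟨k, hkT⟩ * ⟨a, haT⟩ := Subtype.ext e
    rw [e2, map_mul, hχ3 ⟨a, haT⟩ (by
      obtain ⟨n, rfl⟩ := mem_zpowers_iff.1 ha
      show (h.z ^ n) ^ 3 = 1
      rw [← zpow_natCast, ← zpow_mul, mul_comm, zpow_mul, zpow_natCast, h.z_cube, one_zpow]), mul_one]
    obtain ⟨k', hk', hkk⟩ := c.map_commutator_HT.ge hk
    have hker : k' ∈ (χ.comp (inclusion (inf_le_right : c.HT ≤ c.CT))).ker :=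
      Abelianization.commutator_subset_ker _ hk'
    rw [show (⟨k, hkT⟩ : c.CT) = inclusion (inf_le_right : c.HT ≤ c.CT) k' from Subtype.ext hkk.symm]
    exact hker
  have hχW : χ Wc = 1 := by
    obtain ⟨hX, -⟩ := c.l_noncomm hl hlT hlz' hll
    set lc : c.CT := ⟨l, c.mem_cent_T.2 hlT⟩
    have h1 : χ (Wc⁻¹ * (lc * (Uc * lc * Uc))) = 1 := by
      rcases hX with hX | hX
      · exact hχ3 _ (h.J_exp _ hX.1)
      · have := hχ3 (Wc⁻¹ * (lc * (Uc * lc * Uc)) * Tc) (h.J_exp _ hX.1)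
        rwa [map_mul, hχT, mul_one] at this
    rw [map_mul, map_mul, map_mul, map_mul, map_inv, hχl, one_mul, mul_one, hu2, mul_one] at h1
    exact inv_eq_one.1 h1
  -- lifting conjugacy
  have hconj : ∀ x y : c.CT, IsConj (f x) (f y) → ∃ g : c.CT, y = g * x * g⁻¹ ∨ y = g * x * g⁻¹ * Tc := by
    intro x y hxy
    obtain ⟨p, hp⟩ := isConj_iff.1 hxy
    obtain ⟨g, rfl⟩ := hfs p
    refine ⟨g, ?_⟩
    have h1 : f ((g * x * g⁻¹)⁻¹ * y) = 1 := by
      rw [map_mul, map_inv, map_mul, map_mul, map_inv, hp, inv_mul_cancel]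
    rcases hfk _ h1 with e | e
    · exact Or.inl (inv_mul_eq_one.1 e).symm
    · exact Or.inr (eq_mul_of_inv_mul_eq e)
  have hsq : ∀ x y : c.CT, IsConj (f x) (f y) → (x * x = 1 ∨ x * x = Tc) → y * y = x * x := by
    intro x y hxy hxx
    have hmid : ∀ g : c.CT, g * (x * x) * g⁻¹ = x * x := fun g => by
      rcases hxx with e | e <;> rw [e]
      · group
      · rw [hTcen g, mul_inv_cancel_right]
    obtain ⟨g, rfl | rfl⟩ := hconj x y hxy
    · rw [show g * x * g⁻¹ * (g * x * g⁻¹) = g * (x * x) * g⁻¹ by group, hmid]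
    · rw [(show Commute Tc (g * x * g⁻¹) from (hTcen _).symm).mul_mul_mul_comm, hTc2, mul_one,
        show g * x * g⁻¹ * (g * x * g⁻¹) = g * (x * x) * g⁻¹ by group, hmid]
  have hsq1 : ∀ x : c.CT, f x * f x = 1 → x * x = 1 ∨ x * x = Tc := fun x hx =>
    hfk _ (by rw [map_mul, hx])
  have hW2 : f Wc * f Wc = 1 := by rw [← map_mul, hWc2, hfT]
  have hWsupp : (f Wc).support.card = 4 := by
    have hWE : ∀ e : c.E, f Wc * f (inclusion c.E_le_cent e) * (f Wc)⁻¹ = (f (inclusion c.E_le_cent e))⁻¹ := by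
      rintro ⟨e, he⟩
      rw [← map_inv, ← map_inv, ← map_mul, ← map_mul]
      congr 1
      refine Subtype.ext ?_
      show c.W * e * c.W⁻¹ = e⁻¹
      obtain ⟨a, b, rfl⟩ := c.mem_E_iff.1 he
      rw [← conj_mul, ← conj_pow, ← conj_pow, c.W_z, c.W_z', inv_pow, inv_pow, mul_inv_rev]
      exact h.J_comm _ (inv_mem (pow_mem h.z_mem_J _)) _ (inv_mem (pow_mem (show c.z' ∈ h.J from c.z'_mem_E.1) _))
    have hinv : ∀ p : Q8p, p ∈ nine8 → f Wc * p * (f Wc)⁻¹ = p⁻¹ := by
      rintro _ ⟨a, b, rfl⟩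
      obtain ⟨e, he⟩ := hEge a b
      rw [← he]; exact hWE e
    obtain ⟨n, hn⟩ := hfs (f Wc * tr2)
    have t2i : tr2⁻¹ = tr2 := inv_eq_of_mul_eq_one_right tr2_facts.1
    have hnine : ea8 ∈ nine8 ∧ eb8 ∈ nine8 :=
      ⟨⟨1, 0, by decide +kernel⟩, ⟨0, 1, by decide +kernel⟩⟩
    have hcm : ∀ p : Q8p, p ∈ nine8 → tr2 * p * tr2 = p⁻¹ → f n * p = p * f n := by
      intro p hp hp2
      refine mul_inv_eq_iff_eq_mul.1 ?_
      rw [hn, show f Wc * tr2 * p * (f Wc * tr2)⁻¹ = f Wc * (tr2 * p * tr2⁻¹) * (f Wc)⁻¹ by group, t2i, hp2,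
        ← conj_inv, hinv p hp, inv_inv]
    have hnD := centD n (hcm _ hnine.1 tr2_facts.2.1) (hcm _ hnine.2 tr2_facts.2.2)
    obtain ⟨a, b, e, he⟩ := hD18 n hnD
    have hW : f Wc = el8 a b e * tr2 := by
      rw [← he, hn, mul_assoc, tr2_facts.1, mul_one]
    rw [hW]
    refine el8_invert a b e ?_ ?_
    · rw [← hW, ← hχ]; exact hχW
    · rw [← hW]; exact hW2
  have hdouble : ∀ x : c.CT, f x * f x = 1 → (f x).support.card = 4 → x * x = Tc := fun x hx hs => by
    rw [hsq Wc x (isConj_invol hW2 hx (hWsupp.trans hs.symm)) (Or.inr hWc2), hWc2]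
  have hd2 : f d * f d = 1 := by rw [hd]; exact tr1_cent.2.2.1
  have hdd := hsq1 d hd2
  have hsingle : ∀ x : c.CT, f x * f x = 1 → (f x).support.card = 2 → x * x = d * d := fun x hx hs =>
    hsq d x (isConj_invol hd2 hx (by rw [hd, tr1_cent.2.2.2, hs])) hdd
  have hddc : ∀ x : c.CT, d * d * x = x * (d * d) := fun x => by
    rcases hdd with e | e <;> rw [e]
    · rw [one_mul, mul_one]
    · exact (hTcen x).symm
  -- lifts of disjoint transpositions anticommute
  have anti : ∀ x y : c.CT, f x * f x = 1 → f y * f y = 1 → (f x).support.card = 2 →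
      (f y).support.card = 2 → f x * f y * (f x * f y) = 1 → (f x * f y).support.card = 4 →
      y * x = Tc * (x * y) := by
    intro x y h1 h2 h3 h4 h5 h6
    have e1 := hdouble (x * y) (by rw [map_mul]; exact h5) (by rw [map_mul]; exact h6)
    calc y * x = x⁻¹ * (x * y * (x * y)) * y⁻¹ := by group
      _ = Tc * (x⁻¹ * y⁻¹) := by
          rw [e1, ← mul_assoc Tc, (hTcen x⁻¹).symm]
      _ = Tc * (x * y) := by
          congr 1
          have hx' := hsingle x h1 h3
          have hy' := hsingle y h2 h4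
          calc x⁻¹ * y⁻¹ = x⁻¹ * (x * x) * ((d * d)⁻¹ * (y * y)⁻¹ * y) := by
                rw [hx', hy']
                rcases hdd with e | e <;> rw [e]
                · rw [← e, ← hy']; group
                · rw [← e, ← hy']; group
            _ = x * y := by
                rw [hy', ← mul_assoc, inv_mul_cancel_left]
                rcases hdd with e | e <;> rw [e]
                · simp
                · rw [inv_eq_of_mul_eq_one_right hTc2, hTc2, mul_one]
  have htriple : ∀ x : c.CT, f x * f x = 1 → (f x).support.card = 6 → x * x = d * d * Tc := by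
    intro x hx hs
    obtain ⟨f1, f2, f3, f4, f5, f6, f7, f8, f9, f10, f11⟩ := tr3_facts
    obtain ⟨a, ha⟩ := hfs (Equiv.swap 0 3)
    obtain ⟨b, hb⟩ := hfs (Equiv.swap 1 4)
    obtain ⟨e, he⟩ := hfs (Equiv.swap 2 5)
    have sa : f a * f a = 1 := by rw [ha]; exact Equiv.swap_mul_self _ _
    have sb : f b * f b = 1 := by rw [hb]; exact Equiv.swap_mul_self _ _
    have se : f e * f e = 1 := by rw [he]; exact Equiv.swap_mul_self _ _
    have hba := anti a b sa sb (by rw [ha]; exact f3) (by rw [hb]; exact f4) (by rw [ha, hb]; exact f9)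
      (by rw [ha, hb]; exact f6)
    have hea := anti a e sa se (by rw [ha]; exact f3) (by rw [he]; exact f5) (by rw [ha, he]; exact f10)
      (by rw [ha, he]; exact f7)
    have hbe2 := hdouble (b * e) (by rw [map_mul, hb, he]; exact f11) (by rw [map_mul, hb, he]; exact f8)
    have hcomm : Commute (b * e) a := by
      show b * e * a = a * (b * e)
      calc b * e * a = b * (e * a) := by rw [mul_assoc]
        _ = b * (Tc * (a * e)) := by rw [hea]
        _ = Tc * (b * a) * e := by rw [← mul_assoc, hTcen b]; simp only [mul_assoc]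
        _ = Tc * Tc * (a * b * e) := by rw [hba]; simp only [mul_assoc]
        _ = a * (b * e) := by rw [hTc2, one_mul, mul_assoc]
    have hfx : f (a * b * e) = tr3 := by rw [map_mul, map_mul, ha, hb, he]; rfl
    have hval : a * b * e * (a * b * e) = d * d * Tc := by
      rw [mul_assoc a b e, hcomm.mul_mul_mul_comm, hbe2, hsingle a sa (by rw [ha]; exact f3)]
    have hcj := hsq (a * b * e) x (isConj_invol (by rw [hfx]; exact f1) hx (by rw [hfx, f2, hs]))
      (by rw [hval]; rcases hdd with r | r <;> rw [r]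
          · exact Or.inr (one_mul _)
          · exact Or.inl hTc2)
    rw [hcj, hval]
  -- the involution exchanging the points is even
  have hU2 : f Uc * f Uc = 1 := by rw [← map_mul, hUc2, map_one]
  have hUne : f Uc ≠ 1 := fun e => by
    have hUT : c.U ≠ c.T := fun e1 => c.z'_notMem_Z (by
      have hz : c.z' = c.U * h.z * c.U⁻¹ := rfl
      rw [hz, e1, mul_inv_eq_iff_eq_mul.2 (h.mem_CZ.1 c.T_CZ)]
      exact mem_zpowers _)
    rcases hfk Uc e with e1 | e1
    · have e2 : c.U = 1 := congrArg Subtype.val e1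
      exact c.z'_notMem_Z (by
        show c.U * h.z * c.U⁻¹ ∈ h.Z
        rw [e2]; simp)
    · exact hUT (congrArg Subtype.val e1)
  have hχU : χ Uc = 1 := by
    rcases Int.units_eq_one_or (χ Uc) with e | e
    · exact e
    exfalso
    obtain ⟨p, q, hp, hq, hp2, hq2, hpq2, hps, hqs, hpqs⟩ := odd_doubles hU2 e
    obtain ⟨x1, rfl⟩ := hfs p
    obtain ⟨x2, rfl⟩ := hfs q
    have hmod : ∀ x : c.CT, f x * f Uc = f Uc * f x → x * Uc = Uc * x ∨ x * Uc = Uc * x * Tc := by
      intro x hx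
      have h1 : f ((Uc * x)⁻¹ * (x * Uc)) = 1 := by rw [map_mul, map_inv, map_mul, map_mul, hx, inv_mul_cancel]
      rcases hfk _ h1 with e1 | e1
      · exact Or.inl (inv_mul_eq_one.1 e1).symm
      · exact Or.inr (eq_mul_of_inv_mul_eq e1)
    obtain ⟨x, hxU, hxT⟩ : ∃ x : c.CT, x * Uc = Uc * x ∧ x * x = Tc := by
      rcases hmod x1 hp with e1 | e1
      · exact ⟨x1, e1, hdouble x1 hp2 hps⟩
      rcases hmod x2 hq with e2 | e2
      · exact ⟨x2, e2, hdouble x2 hq2 hqs⟩
      refine ⟨x1 * x2, ?_, hdouble _ (by rw [map_mul]; exact hpq2) (by rw [map_mul]; exact hpqs)⟩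
      calc x1 * x2 * Uc = x1 * (Uc * x2 * Tc) := by rw [mul_assoc, e2]
        _ = (x1 * Uc) * x2 * Tc := by simp only [mul_assoc]
        _ = Uc * x1 * (Tc * x2) * Tc := by rw [e1]; simp only [mul_assoc]
        _ = Uc * x1 * (x2 * Tc) * Tc := by rw [hTcen x2]
        _ = Uc * (x1 * x2) * (Tc * Tc) := by simp only [mul_assoc]
        _ = Uc * (x1 * x2) := by rw [hTc2, mul_one]
    obtain ⟨σ, hσT, hσU⟩ := c.exists_sigma
    have hxU' : (x : G) * c.U = c.U * x := congrArg Subtype.val hxU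
    have hxT' : (x : G) * x = c.T := congrArg Subtype.val hxT
    have hxc : (x : G) * c.T = c.T * x := c.mem_cent_T.1 x.2
    set x' := σ * (x : G) * σ⁻¹
    have c1 : Commute x' c.U := by
      show x' * c.U = c.U * x'
      rw [← hσT]; simp only [x']; rw [conj_mul, hxc, conj_mul]
    have c2 : Commute x' (c.T * c.U) := by
      show x' * (c.T * c.U) = c.T * c.U * x'
      rw [← hσU]; simp only [x']; rw [conj_mul, hxU', conj_mul]
    have c3 : x' * c.T = c.T * x' := by
      have := (c2.mul_right c1).eq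
      rwa [mul_assoc c.T, c.U_sq, mul_one] at this
    have hsquare : χ Uc = 1 := by
      rw [show Uc = ⟨x', c.mem_cent_T.2 c3⟩ * ⟨x', c.mem_cent_T.2 c3⟩ from Subtype.ext (by
        show c.U = x' * x'
        simp only [x']; rw [conj_mul, hxT', hσT]), map_mul]
      exact hu2 _
    rw [hsquare] at e
    exact absurd e (by decide)
  have hU8 : (f Uc).support.card = 8 := by
    rcases invol_kinds hU2 hUne with ⟨-, e⟩ | ⟨e, -⟩ | ⟨-, e⟩ | ⟨e, -⟩
    · rw [← hχ, hχU] at e; exact absurd e (by decide)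
    · exfalso
      have := hdouble Uc hU2 e
      rw [hUc2] at this
      exact hTne this.symm
    · rw [← hχ, hχU] at e; exact absurd e (by decide)
    · exact e
  -- the product with the lift of the transposition
  have hUd : f Uc * tr1 = tr1 * f Uc := by
    have hD : ((Uc * d * Uc⁻¹ : c.CT) : G) ∈ c.D := by
      obtain ⟨d1, d2, d3⟩ := c.mem_D.1 hdD
      have hUz : c.U * h.z * c.U⁻¹ = c.z' := rfl
      refine c.mem_D.2 ⟨?_, c.mem_cent_T.1 (Uc * d * Uc⁻¹).2, ?_⟩
      · show c.U * d * c.U⁻¹ * h.z = h.z * (c.U * d * c.U⁻¹)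
        rw [← c.U_conj_z', conj_mul, d3, conj_mul]
      · show c.U * d * c.U⁻¹ * c.z' = c.z' * (c.U * d * c.U⁻¹)
        rw [← hUz, conj_mul, d1, conj_mul]
    obtain ⟨a, b, e, he⟩ := hD18 _ hD
    rw [map_mul, map_mul, map_inv, hd] at he
    have := el8_invol a b e (by rw [← he, conj_mul, tr1_cent.2.2.1]; group) (by
      rw [← he]; intro e1
      exact tr1_ne 0 0 (by rw [conj_eq_one_iff.1 e1]; decide +kernel))
    rw [← he] at this
    exact mul_inv_eq_iff_eq_mul.1 this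
  have hdU2 : f (d * Uc) * f (d * Uc) = 1 := by
    rw [map_mul, hd, (show Commute (f Uc) tr1 from hUd).mul_mul_mul_comm, tr1_cent.2.2.1, hU2, one_mul]
  have hdU6 : (f (d * Uc)).support.card = 6 := by
    have hsg : Equiv.Perm.sign (f (d * Uc)) = -1 := by
      rw [map_mul, map_mul, hd, ← hχ Uc, hχU, mul_one]
      decide +kernel
    have hne : f (d * Uc) ≠ 1 := fun e => by
      rw [e, map_one] at hsg; exact absurd hsg (by decide)
    rcases invol_kinds hdU2 hne with ⟨e, -⟩ | ⟨-, e⟩ | ⟨e, -⟩ | ⟨-, e⟩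
    · exfalso
      rw [map_mul, hd] at e
      exact tr1_mul_support hU8 e
    · rw [hsg] at e; exact absurd e (by decide)
    · exact e
    · rw [hsg] at e; exact absurd e (by decide)
  have hχd : χ d = -1 := by rw [hχ, hd]; decide +kernel
  refine ⟨χ, d, hdD, hdL, hχd, hχU, hχT, ?_, ?_, ?_⟩
  · rcases hdd with e | e
    · exact Or.inl e
    · refine Or.inr ?_
      rw [htriple _ hdU2 hdU6, e, hTc2]
  · intro v hv hv1 hvT hev
    have hfv : f v * f v = 1 := by rw [← map_mul, hv, map_one]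
    have hfv1 : f v ≠ 1 := fun e => (hfk v e).elim hv1 hvT
    rcases invol_kinds hfv hfv1 with ⟨-, e⟩ | ⟨e, -⟩ | ⟨-, e⟩ | ⟨e, -⟩
    · rw [← hχ, hev] at e; exact absurd e (by decide)
    · exfalso
      have := hdouble v hfv e
      rw [hv] at this
      exact hTne this.symm
    · rw [← hχ, hev] at e; exact absurd e (by decide)
    · obtain ⟨σ, hσT, hσU⟩ := c.exists_sigma
      obtain ⟨g, rfl | rfl⟩ := hconj Uc v (isConj_invol hU2 hfv (hU8.trans e.symm))
      · refine ⟨(g : G) * σ, ?_⟩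
        show (g : G) * σ * c.T * ((g : G) * σ)⁻¹ = (g : G) * c.U * (g : G)⁻¹
        rw [← hσT]; group
      · refine ⟨(g : G) * (σ * σ), ?_⟩
        show (g : G) * (σ * σ) * c.T * ((g : G) * (σ * σ))⁻¹ = (g : G) * c.U * (g : G)⁻¹ * c.T
        rw [show (g : G) * (σ * σ) * c.T * ((g : G) * (σ * σ))⁻¹ =
          (g : G) * (σ * (σ * c.T * σ⁻¹) * σ⁻¹) * (g : G)⁻¹ by group, hσT, hσU, ← c.U_T,
          mul_assoc ((g : G) * c.U), ((show Commute (g : G) c.T from c.mem_cent_T.1 g.2).inv_left).eq]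
        simp only [mul_assoc]
  · intro v hv hov g hg
    have hfv : f v * f v = 1 := by rw [← map_mul, hv, map_one]
    have hfv1 : f v ≠ 1 := fun e => by
      rw [hχ, e, map_one] at hov; exact absurd hov (by decide)
    have pull : ∀ x : c.CT, IsConj (f x) (f v) → ∃ w : c.CT, (w = x ∨ w = x * Tc) ∧
        ∃ g' : G, g' * c.T * g'⁻¹ = (w : G) := by
      intro x hx
      obtain ⟨k, hk⟩ := hconj x v hx
      refine ⟨k⁻¹ * v * k, ?_, (k : G)⁻¹ * g, ?_⟩
      · rcases hk with rfl | rfl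
        · left; group
        · right
          rw [show k⁻¹ * (k * x * k⁻¹ * Tc) * k = x * (k⁻¹ * (Tc * k)) by group, ← hTcen k,
            inv_mul_cancel_left]
      · simp only [Subgroup.coe_mul, Subgroup.coe_inv]
        rw [← hg]; group
    rcases invol_kinds hfv hfv1 with ⟨e, -⟩ | ⟨-, e⟩ | ⟨e, -⟩ | ⟨-, e⟩
    · obtain ⟨w, hw, g', hg'⟩ := pull d (isConj_invol hd2 hfv (by rw [hd, tr1_cent.2.2.2, e]))
      obtain ⟨d1, d2, -⟩ := c.mem_D.1 hdD
      obtain ⟨hTL, -⟩ := c.T_L0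
      have hwz : (w : G) * h.z = h.z * w := by
        rcases hw with rfl | rfl
        · exact d1
        · exact (Commute.mul_left (show Commute (d : G) h.z from d1) (h.mem_CZ.1 c.T_CZ)).eq
      have hwT := c.not_conj_z (c.mem_cent_T.1 w.2) hwz hg'
      rcases hw with rfl | rfl
      · exact hdL (hwT ▸ hTL)
      · have hd1 : (d : G) = 1 := mul_eq_right.1 hwT
        exact hdL (hd1 ▸ one_mem _)
    · rw [← hχ, hov] at e; exact absurd e (by decide)
    · obtain ⟨w, hw, g', hg'⟩ := pull (d * Uc) (isConj_invol hdU2 hfv (hdU6.trans e.symm))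
      obtain ⟨d1, d2, d3⟩ := c.mem_D.1 hdD
      have hdy : Commute (d : G) c.y := Commute.mul_right d1 d3
      have hUy : Commute c.U c.y := by
        refine mul_inv_eq_iff_eq_mul.1 ?_
        show c.U * (h.z * c.z') * c.U⁻¹ = h.z * c.z'
        rw [← conj_mul, c.U_conj_z']
        exact h.J_comm _ c.z'_mem_E.1 _ h.z_mem_J
      have hTy : Commute c.T c.y := (mem_centralizer_singleton_iff.1 c.y_mem_E.2).symm
      have hwM := c.not_conj_y hy (v := (w : G)) (by
        rcases hw with rfl | rfl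
        · exact (hdy.mul_left hUy).eq
        · exact ((hdy.mul_left hUy).mul_left hTy).eq) hg'
      refine hdL (c.M0_CZ ?_ (c.D_CZ hdD))
      rcases hw with rfl | rfl
      · have := mul_mem hwM (inv_mem c.u.2)
        simpa [Uc] using this
      · have := mul_mem (mul_mem hwM (inv_mem c.T_mem_M0)) (inv_mem c.u.2)
        rwa [show ((d * Uc * Tc : c.CT) : G) = (d : G) * c.U * c.T from rfl, mul_inv_cancel_right,
          mul_inv_cancel_right] at this
    · rw [← hχ, hov] at e; exact absurd e (by decide)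

end Coords

end CfsgLib.Recog.McLThree
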