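import Cfsg.Agent.Lib.Recog.McLThree.CentTQuot
import Cfsg.Agent.Lib.Recog.McLThree.CentTK
import Cfsg.Agent.Lib.Recog.McLThree.BigLocal

/-!
The central quotient of the centraliser of `T` has no normal product of two alternating groups of degree
five containing all squares.
-/

set_option autoImplicit false
set_option linter.style.haveILetI false
set_option linter.unusedSectionVars false

namespace CfsgLib.Recog.McLThree

open Subgroup

theorem five_cent : ∀ a : alternatingGroup (Fin 5), a * a * a = 1 → a ≠ 1 →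
    ∀ x : alternatingGroup (Fin 5), x * a = a * x →
      (x = 1 ∨ x = a ∨ x = a * a) := by decide +kernel

theorem five_abelian {a x y : alternatingGroup (Fin 5)} (ha : a * a * a = 1) (h1 : a ≠ 1)
    (hx : x * a = a * x) (hy : y * a = a * y) : x * y = y * x := by
  rcases five_cent a ha h1 x hx with rfl | rfl | rfl
  · rw [one_mul, mul_one]
  · exact hy.symm
  · exact ((show Commute a y from hy.symm).mul_left hy.symm).eq

variable {G : Type*} [Group G] [Finite G] {h : Hyp G}

namespace Coords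

variable (c : Coords h)

theorem KT_perfect : commutator c.KT = ⊤ := by
  obtain ⟨e, -⟩ := c.exists_KT_equiv
  refine eq_top_iff.2 fun k _ => ?_
  have hk : e k ∈ (commutator c.KT).map e.toMonoidHom := by
    rw [commutator_def, map_commutator, ← MonoidHom.range_eq_map, MonoidHom.range_eq_top.2 e.surjective,
      ← commutator_def, commutator_SL5]
    exact mem_top _
  obtain ⟨y, hy, hye⟩ := hk
  rwa [← e.injective hye]

theorem KT_hom_trivial {A : Type*} [Group A] (f : c.KT →* A) (hf : ∀ x y, f x * f y = f y * f x)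
    (k : c.KT) : f k = 1 := by
  have hle : commutator c.KT ≤ f.ker := by
    rw [commutator_def, commutator_le]
    intro a _ b _
    rw [MonoidHom.mem_ker, commutatorElement_def, map_mul, map_mul, map_mul, map_inv, map_inv, hf a b,
      mul_inv_cancel_right, mul_inv_cancel]
  exact hle (c.KT_perfect ▸ mem_top k)

/-- The exceptional shape of the central quotient does not occur. -/
theorem no_product (N : Subgroup c.CTbar) [hN : N.Normal]
    (e₀ : N ≃* alternatingGroup (Fin 5) × alternatingGroup (Fin 5)) (hsq : ∀ g : c.CTbar, g ^ 2 ∈ N) :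
    False := by
  classical
  let zc : c.CT := ⟨h.z, c.E_le_cent c.z_mem_E⟩
  let zc' : c.CT := ⟨c.z', c.E_le_cent c.z'_mem_E⟩
  let Uc : c.CT := ⟨c.U, c.U_mem_cent⟩
  have hthree : ∀ x : c.CT, (x : G) ^ 3 = 1 → c.mkT x ∈ N := by
    intro x hx
    have h3 : c.mkT x ^ 3 = 1 := by rw [← map_pow, show x ^ 3 = 1 from Subtype.ext hx, map_one]
    have := pow_mem (hsq (c.mkT x)) 2
    rwa [← pow_mul, show 2 * 2 = 3 + 1 from rfl, pow_succ, h3, one_mul] at this
  have hcomm : ∀ a b : c.CTbar, a * b * a⁻¹ * b⁻¹ ∈ N := by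
    intro a b
    have e1 : a * b * a⁻¹ * b⁻¹ = (a * b) ^ 2 * (b⁻¹ * (a⁻¹) ^ 2 * b⁻¹⁻¹) * (b⁻¹) ^ 2 := by
      simp only [pow_two]; group
    rw [e1]
    exact mul_mem (mul_mem (hsq _) (hN.conj_mem _ (hsq _) _)) (hsq _)
  have hKTle : c.KT ≤ (N.comap c.mkT).map c.CT.subtype := by
    rw [commutator_le]
    intro a ha b hb
    have haT : a ∈ c.CT := ha.2
    have hbT : b ∈ c.CT := hb.2
    refine ⟨⟨a, haT⟩ * ⟨b, hbT⟩ * ⟨a, haT⟩⁻¹ * ⟨b, hbT⟩⁻¹, ?_, by rw [commutatorElement_def]; rfl⟩
    show c.mkT _ ∈ N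
    rw [map_mul, map_mul, map_mul, map_inv, map_inv]
    exact hcomm _ _
  have hKTC : c.KT ≤ c.CT := c.KT_le.trans inf_le_right
  have hμN : ∀ k : c.KT, c.mkT (inclusion hKTC k) ∈ N := fun k => by
    obtain ⟨y, hy, hyk⟩ := hKTle k.2
    rwa [show inclusion hKTC k = y from Subtype.ext hyk.symm]
  let μ : c.KT →* N := (c.mkT.comp (inclusion hKTC)).codRestrict N hμN
  have hμ'N : ∀ k : c.KT, c.mkT (Uc * inclusion hKTC k * Uc⁻¹) ∈ N := fun k => by
    rw [map_mul, map_mul, map_inv]; exact hN.conj_mem _ (hμN k) _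
  let μ' : c.KT →* N :=
    ((c.mkT.comp (MulAut.conj Uc).toMonoidHom).comp (inclusion hKTC)).codRestrict N hμ'N
  let p : N := ⟨c.mkT zc, hthree zc h.z_cube⟩
  let p' : N := ⟨c.mkT zc', hthree zc' c.z'_cube⟩
  have hp3 : p * p * p = 1 := Subtype.ext (by
    show c.mkT zc * c.mkT zc * c.mkT zc = 1
    rw [← map_mul, ← map_mul, show zc * zc * zc = 1 from Subtype.ext (by
      show h.z * h.z * h.z = 1
      rw [← h.z_cube, pow_succ, pow_two]), map_one])
  have hp'3 : p' * p' * p' = 1 := Subtype.ext (by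
    show c.mkT zc' * c.mkT zc' * c.mkT zc' = 1
    rw [← map_mul, ← map_mul, show zc' * zc' * zc' = 1 from Subtype.ext (by
      show c.z' * c.z' * c.z' = 1
      rw [← c.z'_cube, pow_succ, pow_two]), map_one])
  have hKz : ∀ k : c.KT, inclusion hKTC k * zc = zc * inclusion hKTC k := fun k =>
    Subtype.ext (c.HT_comm_z (c.KT_le k.2))
  have hμp : ∀ k, μ k * p = p * μ k := fun k => Subtype.ext (by
    show c.mkT (inclusion hKTC k) * c.mkT zc = c.mkT zc * c.mkT (inclusion hKTC k)
    rw [← map_mul, ← map_mul, hKz k])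
  have hμp' : ∀ k, μ' k * p' = p' * μ' k := fun k => Subtype.ext (by
    show c.mkT (Uc * inclusion hKTC k * Uc⁻¹) * c.mkT zc' = c.mkT zc' * c.mkT (Uc * inclusion hKTC k * Uc⁻¹)
    rw [show zc' = Uc * zc * Uc⁻¹ from Subtype.ext rfl, ← map_mul, ← map_mul, conj_mul, hKz k, conj_mul])
  -- an element of the image inverting the second point
  obtain ⟨l, hl, hlT, hlz', hll⟩ := c.exists_l
  obtain ⟨k, hk, a, ha, ela⟩ := c.exists_KT_mul (g := l) ⟨hl, mem_centralizer_singleton_iff.2 hlT⟩
  have hkz' : k * c.z' * k⁻¹ = c.z'⁻¹ := by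
    rw [← hlz', ela, show k * a * c.z' * (k * a)⁻¹ = k * (a * c.z' * a⁻¹) * k⁻¹ by group,
      h.J_comm a ((zpowers_le.2 h.z_mem_J : h.Z ≤ h.J) ha) c.z' c.z'_mem_E.1, mul_inv_cancel_right]
  have hμne : μ ⟨k, hk⟩ ≠ 1 := by
    intro e1
    have e2 : c.mkT (inclusion hKTC ⟨k, hk⟩) = 1 := congrArg Subtype.val e1
    rcases c.mem_TN ((QuotientGroup.eq_one_iff _).1 e2) with e3 | e3
    · change k = 1 at e3
      rw [e3, one_mul, inv_one, mul_one] at hkz'
      exact c.z'_notMem_Z (by
        have h3 := c.z'_cube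
        rw [pow_succ, pow_two] at h3
        nth_rewrite 2 [hkz'] at h3
        rw [mul_inv_cancel, one_mul] at h3
        rw [h3]; exact one_mem _)
    · change k = c.T at e3
      rw [e3, show c.T * c.z' * c.T⁻¹ = c.z' from mul_inv_eq_iff_eq_mul.2
        (mem_centralizer_singleton_iff.1 c.z'_mem_E.2).symm] at hkz'
      exact c.z'_notMem_Z (by
        have h3 := c.z'_cube
        rw [pow_succ, pow_two] at h3
        nth_rewrite 2 [hkz'] at h3
        rw [mul_inv_cancel, one_mul] at h3
        rw [h3]; exact one_mem _)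
  have hμ'ne : μ' ⟨k, hk⟩ ≠ 1 := fun e1 => hμne (Subtype.ext (by
    have e2 : c.mkT (Uc * inclusion hKTC ⟨k, hk⟩ * Uc⁻¹) = 1 := congrArg Subtype.val e1
    rw [map_mul, map_mul, map_inv] at e2
    exact conj_eq_one_iff.1 e2))
  have hpne : p ≠ 1 := fun e1 => h.z_ne (c.lift_eq (a := zc) (b := 1) h.z_cube (by simp)
    ((congrArg Subtype.val e1).trans (map_one c.mkT).symm))
  have hpp' : p' * p = p * p' := Subtype.ext (by
    show c.mkT zc' * c.mkT zc = c.mkT zc * c.mkT zc'
    rw [← map_mul, ← map_mul, show zc' * zc = zc * zc' from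
      Subtype.ext (h.J_comm _ c.z'_mem_E.1 _ h.z_mem_J)])
  have hp'out : ∀ n : ℕ, p' ≠ p ^ n := fun n e1 => c.z'_notMem_Z (by
    have := c.lift_eq (a := zc') (b := zc ^ n) c.z'_cube
      (by simp only [Subgroup.coe_pow]; rw [← pow_mul, mul_comm, pow_mul, h.z_cube, one_pow])
      ((congrArg Subtype.val e1).trans (by rw [map_pow]; rfl))
    rw [show c.z' = h.z ^ n from this]
    exact pow_mem (mem_zpowers _) n)
  -- the image commutes with its conjugate, given the factorisation
  have key : ∀ e : N ≃* alternatingGroup (Fin 5) × alternatingGroup (Fin 5), (e p).2 = 1 → False := by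
    intro e he2
    have side : ∀ (f : N →* alternatingGroup (Fin 5)) (ν : c.KT →* N) (q : N), q * q * q = 1 →
        (∀ x, ν x * q = q * ν x) → f q ≠ 1 → ∀ x, f (ν x) = 1 := by
      intro f ν q hq hνq hne x
      refine c.KT_hom_trivial (f.comp ν) (fun s t => five_abelian (a := f q) ?_ hne ?_ ?_) x
      · rw [← map_mul, ← map_mul, hq, map_one]
      · rw [MonoidHom.comp_apply, ← map_mul, hνq, map_mul]
      · rw [MonoidHom.comp_apply, ← map_mul, hνq, map_mul]
    let f1 : N →* alternatingGroup (Fin 5) := (MonoidHom.fst _ _).comp e.toMonoidHom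
    let f2 : N →* alternatingGroup (Fin 5) := (MonoidHom.snd _ _).comp e.toMonoidHom
    have ha1 : f1 p ≠ 1 := fun h1 => hpne (e.injective (by
      rw [map_one]; exact Prod.ext h1 he2))
    have hK1 := side f1 μ p hp3 hμp ha1
    have hb' : f2 p' ≠ 1 := by
      intro h2
      have hc1 : f1 p' * f1 p = f1 p * f1 p' := by rw [← map_mul, hpp', map_mul]
      rcases five_cent (f1 p) (by rw [← map_mul, ← map_mul, hp3, map_one]) ha1 _ hc1 with r | r | r
      · exact hp'out 0 (e.injective (by rw [pow_zero, map_one]; exact Prod.ext r h2))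
      · exact hp'out 1 (e.injective (by rw [pow_one]; exact Prod.ext r (h2.trans he2.symm)))
      · refine hp'out 2 (e.injective ?_)
        rw [pow_two, map_mul]
        refine Prod.ext r ?_
        show f2 p' = (e p).2 * (e p).2
        rw [h2, he2, one_mul]
    have hK2 := side f2 μ' p' hp'3 hμp' hb'
    have hbar : ∀ x y, μ x * μ' y = μ' y * μ x := fun x y => e.injective (by
      rw [map_mul, map_mul]
      refine Prod.ext ?_ ?_
      · show f1 (μ x) * f1 (μ' y) = f1 (μ' y) * f1 (μ x)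
        rw [hK1, one_mul, mul_one]
      · show f2 (μ x) * f2 (μ' y) = f2 (μ' y) * f2 (μ x)
        rw [hK2, one_mul, mul_one])
    -- exact commutation
    set w : c.CT := Uc * inclusion hKTC ⟨k, hk⟩ * Uc⁻¹
    have hmem : ∀ x : c.KT, w * inclusion hKTC x * w⁻¹ * (inclusion hKTC x)⁻¹ ∈ c.TN := by
      intro x
      refine (QuotientGroup.eq_one_iff _).1 ?_
      show c.mkT _ = 1
      rw [map_mul, map_mul, map_inv, map_inv, mul_inv_eq_one, mul_inv_eq_iff_eq_mul]
      exact (congrArg Subtype.val (hbar x ⟨k, hk⟩)).symm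
    have hcen : ∀ t ∈ c.TN, ∀ g : c.CT, g * t = t * g := by
      intro t ht g
      obtain ⟨n, rfl⟩ := mem_zpowers_iff.1 ht
      exact ((show Commute g c.Tc from Subtype.ext (c.mem_cent_T.1 g.2)).zpow_right n).eq
    let ψ : c.KT →* c.TN :=
      { toFun := fun x => ⟨_, hmem x⟩
        map_one' := Subtype.ext (by
          show w * inclusion hKTC 1 * w⁻¹ * (inclusion hKTC 1)⁻¹ = 1
          rw [map_one]; group)
        map_mul' := fun x y => Subtype.ext (by
          show w * inclusion hKTC (x * y) * w⁻¹ * (inclusion hKTC (x * y))⁻¹ = _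
          rw [map_mul,
            show w * (inclusion hKTC x * inclusion hKTC y) * w⁻¹ * (inclusion hKTC x * inclusion hKTC y)⁻¹ =
              w * inclusion hKTC x * w⁻¹ * (w * inclusion hKTC y * w⁻¹ * (inclusion hKTC y)⁻¹) *
                (inclusion hKTC x)⁻¹ by group,
            mul_assoc (w * inclusion hKTC x * w⁻¹), ← hcen _ (hmem y), ← mul_assoc]
          rfl) }
    have h1 := c.KT_hom_trivial ψ (fun s t => Subtype.ext (hcen _ (ψ t).2 _)) ⟨k, hk⟩
    have h2 : w * inclusion hKTC ⟨k, hk⟩ * w⁻¹ * (inclusion hKTC ⟨k, hk⟩)⁻¹ = 1 := congrArg Subtype.val h1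
    rw [mul_inv_eq_one, mul_inv_eq_iff_eq_mul] at h2
    have h3 : (c.U * k * c.U⁻¹) * k = k * (c.U * k * c.U⁻¹) := congrArg Subtype.val h2
    rw [c.U_inv] at h3
    have haT : a ∈ c.CT := (c.Z_le_HT ha).2
    have hkT : k * c.T = c.T * k := c.mem_cent_T.1 (hKTC hk)
    have hkk : k * k * c.T⁻¹ ∈ h.Z := by
      have e1 : k * k * c.T⁻¹ = (a * a)⁻¹ * (l * l * c.T⁻¹) := by
        have hka : Commute k a := c.KT_comm_Z hk ha
        have hl2 : l * l = a * a * (k * k) := by
          rw [ela, hka.symm.mul_mul_mul_comm]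
          exact ((hka.mul_left hka).mul_right (hka.mul_left hka)).eq
        rw [hl2, ← mul_assoc, ← mul_assoc, inv_mul_cancel, one_mul]
      rw [e1]; exact mul_mem (inv_mem (mul_mem ha ha)) hll
    exact (c.l_noncomm (c.KT_le hk).1 hkT hkz' hkk).2 h3.symm
  by_cases h2 : (e₀ p).2 = 1
  · exact key e₀ h2
  · refine key (e₀.trans MulEquiv.prodComm) ?_
    show (e₀ p).1 = 1
    by_contra h1
    -- both components would be nontrivial
    have triv : ∀ (f : N →* alternatingGroup (Fin 5)), f p ≠ 1 → f (μ ⟨k, hk⟩) = 1 := by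
      intro f hne
      refine c.KT_hom_trivial (f.comp μ) (fun s t => five_abelian (a := f p) ?_ hne ?_ ?_) ⟨k, hk⟩
      · rw [← map_mul, ← map_mul, hp3, map_one]
      · rw [MonoidHom.comp_apply, ← map_mul, hμp, map_mul]
      · rw [MonoidHom.comp_apply, ← map_mul, hμp, map_mul]
    refine hμne (e₀.injective ?_)
    rw [map_one]
    exact Prod.ext (triv ((MonoidHom.fst _ _).comp e₀.toMonoidHom) h1)
      (triv ((MonoidHom.snd _ _).comp e₀.toMonoidHom) h2)

end Coords

end CfsgLib.Recog.McLThree
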