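import Cfsg.Agent.Lib.Recog.McLThree.NormQuot
import Cfsg.Agent.Lib.Recog.McLThree.BigLocal

/-!
The normalisers in the central quotient of the centraliser of `T` in the big case.
-/

set_option autoImplicit false
set_option linter.style.haveILetI false
set_option linter.unusedSectionVars false

namespace CfsgLib.Recog.McLThree

open Subgroup

theorem mult_two : (∀ a : Multiplicative (ZMod 2), a = 1 ∨ a = Multiplicative.ofAdd 1) ∧
    Multiplicative.ofAdd (1 : ZMod 2) ≠ 1 ∧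
    Multiplicative.ofAdd (1 : ZMod 2) * Multiplicative.ofAdd 1 = 1 := by decide

variable {G : Type*} [Group G] [Finite G] {h : Hyp G}

namespace Coords

variable (c : Coords h)

theorem mem_L0_of_mk {x : c.CT} (hx : c.mkT x ∈ c.Eb) : (x : G) ∈ h.L0 := by
  obtain ⟨hT, -⟩ := c.T_L0
  obtain ⟨e, he⟩ := hx
  have heL : (e : G) ∈ h.L0 := h.S_le_L0 (h.J_le e.2.1)
  rcases c.mem_TN (QuotientGroup.eq.1 he : (inclusion c.E_le_cent e)⁻¹ * x ∈ c.TN) with h1 | h1 <;>
    simp only [Subgroup.coe_mul, Subgroup.coe_inv, Subgroup.coe_inclusion] at h1 <;>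
    rw [← mul_inv_cancel_left (e : G) (x : G), h1]
  · rw [mul_one]; exact heL
  · exact mul_mem heL hT

theorem cent_le_norm : centralizer (c.Eb : Set c.CTbar) ≤ normalizer (c.Eb : Set c.CTbar) := by
  intro x hx
  refine mem_normalizer_of_forward fun e he => ?_
  rwa [← mem_centralizer_iff.1 hx e he, mul_inv_cancel_right]

theorem mk_D_decomp (hbig : Nat.card h.CZ = 2 * Nat.card h.L0) {d x : c.CT} (hd : (d : G) ∈ c.D)
    (hdL : (d : G) ∉ h.L0) (hx : (x : G) ∈ c.D) :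
    ∃ (e : c.E) (i : Fin 2), c.mkT x = c.iotaE e * c.mkT d ^ (i : ℕ) := by
  rcases c.D_big_cases hbig hd hdL hx with hc | hc
  · obtain ⟨e, he⟩ := c.mk_mem_Eb hc
    exact ⟨e, 0, by rw [Fin.val_zero, pow_zero, mul_one]; exact he.symm⟩
  · obtain ⟨e, he⟩ := c.mk_mem_Eb (x := d⁻¹ * x) hc
    refine ⟨e, 1, ?_⟩
    rw [map_mul, map_inv] at he
    rw [Fin.val_one, pow_one, mem_centralizer_iff.1 (c.D_mk_cent hd) _ ⟨e, rfl⟩, he,
      mul_inv_cancel_left]

theorem card_cent_Eb (hbig : Nat.card h.CZ = 2 * Nat.card h.L0) :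
    Nat.card (centralizer (c.Eb : Set c.CTbar)) = 18 := by
  obtain ⟨d₀, hd, hdL⟩ := c.exists_outer hbig
  let d : c.CT := ⟨d₀, c.mem_cent_T.2 (c.mem_D.1 hd).2.1⟩
  let f : c.E × Fin 2 → centralizer (c.Eb : Set c.CTbar) := fun t =>
    ⟨c.iotaE t.1 * c.mkT d ^ (t.2 : ℕ), mul_mem
      (c.D_mk_cent (x := inclusion c.E_le_cent t.1) (c.mem_D.2 ⟨h.z_central (h.J_le t.1.2.1),
        mem_centralizer_singleton_iff.1 t.1.2.2, h.J_comm _ t.1.2.1 _ c.z'_mem_E.1⟩))
      (pow_mem (c.D_mk_cent (x := d) hd) _)⟩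
  have hdE : c.mkT d ∉ c.Eb := fun hm => hdL (c.mem_L0_of_mk hm)
  have hinj : Function.Injective f := by
    rintro ⟨e, i⟩ ⟨e', i'⟩ hf
    have e0 : c.iotaE e * c.mkT d ^ (i : ℕ) = c.iotaE e' * c.mkT d ^ (i' : ℕ) := congrArg Subtype.val hf
    fin_cases i <;> fin_cases i' <;> simp only [pow_zero, pow_one, mul_one] at e0
    · rw [c.iotaE_inj e0]
    · exact absurd (⟨e'⁻¹ * e, by rw [map_mul, map_inv, e0, inv_mul_cancel_left]⟩ : c.mkT d ∈ c.Eb) hdE
    · exact absurd (⟨e⁻¹ * e', by rw [map_mul, map_inv, ← e0, inv_mul_cancel_left]⟩ : c.mkT d ∈ c.Eb) hdE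
    · rw [c.iotaE_inj (mul_right_cancel e0)]
  have hsurj : Function.Surjective f := by
    rintro ⟨X, hX⟩
    obtain ⟨x, rfl⟩ := QuotientGroup.mk'_surjective c.TN X
    obtain ⟨e, i, he⟩ := c.mk_D_decomp hbig (d := d) hd hdL (c.cent_mk_D hX)
    exact ⟨(e, i), Subtype.ext he.symm⟩
  rw [← Nat.card_congr (Equiv.ofBijective f ⟨hinj, hsurj⟩), Nat.card_prod, c.card_E, Nat.card_fin]

theorem norm_E_mem {n : c.CT} (h1 : (n : G) * h.z * (n : G)⁻¹ ∈ c.E)
    (h2 : (n : G) * c.z' * (n : G)⁻¹ ∈ c.E) : c.mkT n ∈ normalizer (c.Eb : Set c.CTbar) := by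
  refine c.norm_of_forward fun e he => ?_
  obtain ⟨a, b, rfl⟩ := c.mem_E_iff.1 he
  rw [← conj_mul, ← conj_pow, ← conj_pow]
  exact mul_mem (pow_mem h1 _) (pow_mem h2 _)

/-- The local data of the normaliser of the image of `E`. -/
theorem big_norm_data (hbig : Nat.card h.CZ = 2 * Nat.card h.L0)
    [hcn : ((centralizer (c.Eb : Set c.CTbar)).subgroupOf (normalizer (c.Eb : Set c.CTbar))).Normal] :
    Nonempty (normalizer (c.Eb : Set c.CTbar) ⧸ c.Eb.subgroupOf (normalizer (c.Eb : Set c.CTbar)) ≃*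
      DihedralGroup 4 × Multiplicative (ZMod 2)) ∧
    Nonempty (normalizer (c.Eb : Set c.CTbar) ⧸
        (centralizer (c.Eb : Set c.CTbar)).subgroupOf (normalizer (c.Eb : Set c.CTbar)) ≃* DihedralGroup 4) := by
  classical
  set X := normalizer (c.Eb : Set c.CTbar)
  set E' := c.Eb.subgroupOf X
  set C' := (centralizer (c.Eb : Set c.CTbar)).subgroupOf X
  obtain ⟨l, hl, hlT, hlz', hll⟩ := c.exists_l
  obtain ⟨hR, hU, ⟨e2⟩, hgen⟩ := c.exists_eNC hl hlT hlz'
  refine ⟨?_, ⟨e2⟩⟩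
  let lc : c.CT := ⟨l, c.mem_cent_T.2 hlT⟩
  let Uc : c.CT := ⟨c.U, c.U_mem_cent⟩
  obtain ⟨d₀, hd, hdL⟩ := c.exists_outer hbig
  let d : c.CT := ⟨d₀, c.mem_cent_T.2 (c.mem_D.1 hd).2.1⟩
  let π : X →* X ⧸ E' := QuotientGroup.mk' _
  have hEC : c.Eb ≤ centralizer (c.Eb : Set c.CTbar) := by
    rintro _ ⟨e, rfl⟩
    exact c.D_mk_cent (x := inclusion c.E_le_cent e) (c.mem_D.2 ⟨h.z_central (h.J_le e.2.1),
      mem_centralizer_singleton_iff.1 e.2.2, h.J_comm _ e.2.1 _ c.z'_mem_E.1⟩)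
  let p : X ⧸ E' →* X ⧸ C' := QuotientGroup.map E' C' (MonoidHom.id X) (fun x hx => hEC hx)
  have hdX : c.mkT d ∈ X := c.cent_le_norm (c.D_mk_cent (x := d) hd)
  set δ := π ⟨c.mkT d, hdX⟩
  have hδ1 : δ ≠ 1 := fun e => hdL
    (c.mem_L0_of_mk (x := d) (mem_subgroupOf.1 ((QuotientGroup.eq_one_iff _).1 e)))
  -- images of centralising elements
  have hcent : ∀ x : X, (x : c.CTbar) ∈ centralizer (c.Eb : Set c.CTbar) → π x = 1 ∨ π x = δ := by
    rintro ⟨Y, hY⟩ hYc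
    obtain ⟨n, rfl⟩ := QuotientGroup.mk'_surjective c.TN Y
    obtain ⟨e, i, he⟩ := c.mk_D_decomp hbig (d := d) hd hdL (c.cent_mk_D hYc)
    fin_cases i
    · left
      refine (QuotientGroup.eq_one_iff _).2 (mem_subgroupOf.2 ?_)
      show c.mkT n ∈ c.Eb
      rw [he, pow_zero, mul_one]; exact ⟨e, rfl⟩
    · right
      refine QuotientGroup.eq.2 (mem_subgroupOf.2 ?_)
      show (c.mkT n)⁻¹ * c.mkT d ∈ c.Eb
      rw [he, pow_one, mul_inv_rev, mul_assoc,
        mem_centralizer_iff.1 (c.D_mk_cent (x := d) hd) (c.iotaE e)⁻¹ (inv_mem (⟨e, rfl⟩ : c.iotaE e ∈ c.Eb)),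
        inv_mul_cancel_left]
      exact inv_mem ⟨e, rfl⟩
  have hδ2 : δ * δ = 1 := by
    rcases hcent (⟨c.mkT d, hdX⟩ * ⟨c.mkT d, hdX⟩) (mul_mem (c.D_mk_cent (x := d) hd) (c.D_mk_cent (x := d) hd))
      with e | e
    · rw [← map_mul]; exact e
    · rw [map_mul] at e
      exact absurd (mul_eq_left.1 e) hδ1
  have hδc : ∀ q : X ⧸ E', Commute q δ := by
    intro q
    obtain ⟨x, rfl⟩ := QuotientGroup.mk'_surjective E' q
    have hm : x * ⟨c.mkT d, hdX⟩ * x⁻¹ ∈ C' := hcn.conj_mem _ (mem_subgroupOf.2 (c.D_mk_cent (x := d) hd)) x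
    rcases hcent _ (mem_subgroupOf.1 hm) with e | e <;> rw [map_mul, map_mul, map_inv] at e
    · exact absurd (conj_eq_one_iff.1 e) hδ1
    · exact mul_inv_eq_iff_eq_mul.1 e
  have hker : ∀ q : X ⧸ E', p q = 1 → q = 1 ∨ q = δ := by
    intro q hq
    obtain ⟨x, rfl⟩ := QuotientGroup.mk'_surjective E' q
    exact hcent x (mem_subgroupOf.1 ((QuotientGroup.eq_one_iff x).1 hq))
  set r := π ⟨c.mkT (lc * Uc), hR⟩
  set s := π ⟨c.mkT Uc, hU⟩
  have hEbE : ∀ (n : c.CT) (hn : c.mkT n ∈ X), ((n : G) ∈ c.E ∨ (n : G) * c.T ∈ c.E) →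
      π ⟨c.mkT n, hn⟩ = 1 := fun n hn hm =>
    (QuotientGroup.eq_one_iff _).2 (mem_subgroupOf.2 (c.mk_mem_Eb hm))
  have hmul : ∀ (a b : c.CT) (ha : c.mkT a ∈ X) (hb : c.mkT b ∈ X),
      π ⟨c.mkT a, ha⟩ * π ⟨c.mkT b, hb⟩ = π ⟨c.mkT (a * b), by rw [map_mul]; exact mul_mem ha hb⟩ :=
    fun a b ha hb => (map_mul π _ _).symm
  have hs2 : s * s = 1 := by
    rw [hmul]
    refine hEbE _ _ (Or.inl ?_)
    show c.U * c.U ∈ c.E
    rw [c.U_sq]; exact one_mem _
  have hsr : s * r * s * r = 1 := by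
    rw [hmul, hmul, hmul]
    refine hEbE _ _ (Or.inr ?_)
    show c.U * (l * c.U) * c.U * (l * c.U) * c.T ∈ c.E
    have key1 : ∀ u l t : G, u * (l * u) * u * (l * u) * t = u * (l * (u * u) * l) * (u * t) :=
      fun u l t => by simp only [mul_assoc]
    have key2 : ∀ u l t : G, u * (l * l) * (t * u) = u * (l * l * t⁻¹) * (t * t) * u :=
      fun u l t => by group
    rw [key1, c.U_sq, mul_one, c.U_T, key2, c.T_sq, mul_one]
    obtain ⟨n, hn⟩ := mem_zpowers_iff.1 hll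
    rw [← hn]
    nth_rewrite 2 [← c.U_inv]
    rw [← conj_zpow]
    exact zpow_mem c.z'_mem_E n
  have hr4 : r ^ 4 = 1 := by
    set lU : c.CT := lc * Uc
    have hR2 : c.mkT (lU * lU) ∈ X := by rw [map_mul]; exact mul_mem hR hR
    have e4 : r ^ 4 = π ⟨c.mkT (lU * lU * (lU * lU)), by rw [map_mul]; exact mul_mem hR2 hR2⟩ := by
      rw [show (4 : ℕ) = 2 + 2 from rfl, pow_add, pow_two, hmul, hmul]
    rw [e4]
    refine hEbE _ _ ?_
    obtain ⟨hX, -⟩ := c.l_noncomm hl hlT hlz' hll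
    set ε := c.W⁻¹ * (l * (c.U * l * c.U))
    have hWinv : ∀ e ∈ c.E, c.W⁻¹ * e * c.W = e⁻¹ := by
      intro e he
      obtain ⟨a, b, rfl⟩ := c.mem_E_iff.1 he
      have w1 : c.W * (h.z ^ (a : ℕ) * c.z' ^ (b : ℕ))⁻¹ * c.W⁻¹ = h.z ^ (a : ℕ) * c.z' ^ (b : ℕ) := by
        rw [← conj_inv, ← conj_mul, ← conj_pow, ← conj_pow, c.W_z, c.W_z', inv_pow, inv_pow, mul_inv_rev,
          inv_inv, inv_inv]
        exact h.J_comm _ (pow_mem (show c.z' ∈ h.J from c.z'_mem_E.1) _) _ (pow_mem h.z_mem_J _)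
      nth_rewrite 1 [← w1]
      group
    have hsq : ∀ e ∈ c.E, c.W * e * (c.W * e) = c.T := by
      intro e he
      calc c.W * e * (c.W * e) = c.W * c.W * (c.W⁻¹ * e * c.W) * e := by group
        _ = c.T := by rw [hWinv e he, inv_mul_cancel_right]
    right
    show l * c.U * (l * c.U) * (l * c.U * (l * c.U)) * c.T ∈ c.E
    have e0 : l * c.U * (l * c.U) = c.W * ε := by simp only [ε]; group
    rw [e0]
    rcases hX with he | he
    · rw [hsq _ he, c.T_sq]; exact one_mem _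
    · have hWT : Commute c.T (c.W * ε) := by
        rw [← e0]
        have hUT : Commute c.T c.U := c.U_T.symm
        exact (((show Commute c.T l from hlT.symm).mul_right hUT).mul_right
          ((show Commute c.T l from hlT.symm).mul_right hUT))
      have := hsq _ he
      rw [show c.W * (ε * c.T) = c.W * ε * c.T from (mul_assoc _ _ _).symm,
        hWT.mul_mul_mul_comm, c.T_sq, mul_one] at this
      rw [this, c.T_sq]; exact one_mem _
  -- the dihedral complement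
  have hgen' : (closure ({r, s} : Set (X ⧸ E'))).map p = ⊤ := by
    rw [MonoidHom.map_closure, Set.image_insert_eq, Set.image_singleton]
    exact hgen
  have hp8 : Nat.card (X ⧸ C') = 8 := by
    rw [Nat.card_congr e2.toEquiv, DihedralGroup.nat_card]
  have hsne : s ≠ 1 := by
    intro e
    have hm := mem_subgroupOf.1 ((QuotientGroup.eq_one_iff _).1 e : (⟨c.mkT Uc, hU⟩ : X) ∈ E')
    have hz := (c.mem_D.1 (c.D_fix hm)).1
    exact c.z'_ne_z.1 (mul_inv_eq_iff_eq_mul.2 hz)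
  haveI : Fact (Nat.Prime 2) := ⟨by norm_num⟩
  have hr2 : r ^ 2 ≠ 1 := by
    intro e
    rw [pow_two, hmul] at e
    have hm := mem_subgroupOf.1 ((QuotientGroup.eq_one_iff _).1 e)
    have hz := (c.mem_D.1 (c.D_fix hm)).1
    have e1 : (l * c.U * (l * c.U)) * h.z * (l * c.U * (l * c.U))⁻¹ = h.z :=
      mul_inv_eq_iff_eq_mul.2 hz
    have hUz : c.U * h.z * c.U⁻¹ = c.z' := rfl
    rw [show l * c.U * (l * c.U) * h.z * (l * c.U * (l * c.U))⁻¹ =
      l * (c.U * (l * (c.U * h.z * c.U⁻¹) * l⁻¹) * c.U⁻¹) * l⁻¹ by group, hUz, hlz', ← conj_inv,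
      c.U_conj_z', ← conj_inv, mul_inv_eq_iff_eq_mul.2 (h.mem_CZ.1 (h.L0_le_CZ hl))] at e1
    exact h.z_ne_inv e1.symm
  have hsr' : s * r * s⁻¹ = r⁻¹ := by
    rw [inv_eq_of_mul_eq_one_right hs2]
    exact eq_inv_of_mul_eq_one_left hsr
  have hso : orderOf s = 2 := orderOf_eq_prime (by rw [pow_two, hs2]) hsne
  have hnot : s ∉ zpowers r := by
    intro hm
    obtain ⟨n, hn⟩ := mem_zpowers_iff.1 hm
    have hc : s * r * s⁻¹ = r := by rw [← hn]; group
    rw [hsr'] at hc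
    exact hr2 (by rw [pow_two]; nth_rewrite 1 [← hc]; exact inv_mul_cancel _)
  obtain ⟨eD⟩ := CfsgLib.Invol.exists_mulEquiv_dihedral
    (orderOf_eq_prime_pow (p := 2) (n := 1) hr2 hr4) hso hsr' hnot
  set K0 := closure ({r, s} : Set (X ⧸ E'))
  -- assemble
  let pK : K0 →* X ⧸ C' := p.domRestrict K0
  have hpKs : Function.Surjective pK := fun q => by
    obtain ⟨k, hk, rfl⟩ := hgen'.ge (mem_top q)
    exact ⟨⟨k, hk⟩, rfl⟩
  have hpK : Function.Bijective pK := (Nat.bijective_iff_surjective_and_card pK).2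
    ⟨hpKs, by rw [hp8, Nat.card_congr eD.toEquiv, DihedralGroup.nat_card]; norm_num⟩
  let ψ : Multiplicative (ZMod 2) →* X ⧸ E' :=
    { toFun := fun m => if m = 1 then 1 else δ
      map_one' := if_pos rfl
      map_mul' := fun a b => by
        obtain ⟨hmm, hne, h11⟩ := mult_two
        rcases hmm a with rfl | rfl <;> rcases hmm b with rfl | rfl
        · simp
        · simp
        · simp
        · rw [if_pos h11,
            if_neg hne, hδ2] }
  have hψ : ∀ m, ψ m = 1 ∨ ψ m = δ := fun m => by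
    by_cases hm : m = 1
    · exact Or.inl (if_pos hm)
    · exact Or.inr (if_neg hm)
  let φ : K0 × Multiplicative (ZMod 2) →* X ⧸ E' :=
    { toFun := fun t => (t.1 : X ⧸ E') * ψ t.2
      map_one' := by simp
      map_mul' := fun a b => by
        have hc : Commute (ψ a.2) (b.1 : X ⧸ E') := by
          rcases hψ a.2 with e | e <;> rw [e]
          · exact Commute.one_left _
          · exact (hδc _).symm
        show ((a.1 * b.1 : K0) : X ⧸ E') * ψ (a.2 * b.2) = _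
        rw [map_mul, Subgroup.coe_mul]
        exact (hc.symm.mul_mul_mul_comm _ _) }
  have hpδ : p δ = 1 := (QuotientGroup.eq_one_iff (⟨c.mkT d, hdX⟩ : X)).2
    (mem_subgroupOf.2 (c.D_mk_cent (x := d) hd))
  have hφinj : Function.Injective φ := by
    rw [injective_iff_map_eq_one]
    rintro ⟨k, m⟩ e
    have e' : (k : X ⧸ E') * ψ m = 1 := e
    have hk : pK k = 1 := by
      have := congrArg p e'
      rw [map_mul, map_one] at this
      rcases hψ m with e1 | e1 <;> rw [e1] at this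
      · rwa [map_one, mul_one] at this
      · rwa [hpδ, mul_one] at this
    have hk1 : k = 1 := hpK.1 (hk.trans (map_one pK).symm)
    subst hk1
    rw [Subgroup.coe_one, one_mul] at e'
    by_cases hm : m = 1
    · rw [hm]; rfl
    · rw [show ψ m = δ from if_neg hm] at e'
      exact absurd e' hδ1
  have hφsurj : Function.Surjective φ := fun q => by
    obtain ⟨k, hk⟩ := hpK.2 (p q)
    rcases hker ((k : X ⧸ E')⁻¹ * q) (by rw [map_mul, map_inv]; exact inv_mul_eq_one.2 hk) with e | e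
    · exact ⟨(k, 1), by show (k : X ⧸ E') * ψ 1 = q; rw [map_one, mul_one]; exact inv_mul_eq_one.1 e⟩
    · refine ⟨(k, Multiplicative.ofAdd 1), ?_⟩
      show (k : X ⧸ E') * ψ (Multiplicative.ofAdd 1) = q
      rw [show ψ (Multiplicative.ofAdd 1) = δ by simp [ψ, mult_two.2.1], ← e, mul_inv_cancel_left]
  exact ⟨(MulEquiv.ofBijective φ ⟨hφinj, hφsurj⟩).symm.trans (eD.prodCongr (MulEquiv.refl _))⟩

end Coords

end CfsgLib.Recog.McLThree
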