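import Cfsg.Agent.Lib.Recog.McLThree.BigQuot

/-!
The big case: the centraliser and the normaliser of the line of `y` in the central quotient of the centraliser of
`T`.
-/

set_option autoImplicit false
set_option linter.style.haveILetI false
set_option linter.unusedSectionVars false
set_option Elab.async false

namespace CfsgLib.Recog.McLThree

open Subgroup

variable {G : Type*} [Group G] [Finite G] {h : Hyp G}

namespace Coords

variable (c : Coords h)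

theorem D_conj_E {x e : G} (hx : x ∈ c.D) (he : e ∈ c.E) : x * e * x⁻¹ = e := by
  obtain ⟨a, b, rfl⟩ := c.mem_E_iff.1 he
  obtain ⟨h1, -, h2⟩ := c.mem_D.1 hx
  rw [← conj_mul, ← conj_pow, ← conj_pow, mul_inv_eq_iff_eq_mul.2 h1, mul_inv_eq_iff_eq_mul.2 h2]

theorem mk_Eb_of_L0 {x : c.CT} (hx : (x : G) ∈ c.D) (hL : (x : G) ∈ h.L0) : c.mkT x ∈ c.Eb :=
  c.mk_mem_Eb (c.D_L0_cases hx hL)

theorem forward_E {n : G} (h1 : n * h.z * n⁻¹ ∈ c.E) (h2 : n * c.z' * n⁻¹ ∈ c.E) :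
    ∀ e ∈ c.E, n * e * n⁻¹ ∈ c.E := by
  intro e he
  obtain ⟨a, b, rfl⟩ := c.mem_E_iff.1 he
  rw [← conj_mul, ← conj_pow, ← conj_pow]
  exact mul_mem (pow_mem h1 _) (pow_mem h2 _)

theorem conj_mem_D {n x : G} (hnT : n * c.T = c.T * n) (hnE : ∀ e ∈ c.E, n * e * n⁻¹ ∈ c.E)
    (hx : x ∈ c.D) : n * x * n⁻¹ ∈ c.D := by
  have hn : n ∈ normalizer (c.E : Set G) := mem_normalizer_of_forward hnE
  have key : ∀ w ∈ c.E, n * x * n⁻¹ * w = w * (n * x * n⁻¹) := by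
    intro w hw
    have he : n⁻¹ * w * n ∈ c.E := (mem_normalizer_iff.1 hn _).2 (by
      rwa [show n * (n⁻¹ * w * n) * n⁻¹ = w by group])
    have hc := mul_inv_eq_iff_eq_mul.1 (c.D_conj_E hx he)
    calc n * x * n⁻¹ * w = n * (x * (n⁻¹ * w * n)) * n⁻¹ := by group
      _ = n * ((n⁻¹ * w * n) * x) * n⁻¹ := by rw [hc]
      _ = w * (n * x * n⁻¹) := by group
  exact c.mem_D.2 ⟨key _ c.z_mem_E, (((show Commute n c.T from hnT).mul_left (c.mem_D.1 hx).2.1).mul_left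
    (show Commute n c.T from hnT).inv_left).eq, key _ c.z'_mem_E⟩

theorem conj_L0_iff {n x : G} (hnT : n * c.T = c.T * n) (hnE : ∀ e ∈ c.E, n * e * n⁻¹ ∈ c.E)
    (hx : x ∈ c.D) : n * x * n⁻¹ ∈ h.L0 ↔ x ∈ h.L0 := by
  obtain ⟨hT, -⟩ := c.T_L0
  have key : ∀ m y : G, m * c.T = c.T * m → (∀ e ∈ c.E, m * e * m⁻¹ ∈ c.E) → y ∈ c.D → y ∈ h.L0 →
      m * y * m⁻¹ ∈ h.L0 := by
    intro m y hmT hmE hy hyL
    have hE : ∀ e ∈ c.E, e ∈ h.L0 := fun e he => h.S_le_L0 (h.J_le he.1)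
    rcases c.D_L0_cases hy hyL with e | e
    · exact hE _ (hmE _ e)
    · rw [show m * y * m⁻¹ = (m * (y * c.T) * m⁻¹) * (m * c.T⁻¹ * m⁻¹) by group,
        ((show Commute m c.T from hmT).inv_right).eq, mul_inv_cancel_right]
      exact mul_mem (hE _ (hmE _ e)) (inv_mem hT)
  refine ⟨fun hL => ?_, key n x hnT hnE hx⟩
  have hn : n ∈ normalizer (c.E : Set G) := mem_normalizer_of_forward hnE
  have := key n⁻¹ _ ((show Commute n c.T from hnT).inv_left).eq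
    (fun e he => (mem_normalizer_iff.1 (inv_mem hn) e).1 he) (c.conj_mem_D hnT hnE hx) hL
  rwa [show n⁻¹ * (n * x * n⁻¹) * n⁻¹⁻¹ = x by group] at this

theorem U_norm_E : ∀ e ∈ c.E, c.U * e * c.U⁻¹ ∈ c.E :=
  c.forward_E c.z'_mem_E (by rw [c.U_conj_z']; exact c.z_mem_E)

theorem W_norm_E : ∀ e ∈ c.E, c.W * e * c.W⁻¹ ∈ c.E :=
  c.forward_E (by rw [c.W_z]; exact inv_mem c.z_mem_E) (by rw [c.W_z']; exact inv_mem c.z'_mem_E)

theorem W_T : c.W * c.T = c.T * c.W := (mul_assoc _ _ _).symm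

theorem W_inv : c.W⁻¹ = c.W * c.T :=
  inv_eq_of_mul_eq_one_right (by rw [← mul_assoc]; exact c.T_sq)

theorem WUWU_mem : c.W * c.U * c.W * c.U ∈ c.E := by
  have hWT : Commute c.W c.T := c.W_T
  have hUT : Commute c.U c.T := c.U_T
  refine ⟨(c.pi_ker (c.w * c.u * c.w * c.u)).1 ?_, mem_centralizer_singleton_iff.2
    (((hWT.mul_left hUT).mul_left hWT).mul_left hUT).eq⟩
  rw [map_mul, map_mul, map_mul, c.pi_w, c.pi_u]
  have e := w0_facts.2.2.2.2.2.2.2.2.2.1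
  rw [inv_eq_of_mul_eq_one_right w0_facts.2.2.2.2.2.2.2.2.1] at e
  calc w0 * u0 * w0 * u0 = w0 * (u0 * w0 * u0) := by simp only [mul_assoc]
    _ = 1 := by rw [e, mul_inv_cancel]

section Big

variable {c} (hbig : Nat.card h.CZ = 2 * Nat.card h.L0)
include hbig

/-- Two members of `D` on the same side of `L0` multiply into `L0`. -/
theorem mul_L0 {a b : G} (ha : a ∈ c.D) (hb : b ∈ c.D) (hab : a ∈ h.L0 ↔ b ∈ h.L0) : a * b ∈ h.L0 := by
  by_cases haL : a ∈ h.L0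
  · exact mul_mem haL (hab.1 haL)
  · exact h.mul_mem_L0 hbig (c.D_CZ ha) (c.D_CZ hb) haL (fun e => haL (hab.2 e))

theorem mk_pair {a b : c.CT} (ha : (a : G) ∈ c.D) (hb : (b : G) ∈ c.D)
    (hab : (a : G) ∈ h.L0 ↔ (b : G) ∈ h.L0) : c.mkT (a * b) ∈ c.Eb :=
  c.mk_Eb_of_L0 (mul_mem ha hb) (mul_L0 hbig ha hb hab)

theorem cent_yb_big (hy : centralizer ({c.y} : Set G) ≤ normalizer (h.J : Set G)) :
    Nat.card (centralizer ({c.mkT ⟨c.y, c.E_le_cent c.y_mem_E⟩} : Set c.CTbar)) = 36 ∧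
      (c.Eb.subgroupOf (centralizer ({c.mkT ⟨c.y, c.E_le_cent c.y_mem_E⟩} : Set c.CTbar))).Normal ∧
      (∀ g ∈ centralizer ({c.mkT ⟨c.y, c.E_le_cent c.y_mem_E⟩} : Set c.CTbar), g ^ 2 ∈ c.Eb) ∧
      ∀ Ny : Subgroup c.CTbar,
        Ny = normalizer (zpowers (c.mkT ⟨c.y, c.E_le_cent c.y_mem_E⟩) : Set c.CTbar) →
        (c.Eb.subgroupOf Ny).Normal ∧ Nat.card Ny = 72 ∧ ∀ g ∈ Ny, g ^ 2 ∈ c.Eb := by
  set yc : c.CT := ⟨c.y, c.E_le_cent c.y_mem_E⟩
  set C := centralizer ({c.mkT yc} : Set c.CTbar)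
  let Uc : c.CT := ⟨c.U, c.U_mem_cent⟩
  let Wc : c.CT := ⟨c.W, c.W_mem_cent⟩
  have hUy : c.U * c.y * c.U⁻¹ = c.y := by
    show c.U * (h.z * c.z') * c.U⁻¹ = h.z * c.z'
    rw [← conj_mul, c.U_conj_z']
    exact h.J_comm _ c.z'_mem_E.1 _ h.z_mem_J
  have hWy : c.W * c.y * c.W⁻¹ = c.y⁻¹ := by
    show c.W * (h.z * c.z') * c.W⁻¹ = (h.z * c.z')⁻¹
    rw [← conj_mul, c.W_z, c.W_z']
    exact (h.J_comm _ (inv_mem h.z_mem_J) _ (inv_mem c.z'_mem_E.1)).trans (mul_inv_rev _ _).symm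
  have hy3 : c.y ^ 3 = 1 := h.J_exp _ c.y_mem_J
  have hlift : ∀ n : c.CT, ∀ w : c.CT, (w : G) ^ 3 = 1 → c.mkT n * c.mkT yc * (c.mkT n)⁻¹ = c.mkT w →
      (n : G) * c.y * (n : G)⁻¹ = w := by
    intro n w hw hn
    exact c.lift_eq (a := n * yc * n⁻¹) (b := w)
      (by simp only [yc, Subgroup.coe_mul, Subgroup.coe_inv]; rw [conj_pow, hy3]; simp) hw
      (by rw [map_mul, map_mul, map_inv]; exact hn)
  have mkC : ∀ n : c.CT, (n : G) * c.y * (n : G)⁻¹ = c.y → c.mkT n ∈ C := by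
    intro n hn
    rw [mem_centralizer_singleton_iff, ← map_mul, ← map_mul]
    congr 1
    exact Subtype.ext (mul_inv_eq_iff_eq_mul.1 hn)
  have casesC : ∀ n : c.CT, c.mkT n ∈ C → (n : G) ∈ c.D ∨ c.U⁻¹ * n ∈ c.D := fun n hn =>
    c.centY_cases hy (c.mem_cent_T.1 n.2)
      (hlift n yc hy3 (mul_inv_eq_iff_eq_mul.2 (mem_centralizer_singleton_iff.1 hn)))
  have hDy : ∀ x ∈ c.D, x * c.y * x⁻¹ = c.y := fun x hx => c.D_conj_E hx c.y_mem_E
  have hUc : c.mkT Uc ∈ C := mkC Uc hUy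
  have hCbC : ∀ X ∈ centralizer (c.Eb : Set c.CTbar), X ∈ C := by
    intro X hX
    obtain ⟨n, rfl⟩ := QuotientGroup.mk'_surjective c.TN X
    exact mkC n (hDy _ (c.cent_mk_D hX))
  have hcard : Nat.card C = 36 := by
    let f : centralizer (c.Eb : Set c.CTbar) × Fin 2 → C := fun t =>
      ⟨c.mkT Uc ^ (t.2 : ℕ) * t.1, mul_mem (pow_mem hUc _) (hCbC _ t.1.2)⟩
    have hnU : c.mkT Uc ∉ centralizer (c.Eb : Set c.CTbar) := fun hm => by
      have := mul_inv_eq_iff_eq_mul.2 (c.mem_D.1 (c.cent_mk_D hm)).1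
      exact c.z'_ne_z.1 this
    have hinj : Function.Injective f := by
      rintro ⟨x, i⟩ ⟨x', i'⟩ hf
      have e0 : c.mkT Uc ^ (i : ℕ) * (x : c.CTbar) = c.mkT Uc ^ (i' : ℕ) * x' := congrArg Subtype.val hf
      fin_cases i <;> fin_cases i' <;> simp only [pow_zero, pow_one, one_mul] at e0
      · rw [Subtype.ext e0]
      · exact absurd (by rw [show c.mkT Uc = (x : c.CTbar) * (x' : c.CTbar)⁻¹ by
          rw [e0, mul_inv_cancel_right]]; exact mul_mem x.2 (inv_mem x'.2)) hnU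
      · exact absurd (by rw [show c.mkT Uc = (x' : c.CTbar) * (x : c.CTbar)⁻¹ by
          rw [← e0, mul_inv_cancel_right]]; exact mul_mem x'.2 (inv_mem x.2)) hnU
      · rw [Subtype.ext (mul_left_cancel e0)]
    have hsurj : Function.Surjective f := by
      rintro ⟨X, hX⟩
      obtain ⟨n, rfl⟩ := QuotientGroup.mk'_surjective c.TN X
      rcases casesC n hX with hd' | hd'
      · exact ⟨(⟨_, c.D_mk_cent hd'⟩, 0), Subtype.ext (by show c.mkT Uc ^ 0 * c.mkT n = _; rw [pow_zero, one_mul])⟩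
      · refine ⟨(⟨c.mkT (Uc⁻¹ * n), c.D_mk_cent hd'⟩, 1), Subtype.ext ?_⟩
        show c.mkT Uc ^ 1 * c.mkT (Uc⁻¹ * n) = c.mkT n
        rw [pow_one, ← map_mul, mul_inv_cancel_left]
    rw [← Nat.card_congr (Equiv.ofBijective f ⟨hinj, hsurj⟩), Nat.card_prod, c.card_cent_Eb hbig,
      Nat.card_fin]
  -- squares
  have hUx : ∀ x ∈ c.D, c.U * x * c.U⁻¹ ∈ c.D ∧ (c.U * x * c.U⁻¹ ∈ h.L0 ↔ x ∈ h.L0) := fun x hx =>
    ⟨c.conj_mem_D c.U_T c.U_norm_E hx, c.conj_L0_iff c.U_T c.U_norm_E hx⟩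
  have sqC : ∀ n : c.CT, c.mkT n ∈ C → c.mkT n ^ 2 ∈ c.Eb := by
    intro n hn
    rw [pow_two, ← map_mul]
    rcases casesC n hn with hd' | hd'
    · exact mk_pair hbig hd' hd' Iff.rfl
    · have := mk_pair hbig (a := Uc * (Uc⁻¹ * n) * Uc) (b := Uc⁻¹ * n)
        (by show c.U * (c.U⁻¹ * n) * c.U ∈ c.D; nth_rewrite 3 [← c.U_inv]; exact (hUx _ hd').1) hd'
        (by show c.U * (c.U⁻¹ * n) * c.U ∈ h.L0 ↔ _; nth_rewrite 3 [← c.U_inv]; exact (hUx _ hd').2)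
      rwa [show Uc * (Uc⁻¹ * n) * Uc * (Uc⁻¹ * n) = n * n by group] at this
  have normE : ∀ n : c.CT, c.mkT n ∈ C → ∀ e ∈ c.E, (n : G) * e * (n : G)⁻¹ ∈ c.E := by
    intro n hn e he
    rcases casesC n hn with hd' | hd'
    · rw [c.D_conj_E hd' he]; exact he
    · rw [show (n : G) * e * (n : G)⁻¹ = c.U * (c.U⁻¹ * n * e * (c.U⁻¹ * n)⁻¹) * c.U⁻¹ by group,
        c.D_conj_E hd' he]
      exact c.U_norm_E e he
  have normal_of : ∀ K : Subgroup c.CTbar,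
      (∀ n : c.CT, c.mkT n ∈ K → ∀ e ∈ c.E, (n : G) * e * (n : G)⁻¹ ∈ c.E) → (c.Eb.subgroupOf K).Normal := by
    intro K hK
    refine ⟨?_⟩
    rintro ⟨x, hx⟩ hxE ⟨g, hg⟩
    obtain ⟨n, rfl⟩ := QuotientGroup.mk'_surjective c.TN g
    obtain ⟨e, rfl⟩ := mem_subgroupOf.1 hxE
    exact ⟨⟨_, hK n hg e e.2⟩, rfl⟩
  refine ⟨hcard, normal_of C normE, fun g hg => ?_, ?_⟩
  · obtain ⟨n, rfl⟩ := QuotientGroup.mk'_surjective c.TN g
    exact sqC n hg
  rintro Ny rfl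
  set Ny := normalizer (zpowers (c.mkT yc) : Set c.CTbar)
  have hCN : C ≤ Ny := by
    intro x hx
    rw [mem_centralizer_singleton_iff] at hx
    refine mem_normalizer_of_forward fun w hw => ?_
    obtain ⟨i, rfl⟩ := mem_zpowers_iff.1 hw
    rw [← conj_zpow, hx, mul_inv_cancel_right]
    exact zpow_mem (mem_zpowers _) i
  have hWyb : c.mkT Wc * c.mkT yc * (c.mkT Wc)⁻¹ = (c.mkT yc)⁻¹ := by
    rw [← map_inv, ← map_inv, ← map_mul, ← map_mul]
    congr 1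
    exact Subtype.ext hWy
  have hWN : c.mkT Wc ∈ Ny := by
    refine mem_normalizer_of_forward fun w hw => ?_
    obtain ⟨i, rfl⟩ := mem_zpowers_iff.1 hw
    rw [← conj_zpow, hWyb]
    exact zpow_mem (inv_mem (mem_zpowers _)) i
  have hyne : c.y ≠ c.y⁻¹ := fun e => by
    have h2 : c.y * c.y = 1 := by nth_rewrite 2 [e]; exact mul_inv_cancel _
    have h1 : c.y = 1 := by rwa [pow_succ, pow_two, h2, one_mul] at hy3
    exact c.z'_notMem_Z (by rw [eq_inv_of_mul_eq_one_right h1]; exact inv_mem (mem_zpowers _))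
  have casesN : ∀ n : c.CT, c.mkT n ∈ Ny → c.mkT n ∈ C ∨ c.mkT (Wc⁻¹ * n) ∈ C := by
    intro n hn
    obtain ⟨i, hi⟩ := mem_zpowers_iff.1 ((mem_normalizer_iff.1 hn _).1 (mem_zpowers _))
    have hn' := hlift n (yc ^ i)
      (by rw [Subgroup.coe_zpow, ← zpow_natCast, ← zpow_mul, mul_comm, zpow_mul, zpow_natCast]
          show (c.y ^ 3) ^ i = 1
          rw [hy3, one_zpow])
      (by rw [map_zpow]; exact hi.symm)
    rw [Subgroup.coe_zpow] at hn'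
    have hcases : c.y ^ i = c.y ∨ c.y ^ i = c.y⁻¹ := by
      have h3 : c.y ^ (3 : ℤ) = 1 := by exact_mod_cast hy3
      rcases (show i % 3 = 0 ∨ i % 3 = 1 ∨ i % 3 = 2 by omega) with e | e | e
      · exfalso
        rw [← Int.mul_ediv_add_emod i 3, e, add_zero, zpow_mul] at hn'
        rw [show (yc : G) = c.y from rfl, h3, one_zpow] at hn'
        exact hyne (by rw [conj_eq_one_iff.1 hn', inv_one])
      · left
        rw [← Int.mul_ediv_add_emod i 3, e, zpow_add, zpow_mul, h3, one_zpow, one_mul, zpow_one]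
      · right
        rw [← Int.mul_ediv_add_emod i 3, e, zpow_add, zpow_mul, h3, one_zpow, one_mul,
          show (2 : ℤ) = 3 - 1 from rfl, zpow_sub, h3, zpow_one, one_mul]
    rcases hcases with e | e
    · exact Or.inl (mkC n (hn'.trans e))
    · refine Or.inr (mkC _ ?_)
      show c.W⁻¹ * n * c.y * (c.W⁻¹ * n)⁻¹ = c.y
      rw [show c.W⁻¹ * n * c.y * (c.W⁻¹ * (n : G))⁻¹ = c.W⁻¹ * ((n : G) * c.y * (n : G)⁻¹) * c.W by group,
        hn'.trans e, ← hWy]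
      group
  have nW : ∀ e ∈ c.E, c.W * e * c.W⁻¹ ∈ c.E := c.W_norm_E
  refine ⟨normal_of Ny fun n hn e he => ?_, ?_, fun g hg => ?_⟩
  · rcases casesN n hn with hC | hC
    · exact normE n hC e he
    · rw [show (n : G) * e * (n : G)⁻¹ = c.W * (c.W⁻¹ * n * e * (c.W⁻¹ * n)⁻¹) * c.W⁻¹ by group]
      exact nW _ (normE _ hC e he)
  · let f : C × Fin 2 → Ny := fun t =>
      ⟨c.mkT Wc ^ (t.2 : ℕ) * t.1, mul_mem (pow_mem hWN _) (hCN t.1.2)⟩
    have hnW : c.mkT Wc ∉ C := fun hm => by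
      rw [mem_centralizer_singleton_iff] at hm
      have e := hWyb
      rw [hm, mul_inv_cancel_right, ← map_inv] at e
      exact hyne (c.lift_eq (a := yc) (b := yc⁻¹) hy3
        (by rw [Subgroup.coe_inv, inv_pow, show (yc : G) ^ 3 = 1 from hy3, inv_one]) e)
    have hinj : Function.Injective f := by
      rintro ⟨x, i⟩ ⟨x', i'⟩ hf
      have e0 : c.mkT Wc ^ (i : ℕ) * (x : c.CTbar) = c.mkT Wc ^ (i' : ℕ) * x' := congrArg Subtype.val hf
      fin_cases i <;> fin_cases i' <;> simp only [pow_zero, pow_one, one_mul] at e0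
      · rw [Subtype.ext e0]
      · exact absurd (by rw [show c.mkT Wc = (x : c.CTbar) * (x' : c.CTbar)⁻¹ by
          rw [e0, mul_inv_cancel_right]]; exact mul_mem x.2 (inv_mem x'.2)) hnW
      · exact absurd (by rw [show c.mkT Wc = (x' : c.CTbar) * (x : c.CTbar)⁻¹ by
          rw [← e0, mul_inv_cancel_right]]; exact mul_mem x'.2 (inv_mem x.2)) hnW
      · rw [Subtype.ext (mul_left_cancel e0)]
    have hsurj : Function.Surjective f := by
      rintro ⟨X, hX⟩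
      obtain ⟨n, rfl⟩ := QuotientGroup.mk'_surjective c.TN X
      rcases casesN n hX with hC | hC
      · exact ⟨(⟨_, hC⟩, 0), Subtype.ext (by show c.mkT Wc ^ 0 * c.mkT n = _; rw [pow_zero, one_mul])⟩
      · refine ⟨(⟨_, hC⟩, 1), Subtype.ext ?_⟩
        show c.mkT Wc ^ 1 * c.mkT (Wc⁻¹ * n) = c.mkT n
        rw [pow_one, ← map_mul, mul_inv_cancel_left]
    rw [← Nat.card_congr (Equiv.ofBijective f ⟨hinj, hsurj⟩), Nat.card_prod, hcard, Nat.card_fin]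
  · obtain ⟨n, rfl⟩ := QuotientGroup.mk'_surjective c.TN g
    rcases casesN n hg with hC | hC
    · exact sqC n hC
    · set m := Wc⁻¹ * n
      rw [pow_two, ← map_mul]
      have hWm : ∀ x ∈ c.D, c.W * x * c.W⁻¹ ∈ c.D ∧ (c.W * x * c.W⁻¹ ∈ h.L0 ↔ x ∈ h.L0) := fun x hx =>
        ⟨c.conj_mem_D c.W_T nW hx, c.conj_L0_iff c.W_T nW hx⟩
      have hTm : ∀ w : c.CT, c.mkT (w * c.Tc) = c.mkT w := fun w => by rw [map_mul, c.mk_T, mul_one]
      have e : n * n = (Wc * m * Wc⁻¹) * m * c.Tc := by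
        refine Subtype.ext ?_
        show (n : G) * n = c.W * (c.W⁻¹ * n) * c.W⁻¹ * (c.W⁻¹ * n) * c.T
        have hc : (n : G) * c.T = c.T * n := c.mem_cent_T.1 n.2
        rw [show c.W * (c.W⁻¹ * n) * c.W⁻¹ * (c.W⁻¹ * n) * c.T =
          (n : G) * (c.W * c.W)⁻¹ * ((n : G) * c.T) by group, show (c.W * c.W)⁻¹ = c.T from c.T_inv,
          (show Commute c.T (n : G) from hc.symm).mul_mul_mul_comm, c.T_sq, mul_one]
      rw [e, hTm]
      rcases casesC m hC with hd' | hd'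
      · exact mk_pair hbig (hWm _ hd').1 hd' (hWm _ hd').2
      · set x := Uc⁻¹ * m
        -- `W U W⁻¹` is `U` up to a member of `D ⊓ L0`
        let j1 : c.CT := Uc * Wc * Uc * Wc⁻¹
        have hj : (j1 : G) ∈ c.D ∧ (j1 : G) ∈ h.L0 := by
          have hE := c.U_norm_E _ c.WUWU_mem
          have e1 : (j1 : G) = c.U * (c.W * c.U * c.W * c.U) * c.U⁻¹ * c.T := by
            show c.U * c.W * c.U * c.W⁻¹ = _
            rw [c.W_inv]; group
          obtain ⟨hT, -⟩ := c.T_L0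
          rw [e1]
          refine ⟨mul_mem (c.mem_D.2 ⟨h.z_central (h.J_le hE.1), mem_centralizer_singleton_iff.1 hE.2,
            h.J_comm _ hE.1 _ c.z'_mem_E.1⟩) c.T_mem_D, mul_mem (h.S_le_L0 (h.J_le hE.1)) hT⟩
        let x2 : c.CT := Wc * x * Wc⁻¹
        have hx2 : (x2 : G) ∈ c.D ∧ ((x2 : G) ∈ h.L0 ↔ (x : G) ∈ h.L0) := hWm _ hd'
        have hd2 : ((j1 * x2 : c.CT) : G) ∈ c.D := mul_mem hj.1 hx2.1
        have hd2' : ((j1 * x2 : c.CT) : G) ∈ h.L0 ↔ (x : G) ∈ h.L0 :=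
          ((mul_mem_cancel_left hj.2 : (j1 : G) * (x2 : G) ∈ h.L0 ↔ _)).trans hx2.2
        have := mk_pair hbig (a := Uc * (j1 * x2) * Uc⁻¹) (b := x) (hUx _ hd2).1 hd'
          ((hUx _ hd2).2.trans hd2')
        rwa [show Uc * (j1 * x2) * Uc⁻¹ * x = (Wc * m * Wc⁻¹) * m from Subtype.ext (by
          show c.U * (c.U * c.W * c.U * c.W⁻¹ * (c.W * (c.U⁻¹ * m) * c.W⁻¹)) * c.U⁻¹ * (c.U⁻¹ * m) =
            c.W * m * c.W⁻¹ * m
          rw [show c.U * (c.U * c.W * c.U * c.W⁻¹ * (c.W * (c.U⁻¹ * m) * c.W⁻¹)) * c.U⁻¹ * (c.U⁻¹ * m) =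
            (c.U * c.U) * (c.W * m * c.W⁻¹) * (c.U * c.U)⁻¹ * m by group, c.U_sq, one_mul, inv_one, mul_one])]
          at this

end Big

end Coords

end CfsgLib.Recog.McLThree
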