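import Cfsg.Agent.Lib.Recog.McLThree.CentZ

/-!
The `3`-local structure of the centraliser of `T` when `L0` is the whole centraliser of `z`.
-/

set_option autoImplicit false
set_option linter.style.haveILetI false
set_option linter.unusedSectionVars false

namespace CfsgLib.Recog.McLThree

open Subgroup

variable {G : Type*} [Group G] [Finite G] {h : Hyp G}

namespace Coords

variable (c : Coords h)

theorem E_le_cent : c.E ≤ centralizer ({c.T} : Set G) := inf_le_right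

theorem mem_cent_T {x : G} : x ∈ centralizer ({c.T} : Set G) ↔ x * c.T = c.T * x :=
  mem_centralizer_singleton_iff

theorem T_mem_cent : c.T ∈ centralizer ({c.T} : Set G) := c.mem_cent_T.2 rfl

theorem U_mem_cent : c.U ∈ centralizer ({c.T} : Set G) := c.mem_cent_T.2 c.U_T

theorem W_mem_cent : c.W ∈ centralizer ({c.T} : Set G) := c.mem_cent_T.2 (mul_assoc _ _ _).symm

theorem pow_z' {b : ℤ} (hb : c.z' ^ b ∈ h.Z) : (3 : ℤ) ∣ b :=
  c.z'_pow_mem (one_mem _) (by rw [one_mul]; exact (zpowers_le.2 h.z_mem_A : h.Z ≤ h.A) hb)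

/-- The exponents of a member of `E` are unique modulo three. -/
theorem E_inj {a b a' b' : ℤ} (e : h.z ^ a * c.z' ^ b = h.z ^ a' * c.z' ^ b') :
    (3 : ℤ) ∣ a - a' ∧ (3 : ℤ) ∣ b - b' := by
  have hb : (3 : ℤ) ∣ b - b' := by
    refine c.pow_z' ?_
    have e' : c.z' ^ (b - b') = h.z ^ (-a + a') := by
      rw [zpow_sub, mul_inv_eq_iff_eq_mul, zpow_add, zpow_neg, mul_assoc, eq_inv_mul_iff_mul_eq]
      exact e
    rw [e']; exact zpow_mem (mem_zpowers _) _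
  refine ⟨?_, hb⟩
  obtain ⟨k, hk⟩ := hb
  have h3 : c.z' ^ (3 : ℤ) = 1 := by
    rw [show (3 : ℤ) = ((3 : ℕ) : ℤ) from rfl, zpow_natCast, c.z'_cube]
  rw [show b = b' + 3 * k by omega, zpow_add, zpow_mul, h3, one_zpow, mul_one] at e
  have e2 : h.z ^ (a - a') = 1 := by rw [zpow_sub, mul_right_cancel e, mul_inv_cancel]
  rw [← orderOf_dvd_iff_zpow_eq_one, h.z_order] at e2
  exact e2

/-- A member of `L0` fixing `z'` and `T` is in `E` up to `T`. -/
theorem D_L0_cases {x : G} (hx : x ∈ c.D) (hxL : x ∈ h.L0) : x ∈ c.E ∨ x * c.T ∈ c.E := by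
  obtain ⟨hT, hpi⟩ := c.T_L0
  obtain ⟨-, hxT, hxz'⟩ := c.mem_D.1 hx
  have hcomm : h.piL ⟨x, hxL⟩ * c.a0 = c.a0 * h.piL ⟨x, hxL⟩ := by
    rw [← map_mul, ← map_mul]; congr 1; exact Subtype.ext hxz'
  have hz'T : c.z' * c.T = c.T * c.z' := mem_centralizer_singleton_iff.1 c.z'_mem_E.2
  have key : ∀ i : ℕ, ∀ y : h.L0, (y : G) * c.T = c.T * y → h.piL y = c.a0 ^ i → (y : G) ∈ c.E := by
    intro i y hy hp
    have hk : ((⟨c.z', c.z'_mem_L0⟩ : h.L0) ^ i)⁻¹ * y ∈ h.piL.ker := by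
      rw [MonoidHom.mem_ker, map_mul, map_inv, map_pow, hp, inv_mul_cancel]
    rw [h.piL_ker, mem_subgroupOf] at hk
    have hk' : (c.z' ^ i)⁻¹ * (y : G) ∈ h.Q := hk
    have hz : (c.z' ^ i)⁻¹ * (y : G) ∈ h.Z := c.centQ_T hk'
      (((show Commute c.T c.z' from hz'T.symm).pow_right i).inv_right.mul_right hy.symm).eq
    rw [← mul_inv_cancel_left (c.z' ^ i) (y : G)]
    exact mul_mem (pow_mem c.z'_mem_E i) ((zpowers_le.2 c.z_mem_E : h.Z ≤ c.E) hz)
  obtain ⟨i, hi | hi⟩ := cent_three _ c.a0_facts.1 c.a0_facts.2 _ hcomm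
  · exact Or.inl (key i ⟨x, hxL⟩ hxT hi)
  · refine Or.inr (key i ⟨x * c.T, mul_mem hxL hT⟩ ?_ ?_)
    · show x * c.T * c.T = c.T * (x * c.T)
      rw [← mul_assoc c.T, ← hxT]
    · rw [show (⟨x * c.T, mul_mem hxL hT⟩ : h.L0) = ⟨x, hxL⟩ * ⟨c.T, hT⟩ from rfl, map_mul, hi, hpi,
        mul_assoc, ← sl_neg_one.2.2, ← mul_assoc, sl_neg_one.2.1, one_mul]

/-- A `3`-element of the centraliser of `T` normalising `E` lies in `E`. -/
theorem three_normE {r : G} {k : ℕ} (hr : r * c.T = c.T * r) (h3 : r ^ 3 ^ k = 1)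
    (hrE : ∀ e ∈ c.E, r * e * r⁻¹ ∈ c.E) : r ∈ c.E := by
  have hodd : Odd (3 ^ k) := Odd.pow (by decide)
  have step : ∀ s : G, (∀ e ∈ c.E, s * e * s⁻¹ ∈ c.E) → s * h.z * s⁻¹ ∈ h.Z ∨
      (s * h.z * s⁻¹ ∈ zpowers c.z' ∧ s * c.z' * s⁻¹ ∈ h.Z) := by
    intro s hs
    have hsU : s * c.U * h.z * (s * c.U)⁻¹ = s * c.z' * s⁻¹ := by simp only [z']; group
    have h2 := c.points_E (g := s * c.U) (by rw [hsU]; exact hs _ c.z'_mem_E)
    rw [hsU] at h2
    have hzz : s * h.z * s⁻¹ ∈ h.Z ∨ s * h.z * s⁻¹ ∈ zpowers c.z' := by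
      rcases c.points_E (hs _ c.z_mem_E) with e | e | e | e <;> rw [e]
      · exact Or.inl (mem_zpowers _)
      · exact Or.inl (inv_mem (mem_zpowers _))
      · exact Or.inr (mem_zpowers _)
      · exact Or.inr (inv_mem (mem_zpowers _))
    refine hzz.imp id fun h1 => ⟨h1, ?_⟩
    rcases h2 with e | e | e | e
    · rw [e]; exact mem_zpowers _
    · rw [e]; exact inv_mem (mem_zpowers _)
    all_goals
      exfalso
      have hmem : s * c.z' * s⁻¹ ∈ zpowers c.z' := by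
        rw [e]; first | exact mem_zpowers _ | exact inv_mem (mem_zpowers _)
      obtain ⟨n, hn⟩ := mem_zpowers_iff.1 h1
      obtain ⟨m, hm⟩ := mem_zpowers_iff.1 hmem
      have e2 : h.z ^ m = c.z' ^ n := by
        apply conj_injective (x := s)
        show s * h.z ^ m * s⁻¹ = s * c.z' ^ n * s⁻¹
        rw [← conj_zpow, ← conj_zpow, ← hn, ← hm, ← zpow_mul, ← zpow_mul, mul_comm]
      have hd := c.pow_z' (b := n) (e2 ▸ zpow_mem (mem_zpowers _) m)
      obtain ⟨j, rfl⟩ := hd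
      rw [zpow_mul, show c.z' ^ (3 : ℤ) = 1 by
        rw [show (3 : ℤ) = ((3 : ℕ) : ℤ) from rfl, zpow_natCast, c.z'_cube], one_zpow] at hn
      exact h.z_ne (conj_eq_one_iff.1 hn.symm)
  have hforward : ∀ s : G, (∀ x ∈ h.Z, s * x * s⁻¹ ∈ h.Z) ↔ s * h.z * s⁻¹ ∈ h.Z := fun s =>
    ⟨fun hs => hs _ (mem_zpowers _), fun hs x hx => by
      obtain ⟨n, rfl⟩ := mem_zpowers_iff.1 hx
      rw [← conj_zpow]; exact zpow_mem hs n⟩
  have hr2 : r * r ∈ h.NZ := by
    refine mem_normalizer_of_forward ((hforward _).2 ?_)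
    rw [show r * r * h.z * (r * r)⁻¹ = r * (r * h.z * r⁻¹) * r⁻¹ by group]
    rcases step r hrE with h1 | ⟨h1, h2⟩
    · exact (hforward r).2 h1 _ h1
    · obtain ⟨n, hn⟩ := mem_zpowers_iff.1 h1
      rw [← hn, ← conj_zpow]
      exact zpow_mem h2 n
  have hrN : r ∈ h.NZ := by
    obtain ⟨m, hm⟩ := hodd
    have e : r = (r * r) ^ (m + 1) := by
      rw [← pow_two, ← pow_mul, show 2 * (m + 1) = 2 * m + 1 + 1 by ring, pow_succ, ← hm, h3, one_mul]
    rw [e]; exact pow_mem hr2 _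
  have hrL : r ∈ h.L0 := by
    rw [h.L0_eq]
    haveI : Fact (Nat.Prime 3) := ⟨by norm_num⟩
    obtain ⟨j, -, hj⟩ := (Nat.dvd_prime_pow (by norm_num : Nat.Prime 3)).1 (orderOf_dvd_of_pow_eq_one h3)
    exact subset_closure ⟨hrN, j, hj⟩
  have hrz : r * h.z * r⁻¹ = h.z := mul_inv_eq_iff_eq_mul.2 (h.mem_CZ.1 (h.L0_le_CZ hrL))
  have hrz' : r * c.z' * r⁻¹ = c.z' := by
    have hsU : r * c.U * h.z * (r * c.U)⁻¹ = r * c.z' * r⁻¹ := by simp only [z']; group
    have h2 := c.points_E (g := r * c.U) (by rw [hsU]; exact hrE _ c.z'_mem_E)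
    rw [hsU] at h2
    rcases h2 with e | e | e | e
    · exact absurd (conj_injective (e.trans hrz.symm)) c.z'_ne_z.1
    · refine absurd (conj_injective (x := r) (e.trans ?_)) c.z'_ne_z.2
      show h.z⁻¹ = r * h.z⁻¹ * r⁻¹
      rw [← conj_inv, hrz]
    · exact e
    · exfalso
      have hpow : ∀ m : ℕ, r ^ m * c.z' * (r ^ m)⁻¹ = c.z' ^ ((-1 : ℤ) ^ m) := by
        intro m
        induction m with
        | zero => simp
        | succ m ih =>
          rw [pow_succ', show r * r ^ m * c.z' * (r * r ^ m)⁻¹ = r * (r ^ m * c.z' * (r ^ m)⁻¹) * r⁻¹ by group,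
            ih, ← conj_zpow, e, inv_zpow, ← zpow_neg]
          congr 1
          ring
      have := hpow (3 ^ k)
      rw [h3, hodd.neg_one_pow] at this
      simp only [one_mul, inv_one, mul_one, zpow_neg, zpow_one] at this
      exact c.z'_notMem_Q (by
        have h' : c.z' * c.z' = 1 := mul_eq_one_iff_eq_inv.2 this
        have h3' := c.z'_cube
        rw [pow_succ, pow_two, h', one_mul] at h3'
        rw [h3']; exact one_mem _)
  rcases c.D_L0_cases (c.mem_D.2 ⟨mul_inv_eq_iff_eq_mul.1 hrz, hr, mul_inv_eq_iff_eq_mul.1 hrz'⟩) hrL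
    with he | he
  · exact he
  · exfalso
    have h1 : (r * c.T) ^ 3 = 1 := h.J_exp _ he.1
    have h2 : ((r * c.T) ^ 3 ^ (k + 1)) = 1 := by rw [pow_succ', pow_mul, h1, one_pow]
    rw [(show Commute r c.T from hr).mul_pow, pow_succ, pow_mul r, h3, one_pow, one_mul] at h2
    obtain ⟨m, hm⟩ : Odd (3 ^ k * 3) := hodd.mul (by decide)
    rw [hm, pow_succ, pow_mul, pow_two, c.T_sq, one_pow, one_mul] at h2
    exact c.T_ne h2

/-- `E` is a maximal `3`-subgroup of the centraliser of `T`. -/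
theorem three_sub_cent {R : Subgroup G} (hR : IsPGroup 3 R) (hRT : R ≤ centralizer ({c.T} : Set G))
    (hER : c.E ≤ R) : R = c.E := by
  haveI : Fact (Nat.Prime 3) := ⟨by norm_num⟩
  by_contra hne
  haveI := hR.isNilpotent
  have hlt : c.E.subgroupOf R < ⊤ := lt_top_iff_ne_top.2 fun e =>
    hne (le_antisymm (subgroupOf_eq_top.1 e) hER)
  obtain ⟨⟨r, hrR⟩, hrn, hrE⟩ := SetLike.exists_of_lt (Group.normalizerCondition_of_isNilpotent _ hlt)
  refine hrE (mem_subgroupOf.2 ?_)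
  obtain ⟨k, hk⟩ := hR ⟨r, hrR⟩
  refine c.three_normE (k := k) (c.mem_cent_T.1 (hRT hrR)) (congrArg Subtype.val hk) fun e he => ?_
  exact (mem_normalizer_iff.1 hrn ⟨e, hER he⟩).1 he

/-- An element of `L0` in the centraliser of `T` inverting the second point. -/
theorem exists_l : ∃ l ∈ h.L0, l * c.T = c.T * l ∧ l * c.z' * l⁻¹ = c.z'⁻¹ ∧
    l * l * c.T⁻¹ ∈ h.Z := by
  obtain ⟨b, hb⟩ := c.exists_gen
  obtain ⟨q, hq, hlT, hlz⟩ := c.exists_inverter_L0 hb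
  set l : h.L0 := q * word ⟨c.z', c.z'_mem_L0⟩ b
  refine ⟨l, l.2, hlT, hlz, c.centQ_T ?_ ?_⟩
  · obtain ⟨hT, hpi⟩ := c.T_L0
    have hk : l * l * (⟨c.T, hT⟩ : h.L0)⁻¹ ∈ h.piL.ker := by
      have hq1 : h.piL q = 1 := by
        rw [← MonoidHom.mem_ker, h.piL_ker, mem_subgroupOf]; exact hq
      rw [MonoidHom.mem_ker, map_mul, map_mul, map_inv, map_mul, hq1, one_mul, hpi, mul_inv_eq_one]
      simp only [word, map_mul]
      exact (genPair_words _ c.a0_facts.1 c.a0_facts.2 _ hb).2.2.1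
    rwa [h.piL_ker, mem_subgroupOf] at hk
  · exact (((show Commute c.T (l : G) from hlT.symm).mul_right hlT.symm).mul_right
      (Commute.refl c.T).inv_right).eq

/-- Elements with the same action on the two points differ by a member of `D`. -/
theorem mem_D_of_same {g n : G} (hg : g * c.T = c.T * g) (hn : n * c.T = c.T * n)
    (h1 : g * h.z * g⁻¹ = n * h.z * n⁻¹) (h2 : g * c.z' * g⁻¹ = n * c.z' * n⁻¹) : g⁻¹ * n ∈ c.D := by
  have key : ∀ x : G, g * x * g⁻¹ = n * x * n⁻¹ → g⁻¹ * n * x = x * (g⁻¹ * n) := fun x e => by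
    calc g⁻¹ * n * x = g⁻¹ * (n * x * n⁻¹) * n := by group
      _ = x * (g⁻¹ * n) := by rw [← e]; group
  exact c.mem_D.2 ⟨key _ h1, (Commute.mul_left (show Commute g c.T from hg).inv_left hn).eq, key _ h2⟩

/-- The two signed points of an element normalising `E`. -/
theorem conj_points {n : G} (hnE : ∀ e ∈ c.E, n * e * n⁻¹ ∈ c.E) :
    ∃ ε η : ℤ, (ε = 1 ∨ ε = -1) ∧ (η = 1 ∨ η = -1) ∧
      ((n * h.z * n⁻¹ = h.z ^ ε ∧ n * c.z' * n⁻¹ = c.z' ^ η) ∨
        (n * h.z * n⁻¹ = c.z' ^ ε ∧ n * c.z' * n⁻¹ = h.z ^ η)) := by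
  have pt : ∀ g : G, g * h.z * g⁻¹ ∈ c.E → ∃ ε : ℤ, (ε = 1 ∨ ε = -1) ∧
      (g * h.z * g⁻¹ = h.z ^ ε ∨ g * h.z * g⁻¹ = c.z' ^ ε) := by
    intro g hg
    rcases c.points_E hg with e | e | e | e
    · exact ⟨1, Or.inl rfl, Or.inl (by rw [e, zpow_one])⟩
    · exact ⟨-1, Or.inr rfl, Or.inl (by rw [e, zpow_neg_one])⟩
    · exact ⟨1, Or.inl rfl, Or.inr (by rw [e, zpow_one])⟩
    · exact ⟨-1, Or.inr rfl, Or.inr (by rw [e, zpow_neg_one])⟩
  have hnU : n * c.U * h.z * (n * c.U)⁻¹ = n * c.z' * n⁻¹ := by simp only [z']; group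
  obtain ⟨ε, hε, e1⟩ := pt n (hnE _ c.z_mem_E)
  obtain ⟨η, hη, e2⟩ := pt (n * c.U) (by rw [hnU]; exact hnE _ c.z'_mem_E)
  rw [hnU] at e2
  refine ⟨ε, η, hε, hη, ?_⟩
  -- the two images lie on different lines
  have bad : ∀ x : G, n * h.z * n⁻¹ = x ^ ε → n * c.z' * n⁻¹ = x ^ η → False := by
    intro x u v
    have e : h.z ^ η = c.z' ^ ε := by
      apply conj_injective (x := n)
      show n * h.z ^ η * n⁻¹ = n * c.z' ^ ε * n⁻¹
      rw [← conj_zpow, ← conj_zpow, u, v, ← zpow_mul, ← zpow_mul, mul_comm]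
    have := c.pow_z' (b := ε) (e ▸ zpow_mem (mem_zpowers _) η)
    omega
  rcases e1 with u | u <;> rcases e2 with v | v
  · exact (bad _ u v).elim
  · exact Or.inl ⟨u, v⟩
  · exact Or.inr ⟨u, v⟩
  · exact (bad _ u v).elim

/-- An element of the centraliser of `T` and of `y` fixes or exchanges the two points. -/
theorem centY_cases (hy : centralizer ({c.y} : Set G) ≤ normalizer (h.J : Set G)) {n : G}
    (hn : n * c.T = c.T * n) (hny : n * c.y * n⁻¹ = c.y) : n ∈ c.D ∨ c.U⁻¹ * n ∈ c.D := by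
  have hnJ : n ∈ normalizer (h.J : Set G) :=
    hy (mem_centralizer_singleton_iff.2 (mul_inv_eq_iff_eq_mul.1 hny))
  have hnE : ∀ e ∈ c.E, n * e * n⁻¹ ∈ c.E := fun e he => by
    refine ⟨h.conj_J hnJ he.1, mem_centralizer_singleton_iff.2 ?_⟩
    exact (((show Commute n c.T from hn).mul_left
      (mem_centralizer_singleton_iff.1 he.2 : Commute e c.T)).mul_left
        (show Commute n c.T from hn).inv_left).eq
  obtain ⟨ε, η, hε, hη, hc⟩ := c.conj_points hnE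
  rw [← conj_mul] at hny
  rcases hc with ⟨u, v⟩ | ⟨u, v⟩ <;> rw [u, v] at hny
  · obtain ⟨ha, hb⟩ := c.E_inj (a := ε) (b := η) (a' := 1) (b' := 1) (by rw [hny, zpow_one, zpow_one])
    rw [show ε = 1 by omega, zpow_one] at u
    rw [show η = 1 by omega, zpow_one] at v
    exact Or.inl (c.mem_D.2 ⟨mul_inv_eq_iff_eq_mul.1 u, hn, mul_inv_eq_iff_eq_mul.1 v⟩)
  · rw [h.J_comm _ (zpow_mem (show c.z' ∈ h.J from c.z'_mem_E.1) ε) _ (zpow_mem h.z_mem_J η)] at hny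
    obtain ⟨ha, hb⟩ := c.E_inj (a := η) (b := ε) (a' := 1) (b' := 1) (by rw [hny, zpow_one, zpow_one])
    rw [show ε = 1 by omega, zpow_one] at u
    rw [show η = 1 by omega, zpow_one] at v
    refine Or.inr (c.mem_D_of_same c.U_T hn ?_ ?_)
    · rw [u]
    · rw [v, c.U_conj_z']

/-- In the small case the centraliser of `E` and `T` is `E` up to `T`. -/
theorem D_cases (hsmall : h.CZ = h.L0) {d : G} (hd : d ∈ c.D) : d ∈ c.E ∨ d * c.T ∈ c.E :=
  c.D_L0_cases hd (hsmall.le (c.D_CZ hd))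

/-- No element inverting `z` and fixing the second point centralises the inverter modulo `Z`. -/
theorem no_minus_plus (hsmall : h.CZ = h.L0) {x l : G} (hx : x ∈ h.NZ) (hxT : x * c.T = c.T * x)
    (hxz : x * h.z * x⁻¹ = h.z⁻¹) (hxz' : x * c.z' * x⁻¹ = c.z')
    (hl : l ∈ h.L0) (hlT : l * c.T = c.T * l) (hlz : l * c.z' * l⁻¹ = c.z'⁻¹)
    (hll : l * l * c.T⁻¹ ∈ h.Z) (hxl : x * l * x⁻¹ * l⁻¹ ∈ h.Z)
    (hxx : x * x ∈ h.Z ∨ x * x * c.T ∈ h.Z) : False := by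
  rcases hxx with hxx | hxx
  · refine c.no_anti_involution (σ := x) hx (-1) 1 (by rw [hxz, zpow_neg_one]) (by rw [hxz', zpow_one])
      (by norm_num) (by norm_num) fun q hq => ?_
    rw [show x * (x * q * x⁻¹) * x⁻¹ * q⁻¹ = x * x * q * (x * x)⁻¹ * q⁻¹ by group]
    exact (zpowers_le.2 h.z_mem_A : h.Z ≤ h.A) (h.Q_comm _ ((zpowers_le.2 h.z_mem_Q : h.Z ≤ h.Q) hxx) q hq)
  · set y0 := x * l with hy0
    have hlz0 : l * h.z * l⁻¹ = h.z := mul_inv_eq_iff_eq_mul.2 (h.mem_CZ.1 (h.L0_le_CZ hl))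
    have hy0T : y0 * c.T = c.T * y0 := (Commute.mul_left (show Commute x c.T from hxT) hlT).eq
    have hd : c.W * y0 ∈ c.D := by
      refine c.mem_D.2 ⟨mul_inv_eq_iff_eq_mul.1 ?_, (Commute.mul_left (mul_assoc _ _ _).symm hy0T).eq,
        mul_inv_eq_iff_eq_mul.1 ?_⟩
      · rw [show c.W * y0 * h.z * (c.W * y0)⁻¹ = c.W * (x * (l * h.z * l⁻¹) * x⁻¹) * c.W⁻¹ by
          simp only [y0]; group, hlz0, hxz, ← conj_inv, c.W_z, inv_inv]
      · rw [show c.W * y0 * c.z' * (c.W * y0)⁻¹ = c.W * (x * (l * c.z' * l⁻¹) * x⁻¹) * c.W⁻¹ by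
          simp only [y0]; group, hlz, ← conj_inv, hxz', ← conj_inv, c.W_z', inv_inv]
    -- the square of a member of the coset of `W⁻¹` is `T`
    have hWE : ∀ e ∈ c.E, c.W⁻¹ * e * c.W = e⁻¹ := by
      intro e he
      obtain ⟨a, b, rfl⟩ := c.mem_E_iff.1 he
      have w1 : c.W * (h.z ^ (a : ℕ) * c.z' ^ (b : ℕ))⁻¹ * c.W⁻¹ = h.z ^ (a : ℕ) * c.z' ^ (b : ℕ) := by
        rw [← conj_inv, ← conj_mul, ← conj_pow, ← conj_pow, c.W_z, c.W_z', inv_pow, inv_pow, mul_inv_rev,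
          inv_inv, inv_inv]
        exact h.J_comm _ (pow_mem (show c.z' ∈ h.J from c.z'_mem_E.1) _) _ (pow_mem h.z_mem_J _)
      nth_rewrite 1 [← w1]
      group
    have hsq : ∀ e ∈ c.E, c.W⁻¹ * e * (c.W⁻¹ * e) = c.T := by
      intro e he
      calc c.W⁻¹ * e * (c.W⁻¹ * e) = (c.W⁻¹ * e * c.W) * (c.W * c.W)⁻¹ * e := by group
        _ = e⁻¹ * (c.T * e) := by
            rw [hWE e he, show (c.W * c.W)⁻¹ = c.T from c.T_inv, mul_assoc]
        _ = c.T := by rw [← mem_centralizer_singleton_iff.1 he.2, inv_mul_cancel_left]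
    have hyy : y0 * y0 = c.T := by
      have e0 : y0 = c.W⁻¹ * (c.W * y0) := by group
      rcases c.D_cases hsmall hd with he | he
      · rw [e0]; exact hsq _ he
      · have hTy : Commute y0 c.T := hy0T
        have := hsq _ he
        rw [show c.W⁻¹ * (c.W * y0 * c.T) = y0 * c.T by group, hTy.symm.mul_mul_mul_comm, c.T_sq,
          mul_one] at this
        exact this
    refine c.T_notMem_Q ((zpowers_le.2 h.z_mem_Q : h.Z ≤ h.Q) ?_)
    rw [← hyy]
    have hc2 : l * (x * x * c.T) = (x * x * c.T) * l := by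
      obtain ⟨m, hm⟩ := mem_zpowers_iff.1 hxx
      rw [← hm]
      exact ((show Commute l h.z from h.mem_CZ.1 (h.L0_le_CZ hl)).zpow_right m).eq
    have e : y0 * y0 = (x * l * x⁻¹ * l⁻¹) * ((x * x * c.T) * (l * l * c.T⁻¹)) := by
      calc y0 * y0 = (x * l * x⁻¹ * l⁻¹) * (l * (x * x * c.T) * (c.T⁻¹ * l)) := by
            simp only [y0]; group
        _ = (x * l * x⁻¹ * l⁻¹) * ((x * x * c.T) * l * (l * c.T⁻¹)) := by
            rw [hc2, ((show Commute l c.T from hlT).inv_right).eq]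
        _ = _ := by simp only [mul_assoc]
    rw [e]
    exact mul_mem hxl (mul_mem hxx hll)

end Coords

end CfsgLib.Recog.McLThree
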