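import Cfsg.Agent.Lib.Recog.McLThree.CentTQuot
import Cfsg.Agent.Lib.Classical.ExcIsoPermOdd

/-!
The normaliser of the line of `z` in the central quotient of the centraliser of `T`: a normal copy of the
alternating group of degree five with centraliser the line itself.
-/

set_option autoImplicit false
set_option linter.style.haveILetI false
set_option linter.unusedSectionVars false

namespace CfsgLib.Recog.McLThree

open Subgroup

theorem genPair_ncomm : ∀ a : SL5, a ^ 3 = 1 → a ≠ 1 → ∀ b : SL5, GenPair a b → a * b ≠ b * a := by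
  intro a ha h1 b hb hc
  have h3 : (a * b) ^ 3 = 1 := by rw [(show Commute a b from hc).mul_pow, ha, hb.1, one_mul]
  have h15 : ((a * b) ^ 5) ^ 3 = 1 := by rw [← pow_mul, show 5 * 3 = 3 * 5 from rfl, pow_mul, h3, one_pow]
  rw [hb.2, pow_succ, pow_two, sl_neg_one.2.1, one_mul] at h15
  exact sl_neg_one.1 h15

/-- Only the signs commute with a generating pair. -/
theorem genPair_cent {a b x : SL5} (ha : a ^ 3 = 1) (h1 : a ≠ 1) (hb : GenPair a b)
    (hxa : x * a = a * x) (hxb : x * b = b * x) : x = 1 ∨ x = -1 := by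
  have key : ∀ i : Fin 3, a ^ (i : ℕ) * b = b * a ^ (i : ℕ) → a ^ (i : ℕ) = 1 := by
    intro i hi
    fin_cases i
    · exact pow_zero _
    · exact absurd (by simpa using hi) (genPair_ncomm a ha h1 b hb)
    · refine absurd ?_ (genPair_ncomm a ha h1 b hb)
      have e : a = a ^ 2 * a ^ 2 := by
        rw [← pow_add, show 2 + 2 = 3 + 1 from rfl, pow_succ, ha, one_mul]
      have hc : Commute (a ^ 2) b := hi
      rw [e]; exact (hc.mul_left hc).eq
  obtain ⟨i, rfl | rfl⟩ := cent_three a ha h1 x hxa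
  · exact Or.inl (key i hxb)
  · refine Or.inr ?_
    have : a ^ (i : ℕ) * b = b * a ^ (i : ℕ) := by
      have h2 := congrArg (-1 * ·) hxb
      simp only [← mul_assoc, sl_neg_one.2.1, one_mul] at h2
      rw [h2, sl_neg_one.2.2 b, mul_assoc b, sl_neg_one.2.1, mul_one]
    rw [key i this, mul_one]

/-- The projection of the binary icosahedral group onto the alternating group of degree five. -/
theorem exists_projA5 : ∃ f : SL5 →* alternatingGroup (Fin 5), Function.Surjective f ∧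
    ∀ x : SL5, f x = 1 ↔ x = 1 ∨ x = -1 := by
  obtain ⟨e⟩ := CfsgLib.Classical.psl_two_five_equiv
  refine ⟨e.toMonoidHom.comp (QuotientGroup.mk' (center SL5)),
    e.surjective.comp (QuotientGroup.mk'_surjective _), fun x => ?_⟩
  rw [MonoidHom.comp_apply, MulEquiv.coe_toMonoidHom, EmbeddingLike.map_eq_one_iff]
  refine (QuotientGroup.eq_one_iff x).trans ⟨fun hx => ?_, ?_⟩
  · obtain ⟨a, ha, h1⟩ : ∃ a : SL5, a ^ 3 = 1 ∧ a ≠ 1 := by decide +kernel
    obtain ⟨b, hb⟩ := Finset.card_pos.1 (by rw [genPair_count a ha h1]; norm_num :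
      0 < (Finset.univ.filter fun b => GenPair a b).card)
    exact genPair_cent ha h1 (Finset.mem_filter.1 hb).2 (mem_center_iff.1 hx a).symm
      (mem_center_iff.1 hx b).symm
  · rintro (rfl | rfl)
    · exact one_mem _
    · exact mem_center_iff.2 fun g => (sl_neg_one.2.2 g).symm

variable {G : Type*} [Group G] [Finite G] {h : Hyp G}

namespace Coords

variable (c : Coords h)

/-- The image of `z` in the central quotient. -/
abbrev zb : c.CTbar := c.mkT ⟨h.z, c.E_le_cent c.z_mem_E⟩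

/-- The normaliser of its line. -/
abbrev NZb : Subgroup c.CTbar := normalizer (zpowers c.zb : Set c.CTbar)

theorem conj_of_NZb {n : c.CT} (hn : c.mkT n ∈ c.NZb) : (n : G) ∈ h.NZ := by
  obtain ⟨i, hi⟩ := mem_zpowers_iff.1 ((mem_normalizer_iff.1 hn c.zb).1 (mem_zpowers _))
  set zc : c.CT := ⟨h.z, c.E_le_cent c.z_mem_E⟩
  have e := c.lift_eq (a := n * zc * n⁻¹) (b := zc ^ i)
    (by simp only [zc, Subgroup.coe_mul, Subgroup.coe_inv]; rw [conj_pow, h.z_cube]; simp)
    (by simp only [zc, Subgroup.coe_zpow]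
        rw [← zpow_natCast, ← zpow_mul, mul_comm, zpow_mul, zpow_natCast, h.z_cube, one_zpow])
    (by rw [map_mul, map_mul, map_inv, map_zpow]; exact hi.symm)
  simp only [zc, Subgroup.coe_mul, Subgroup.coe_inv, Subgroup.coe_zpow] at e
  refine mem_normalizer_of_forward fun x hx => ?_
  obtain ⟨j, rfl⟩ := mem_zpowers_iff.1 hx
  rw [← conj_zpow, e, ← zpow_mul]
  exact zpow_mem (mem_zpowers _) _

theorem NZb_of_conj {n : c.CT} (hn : (n : G) ∈ h.NZ) : c.mkT n ∈ c.NZb := by
  refine mem_normalizer_of_forward fun x hx => ?_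
  obtain ⟨j, rfl⟩ := mem_zpowers_iff.1 hx
  rw [← conj_zpow]
  refine zpow_mem ?_ _
  obtain ⟨i, hi⟩ := mem_zpowers_iff.1 ((mem_normalizer_iff.1 hn h.z).1 (mem_zpowers _))
  refine mem_zpowers_iff.2 ⟨i, ?_⟩
  rw [zb, ← map_zpow, ← map_inv, ← map_mul, ← map_mul]
  congr 1
  exact Subtype.ext (by simpa using hi)

variable (K : Subgroup G)

/-- The image of a subgroup of the centraliser of `T` in the normaliser of the line. -/
def Kb (hKle : K ≤ h.L0 ⊓ c.CT) : Subgroup c.NZb :=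
  (c.mkT.comp (inclusion (hKle.trans inf_le_right))).range.subgroupOf c.NZb

/-- The facts on the normaliser of the line feeding the recognition of its isomorphism type. -/
theorem chart_facts (hsmall : h.CZ = h.L0) (hKle : K ≤ h.L0 ⊓ c.CT)
    (hKcard : Nat.card K = 120)
    (hKsup : ∀ x ∈ h.L0, x * c.T = c.T * x → ∃ a ∈ h.Z, ∃ k ∈ K, x = a * k)
    (hKZ : ∀ a ∈ h.Z, a ∈ K → a = 1)
    (hKn : ∀ n ∈ h.NZ, n * c.T = c.T * n → ∀ k ∈ K, n * k * n⁻¹ ∈ K)
    (hTK : c.T ∈ K) :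
    Nat.card c.NZb = 360 ∧ (c.Kb K hKle).Normal ∧
      Nonempty (c.Kb K hKle ≃* alternatingGroup (Fin 5)) ∧
      ∃ z w : c.NZb, (z : c.CTbar) = c.zb ∧ orderOf z = 3 ∧ (∀ k ∈ c.Kb K hKle, z * k = k * z) ∧
        w * z * w⁻¹ = z⁻¹ ∧ centralizer (c.Kb K hKle : Set c.NZb) ≤ zpowers z := by
  classical
  haveI : Fact (Nat.Prime 3) := ⟨by norm_num⟩
  have hKT : K ≤ c.CT := hKle.trans inf_le_right
  have hKL : K ≤ h.L0 := hKle.trans inf_le_left
  -- the projection is a bijection of `K` onto the binary icosahedral group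
  let ρ : K →* SL5 := h.piL.comp (inclusion hKL)
  have hρinj : Function.Injective ρ := by
    rw [injective_iff_map_eq_one]
    intro k hk
    have hq : inclusion hKL k ∈ h.piL.ker := hk
    rw [h.piL_ker, mem_subgroupOf] at hq
    exact Subtype.ext (hKZ _ (c.centQ_T hq (c.mem_cent_T.1 (hKT k.2)).symm) k.2)
  have hρ : Function.Bijective ρ := (Nat.bijective_iff_injective_and_card ρ).2
    ⟨hρinj, by rw [hKcard, card_SL5]⟩
  obtain ⟨hTL, hTpi⟩ := c.T_L0
  have hρT : ρ ⟨c.T, hTK⟩ = -1 := hTpi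
  obtain ⟨b, hb⟩ := c.exists_gen
  obtain ⟨⟨q, hqL⟩, hq, hlT, hlz'⟩ := c.exists_inverter_L0 hb
  set l : h.L0 := ⟨q, hqL⟩ * word ⟨c.z', c.z'_mem_L0⟩ b with hl
  have hll : (l : G) * l * c.T⁻¹ ∈ h.Z := by
    refine c.centQ_T ?_ (((show Commute c.T (l : G) from hlT.symm).mul_right hlT.symm).mul_right
      (Commute.refl c.T).inv_right).eq
    have hk : l * l * (⟨c.T, hTL⟩ : h.L0)⁻¹ ∈ h.piL.ker := by
      have hq1 : h.piL ⟨q, hqL⟩ = 1 := by
        rw [← MonoidHom.mem_ker, h.piL_ker, mem_subgroupOf]; exact hq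
      rw [MonoidHom.mem_ker, map_mul, map_mul, map_inv, hl, map_mul, hq1, one_mul, hTpi, mul_inv_eq_one]
      simp only [word, map_mul]
      exact (genPair_words _ c.a0_facts.1 c.a0_facts.2 _ hb).2.2.1
    rwa [h.piL_ker, mem_subgroupOf] at hk
  obtain ⟨ka, hka⟩ := hρ.2 c.a0
  obtain ⟨kb, hkb⟩ := hρ.2 (h.piL b)
  have hka3 : ka ^ 3 = 1 := hρinj (by rw [map_pow, hka, map_one]; exact c.a0_facts.1)
  have hkb3 : kb ^ 3 = 1 := hρinj (by rw [map_pow, hkb, map_one]; exact hb.1)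
  have hsame : ∀ x : h.L0, (x : G) * c.T = c.T * x → ∀ k : K, h.piL x = ρ k → (x : G) * (k : G)⁻¹ ∈ h.Z := by
    intro x hx k e
    refine c.centQ_T ?_ ((show Commute c.T (x : G) from hx.symm).mul_right
      ((show Commute c.T (k : G) from (c.mem_cent_T.1 (hKT k.2)).symm).inv_right)).eq
    have hk : x * (inclusion hKL k)⁻¹ ∈ h.piL.ker := by
      rw [MonoidHom.mem_ker, map_mul, map_inv, e]; exact mul_inv_cancel _
    rwa [h.piL_ker, mem_subgroupOf] at hk
  -- elements centralising the image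
  let KT : Subgroup c.CTbar := (c.mkT.comp (inclusion hKT)).range
  have hKTN : KT ≤ c.NZb := by
    rintro _ ⟨k, rfl⟩
    exact c.NZb_of_conj (h.CZ_le_NZ (h.L0_le_CZ (hKL k.2)))
  have mem_KT : ∀ x : c.CT, c.mkT x ∈ KT → (x : G) ∈ K := by
    rintro x ⟨k, hk⟩
    rcases c.mem_TN (QuotientGroup.eq.1 hk) with e | e <;>
      simp only [Subgroup.coe_mul, Subgroup.coe_inv, Subgroup.coe_inclusion] at e <;>
      rw [← mul_inv_cancel_left (k : G) (x : G), e]
    · rw [mul_one]; exact k.2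
    · exact mul_mem k.2 hTK
  have hexact : ∀ x : c.CT, ∀ k : K, k ^ 3 = 1 →
      c.mkT x * c.mkT (inclusion hKT k) = c.mkT (inclusion hKT k) * c.mkT x →
      (x : G) * k = k * x := by
    intro x k hk hc
    have hk' : ((k : G)) ^ 3 = 1 := congrArg Subtype.val hk
    have := c.lift_eq (a := x * inclusion hKT k * x⁻¹) (b := inclusion hKT k)
      (by simp only [Subgroup.coe_mul, Subgroup.coe_inv, Subgroup.coe_inclusion]; rw [conj_pow, hk']; simp)
      (by simpa using hk')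
      (by rw [map_mul, map_mul, map_inv, mul_inv_eq_iff_eq_mul]; exact hc)
    exact mul_inv_eq_iff_eq_mul.1 this
  have inner : ∀ x : G, x ∈ h.L0 → x * c.T = c.T * x → x * (ka : G) = ka * x → x * (kb : G) = kb * x →
      x ∈ h.Z ∨ x * c.T ∈ h.Z := by
    intro x hx hxT h1 h2
    obtain ⟨a, ha, k, hk, rfl⟩ := hKsup x hx hxT
    have hcomm : ∀ k' : K, a * k * k' = k' * (a * k) → (⟨k, hk⟩ : K) * k' = k' * ⟨k, hk⟩ := by
      intro k' e
      have hc : (k' : G) * a = a * k' :=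
        mul_inv_eq_iff_eq_mul.1 (h.Z_comm_CZ (h.L0_le_CZ (hKL k'.2)) ha)
      rw [← mul_assoc, hc, mul_assoc, mul_assoc] at e
      exact Subtype.ext (mul_left_cancel e)
    have e1 := congrArg ρ (hcomm ka h1)
    have e2 := congrArg ρ (hcomm kb h2)
    rw [map_mul, map_mul, hka] at e1
    rw [map_mul, map_mul, hkb] at e2
    rcases genPair_cent c.a0_facts.1 c.a0_facts.2 hb e1 e2 with e | e
    · left
      rw [show k = 1 from congrArg Subtype.val (hρinj (e.trans (map_one ρ).symm)), mul_one]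
      exact ha
    · right
      rw [show k = c.T from congrArg Subtype.val (hρinj (e.trans hρT.symm)), mul_assoc, c.T_sq, mul_one]
      exact ha
  have centK : ∀ x : c.CT, c.mkT x ∈ c.NZb →
      c.mkT x * c.mkT (inclusion hKT ka) = c.mkT (inclusion hKT ka) * c.mkT x →
      c.mkT x * c.mkT (inclusion hKT kb) = c.mkT (inclusion hKT kb) * c.mkT x →
      c.mkT x ∈ zpowers c.zb := by
    intro x hxN h1 h2
    have ha := hexact x ka hka3 h1
    have hb' := hexact x kb hkb3 h2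
    have hxT := c.mem_cent_T.1 x.2
    have hxNZ := c.conj_of_NZb hxN
    rcases h.z_conj hxNZ with e | e
    · have hxL : (x : G) ∈ h.L0 := hsmall.le (h.mem_CZ.2 (mul_inv_eq_iff_eq_mul.1 e))
      rcases inner x hxL hxT ha hb' with hz | hz <;> obtain ⟨i, hi⟩ := mem_zpowers_iff.1 hz
      · exact mem_zpowers_iff.2 ⟨i, by rw [zb, ← map_zpow]; congr 1; exact Subtype.ext (by simpa using hi)⟩
      · refine mem_zpowers_iff.2 ⟨i, ?_⟩
        rw [zb, ← map_zpow, show c.mkT x = c.mkT (x * c.Tc) by rw [map_mul, c.mk_T, mul_one]]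
        congr 1
        exact Subtype.ext (by simpa using hi)
    · exfalso
      have hcZ : ∀ y : h.L0, ∀ k : K, (y : G) * (k : G)⁻¹ ∈ h.Z → (x : G) * k = k * x →
          (x : G) * y * (x : G)⁻¹ * (y : G)⁻¹ ∈ h.Z := by
        intro y k hyk hxk
        set a := (y : G) * (k : G)⁻¹
        have hy : (y : G) = a * k := by simp only [a]; group
        rw [hy, show (x : G) * (a * k) * (x : G)⁻¹ * (a * k)⁻¹ =
          ((x : G) * a * (x : G)⁻¹) * ((x : G) * k * (x : G)⁻¹ * (k : G)⁻¹) * a⁻¹ by group, hxk,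
          mul_inv_cancel_right, mul_inv_cancel, mul_one]
        exact mul_mem ((mem_normalizer_iff.1 hxNZ a).1 hyk) (inv_mem hyk)
      have hz'c := hcZ ⟨c.z', c.z'_mem_L0⟩ ka
        (hsame _ (mem_centralizer_singleton_iff.1 c.z'_mem_E.2) ka hka.symm) ha
      have hxz' : (x : G) * c.z' * (x : G)⁻¹ = c.z' := by
        have e' : (x : G) * c.U * h.z * ((x : G) * c.U)⁻¹ = (x : G) * c.z' * (x : G)⁻¹ := by
          simp only [z']; group
        have hE : (x : G) * c.z' * (x : G)⁻¹ ∈ c.E := by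
          have := mul_mem ((zpowers_le.2 c.z_mem_E : h.Z ≤ c.E) hz'c) c.z'_mem_E
          rwa [inv_mul_cancel_right] at this
        have hp := c.points_E (g := (x : G) * c.U) (by rw [e']; exact hE)
        rw [e'] at hp
        rcases hp with e1 | e1 | e1 | e1
        · rw [e1] at hz'c
          exact absurd (by simpa using mul_mem (inv_mem hz'c) (mem_zpowers h.z)) c.z'_notMem_Z
        · rw [e1] at hz'c
          exact absurd (by simpa using mul_mem (inv_mem hz'c) (inv_mem (mem_zpowers h.z))) c.z'_notMem_Z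
        · exact e1
        · exfalso
          rw [e1] at hz'c
          have hd := c.pow_z' (b := -2) (by rw [zpow_neg, zpow_two, mul_inv_rev]; exact hz'c)
          omega
      let kl : K := word ka kb
      have hkl : h.piL l = ρ kl := by
        have hq1 : h.piL ⟨q, hqL⟩ = 1 := by
          rw [← MonoidHom.mem_ker, h.piL_ker, mem_subgroupOf]; exact hq
        rw [hl, map_mul, hq1, one_mul]
        simp only [kl, word, map_mul, hka, hkb]
      have hxkl : (x : G) * kl = kl * x := by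
        have ca : Commute (x : G) (ka : G) := ha
        have cb : Commute (x : G) (kb : G) := hb'
        simp only [kl, word, Subgroup.coe_mul]
        exact (((((((cb.mul_right ca).mul_right ca).mul_right cb).mul_right cb).mul_right ca).mul_right cb)).eq
      have hlc := hcZ l kl (hsame l hlT kl hkl) hxkl
      have hxx : (x : G) * x ∈ h.Z ∨ (x : G) * x * c.T ∈ h.Z := by
        refine inner _ (hsmall.le (h.mem_CZ.2 (mul_inv_eq_iff_eq_mul.1 ?_)))
          (Commute.mul_left (show Commute (x : G) c.T from hxT) hxT).eq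
          (Commute.mul_left (show Commute (x : G) (ka : G) from ha) ha).eq
          (Commute.mul_left (show Commute (x : G) (kb : G) from hb') hb').eq
        rw [show (x : G) * x * h.z * ((x : G) * x)⁻¹ = (x : G) * ((x : G) * h.z * (x : G)⁻¹) * (x : G)⁻¹ by
          group, e, ← conj_inv, e, inv_inv]
      exact c.no_minus_plus hsmall hxNZ hxT e hxz' l.2 hlT hlz' hll hlc hxx
  -- the order
  let wc : c.CT := ⟨c.W, c.W_mem_cent⟩
  have hwN : c.mkT wc ∈ c.NZb := c.NZb_of_conj c.W_NZ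
  have hzN : c.zb ∈ c.NZb := c.NZb_of_conj h.z_mem_NZ
  let zc : h.Z → c.CT := fun a => ⟨a, (zpowers_le.2 (c.E_le_cent c.z_mem_E) : h.Z ≤ c.CT) a.2⟩
  let f : h.Z × KT × Fin 2 → c.NZb := fun t =>
    ⟨c.mkT (zc t.1) * (t.2.1 : c.CTbar) * c.mkT wc ^ (t.2.2 : ℕ),
      mul_mem (mul_mem (c.NZb_of_conj ((zpowers_le.2 h.z_mem_NZ : h.Z ≤ h.NZ) t.1.2)) (hKTN t.2.1.2))
        (pow_mem hwN _)⟩
  have hfix : ∀ (a : h.Z) (k : KT), c.mkT (zc a) * (k : c.CTbar) * c.zb =
      c.zb * (c.mkT (zc a) * (k : c.CTbar)) := by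
    rintro a ⟨_, k, rfl⟩
    show c.mkT (zc a) * c.mkT (inclusion hKT k) * c.zb = c.zb * (c.mkT (zc a) * c.mkT (inclusion hKT k))
    rw [zb, ← map_mul, ← map_mul, ← map_mul]
    congr 1
    exact Subtype.ext (h.mem_CZ.1 (mul_mem ((zpowers_le.2 (h.mem_CZ.2 rfl) : h.Z ≤ h.CZ) a.2)
      (h.L0_le_CZ (hKL k.2))))
  have hwz : c.mkT wc * c.zb * (c.mkT wc)⁻¹ = c.zb⁻¹ := by
    rw [zb, ← map_inv, ← map_inv, ← map_mul, ← map_mul]
    congr 1
    exact Subtype.ext c.W_z
  have hz3 : c.zb ^ 3 = 1 := by rw [zb, ← map_pow]; exact (congrArg c.mkT (Subtype.ext h.z_cube)).trans (map_one _)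
  have hzb1 : c.zb ≠ 1 := fun e => h.z_ne
    (c.lift_eq (a := ⟨h.z, c.E_le_cent c.z_mem_E⟩) (b := 1) h.z_cube (by simp) (e.trans (map_one c.mkT).symm))
  have hzne : c.zb⁻¹ ≠ c.zb := fun e => hzb1 (by
    have h2 : c.zb * c.zb = 1 := by nth_rewrite 1 [← e]; exact inv_mul_cancel _
    rwa [pow_succ, pow_two, h2, one_mul] at hz3)
  have hpar : ∀ (X : c.CTbar), X * c.zb = c.zb * X → ∀ Y : c.CTbar, X * c.mkT wc = Y →
      Y * c.zb * Y⁻¹ = c.zb⁻¹ := by
    rintro X hX _ rfl
    rw [show X * c.mkT wc * c.zb * (X * c.mkT wc)⁻¹ = X * (c.mkT wc * c.zb * (c.mkT wc)⁻¹) * X⁻¹ by group,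
      hwz, ← conj_inv, hX, mul_inv_cancel_right]
  have hfinj : Function.Injective f := by
    rintro ⟨a, k, i⟩ ⟨a', k', i'⟩ e
    have e0 : c.mkT (zc a) * (k : c.CTbar) * c.mkT wc ^ (i : ℕ) =
        c.mkT (zc a') * (k' : c.CTbar) * c.mkT wc ^ (i' : ℕ) := congrArg Subtype.val e
    have hii : i = i' := by
      fin_cases i <;> fin_cases i' <;> first | rfl | skip
      · exfalso
        simp only [pow_zero, mul_one, pow_one] at e0
        have := hpar _ (hfix a' k') _ e0.symm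
        rw [hfix a k, mul_inv_cancel_right] at this
        exact hzne this.symm
      · exfalso
        simp only [pow_zero, mul_one, pow_one] at e0
        have := hpar _ (hfix a k) _ e0
        rw [hfix a' k', mul_inv_cancel_right] at this
        exact hzne this.symm
    subst hii
    have e1 := mul_right_cancel e0
    have hm : c.mkT ((zc a')⁻¹ * zc a) ∈ KT := by
      rw [map_mul, map_inv, show (c.mkT (zc a'))⁻¹ * c.mkT (zc a) = (k' : c.CTbar) * (k : c.CTbar)⁻¹ by
        rw [eq_mul_inv_iff_mul_eq, mul_assoc, e1, inv_mul_cancel_left]]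
      exact mul_mem k'.2 (inv_mem k.2)
    have ha : a = a' := Subtype.ext (inv_mul_eq_one.1
      (hKZ _ (mul_mem (inv_mem a'.2) a.2) (mem_KT _ hm))).symm
    subst ha
    rw [Subtype.ext (mul_left_cancel e1)]
  have hfsurj : Function.Surjective f := by
    rintro ⟨X, hX⟩
    obtain ⟨n, rfl⟩ := QuotientGroup.mk'_surjective c.TN X
    have hnN := c.conj_of_NZb hX
    rcases h.z_conj hnN with e | e
    · obtain ⟨a, ha, k, hk, e'⟩ := hKsup n (hsmall.le (h.mem_CZ.2 (mul_inv_eq_iff_eq_mul.1 e)))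
        (c.mem_cent_T.1 n.2)
      refine ⟨(⟨a, ha⟩, ⟨_, ⟨⟨k, hk⟩, rfl⟩⟩, 0), Subtype.ext ?_⟩
      show c.mkT (zc ⟨a, ha⟩) * c.mkT (inclusion hKT ⟨k, hk⟩) * c.mkT wc ^ 0 = c.mkT n
      rw [pow_zero, mul_one, ← map_mul]
      congr 1
      exact Subtype.ext e'.symm
    · have e2 : c.W⁻¹ * h.z * c.W = h.z⁻¹ := by
        have := congrArg (fun x => c.W⁻¹ * x⁻¹ * c.W) c.W_z
        simpa [mul_assoc] using this.symm
      have hL : (n : G) * c.W⁻¹ ∈ h.L0 := hsmall.le (h.mem_CZ.2 (mul_inv_eq_iff_eq_mul.1 (by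
        rw [show (n : G) * c.W⁻¹ * h.z * ((n : G) * c.W⁻¹)⁻¹ = (n : G) * (c.W⁻¹ * h.z * c.W) * (n : G)⁻¹ by
          group, e2, ← conj_inv, e, inv_inv])))
      obtain ⟨a, ha, k, hk, e'⟩ := hKsup _ hL
        (Commute.mul_left (c.mem_cent_T.1 n.2) (show Commute c.W c.T from (mul_assoc _ _ _).symm).inv_left).eq
      refine ⟨(⟨a, ha⟩, ⟨_, ⟨⟨k, hk⟩, rfl⟩⟩, 1), Subtype.ext ?_⟩
      show c.mkT (zc ⟨a, ha⟩) * c.mkT (inclusion hKT ⟨k, hk⟩) * c.mkT wc ^ 1 = c.mkT n
      rw [pow_one, ← map_mul, ← map_mul]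
      congr 1
      refine Subtype.ext ?_
      show a * k * c.W = (n : G)
      rw [← e', inv_mul_cancel_right]
  obtain ⟨p5, hp5s, hp5k⟩ := exists_projA5
  let ψ : K →* alternatingGroup (Fin 5) := p5.comp ρ
  let μ : K →* c.CTbar := c.mkT.comp (inclusion hKT)
  have hker : μ.ker = ψ.ker := by
    ext k
    rw [MonoidHom.mem_ker, MonoidHom.mem_ker]
    constructor
    · intro hk
      refine (hp5k _).2 ?_
      rcases c.mem_TN ((QuotientGroup.eq_one_iff _).1 hk) with e | e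
      · exact Or.inl (by rw [show k = 1 from Subtype.ext e, map_one])
      · exact Or.inr (by rw [show k = ⟨c.T, hTK⟩ from Subtype.ext e, hρT])
    · intro hk
      rcases (hp5k _).1 hk with e | e
      · rw [hρinj (e.trans (map_one ρ).symm), map_one]
      · rw [hρinj (e.trans hρT.symm)]; exact c.mk_T
  have eA : μ.range ≃* alternatingGroup (Fin 5) :=
    (QuotientGroup.quotientKerEquivRange μ).symm.trans
      ((QuotientGroup.quotientMulEquivOfEq hker).trans
        (QuotientGroup.quotientKerEquivOfSurjective ψ (hp5s.comp hρ.2)))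
  refine ⟨?_, ⟨?_⟩, ⟨(subgroupOfEquivOfLe hKTN).trans eA⟩, ⟨c.zb, hzN⟩, ⟨c.mkT wc, hwN⟩, rfl, ?_, ?_, ?_, ?_⟩
  · rw [← Nat.card_congr (Equiv.ofBijective f ⟨hfinj, hfsurj⟩), Nat.card_prod, Nat.card_prod, h.card_Z,
      Nat.card_fin, show Nat.card KT = 60 from ?_]
    rw [show KT = μ.range from rfl, Nat.card_congr eA.toEquiv, Nat.card_eq_fintype_card]
    decide +kernel
  · rintro ⟨X, hX⟩ hXK ⟨Y, hY⟩
    obtain ⟨k, rfl⟩ := mem_subgroupOf.1 hXK
    obtain ⟨n, rfl⟩ := QuotientGroup.mk'_surjective c.TN Y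
    exact ⟨⟨_, hKn n (c.conj_of_NZb hY) (c.mem_cent_T.1 n.2) k k.2⟩, rfl⟩
  · rw [Subgroup.orderOf_mk]; exact orderOf_eq_prime hz3 hzb1
  · rintro ⟨X, hX⟩ hXK
    obtain ⟨k, rfl⟩ := mem_subgroupOf.1 hXK
    refine Subtype.ext ?_
    show c.zb * c.mkT (inclusion hKT k) = c.mkT (inclusion hKT k) * c.zb
    rw [zb, ← map_mul, ← map_mul]
    congr 1
    exact Subtype.ext (h.mem_CZ.1 (h.L0_le_CZ (hKL k.2))).symm
  · exact Subtype.ext hwz
  · rintro ⟨X, hX⟩ hXc
    obtain ⟨n, rfl⟩ := QuotientGroup.mk'_surjective c.TN X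
    have hk : ∀ k : K, c.mkT n * c.mkT (inclusion hKT k) = c.mkT (inclusion hKT k) * c.mkT n :=
      fun k => congrArg Subtype.val
        (mem_centralizer_iff.1 hXc ⟨_, hKTN ⟨k, rfl⟩⟩ (mem_subgroupOf.2 ⟨k, rfl⟩)).symm
    obtain ⟨i, hi⟩ := mem_zpowers_iff.1 (centK n hX (hk ka) (hk kb))
    exact mem_zpowers_iff.2 ⟨i, Subtype.ext hi⟩

end Coords

end CfsgLib.Recog.McLThree
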