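import Cfsg.Agent.Lib.Recog.McLThree.CentT
import Cfsg.Agent.Lib.Recog.AltEight.TwoLocal
import Cfsg.Agent.Lib.Invol.Dihedral
import Cfsg.Prelude.Def_SporadicB

/-!
The centraliser of `T` modulo `⟨T⟩` satisfies the `3`-local characterisation of the alternating group of
degree eight.
-/

set_option autoImplicit false
set_option linter.style.haveILetI false
set_option linter.unusedSectionVars false

namespace CfsgLib.Recog.McLThree

open Subgroup

variable {G : Type*} [Group G] [Finite G] {h : Hyp G}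

namespace Coords

variable (c : Coords h)

/-- The centraliser of `T`. -/
abbrev CT : Subgroup G := centralizer ({c.T} : Set G)

/-- `T` as a member of its centraliser. -/
abbrev Tc : c.CT := ⟨c.T, c.T_mem_cent⟩

/-- The subgroup generated by `T`. -/
abbrev TN : Subgroup c.CT := zpowers c.Tc

instance TN_normal : c.TN.Normal := ⟨fun x hx g => by
  obtain ⟨n, rfl⟩ := mem_zpowers_iff.1 hx
  rw [← conj_zpow]
  have e : g * c.Tc * g⁻¹ = c.Tc := mul_inv_eq_iff_eq_mul.2 (Subtype.ext (c.mem_cent_T.1 g.2))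
  rw [e]
  exact zpow_mem (mem_zpowers _) n⟩

/-- The central quotient. -/
abbrev CTbar := c.CT ⧸ c.TN

/-- The projection. -/
abbrev mkT : c.CT →* c.CTbar := QuotientGroup.mk' c.TN

theorem mem_TN {x : c.CT} (hx : x ∈ c.TN) : (x : G) = 1 ∨ (x : G) = c.T := by
  obtain ⟨n, rfl⟩ := mem_zpowers_iff.1 hx
  have h2 : (c.Tc : c.CT) ^ (2 : ℤ) = 1 := by rw [zpow_two]; exact Subtype.ext c.T_sq
  obtain ⟨k, rfl | rfl⟩ := Int.even_or_odd' n
  · left; rw [zpow_mul, h2, one_zpow]; rfl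
  · right; rw [zpow_add, zpow_mul, h2, one_zpow, one_mul, zpow_one]

theorem mk_T : c.mkT c.Tc = 1 := (QuotientGroup.eq_one_iff _).2 (mem_zpowers _)

theorem lift_eq {a b : c.CT} (ha : (a : G) ^ 3 = 1) (hb : (b : G) ^ 3 = 1) (e : c.mkT a = c.mkT b) :
    (a : G) = b := by
  rcases c.mem_TN (QuotientGroup.eq.1 e) with h1 | h1 <;> simp only [Subgroup.coe_mul, Subgroup.coe_inv] at h1
  · exact inv_mul_eq_one.1 h1
  · exfalso
    have eb : (b : G) = a * c.T := by rw [← h1, mul_inv_cancel_left]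
    rw [eb, (show Commute (a : G) c.T from c.mem_cent_T.1 a.2).mul_pow, ha, one_mul, pow_succ, pow_two,
      c.T_sq, one_mul] at hb
    exact c.T_ne hb

/-- The inclusion of `E` followed by the projection. -/
abbrev iotaE : c.E →* c.CTbar := c.mkT.comp (inclusion c.E_le_cent)

/-- The image of `E`. -/
abbrev Eb : Subgroup c.CTbar := c.iotaE.range

theorem iotaE_inj : Function.Injective c.iotaE := fun a b e =>
  Subtype.ext (c.lift_eq (h.J_exp _ a.2.1) (h.J_exp _ b.2.1) e)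

theorem card_Eb : Nat.card c.Eb = 9 := by
  rw [← c.card_E]
  exact (Nat.card_congr (MonoidHom.ofInjective c.iotaE_inj).toEquiv).symm

theorem mk_mem_Eb {x : c.CT} (hx : (x : G) ∈ c.E ∨ (x : G) * c.T ∈ c.E) : c.mkT x ∈ c.Eb := by
  rcases hx with hx | hx
  · exact ⟨⟨x, hx⟩, rfl⟩
  · refine ⟨⟨_, hx⟩, ?_⟩
    show c.mkT (x * c.Tc) = c.mkT x
    rw [map_mul, c.mk_T, mul_one]

theorem exists_sylow : ∃ P : Sylow 3 c.CTbar, (P : Subgroup c.CTbar) = c.Eb := by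
  haveI : Fact (Nat.Prime 3) := ⟨by norm_num⟩
  have hp : IsPGroup 3 c.E := IsPGroup.of_card (n := 2) (by rw [c.card_E]; norm_num)
  obtain ⟨P, hP⟩ := (hp.comap_subtype (K := c.CT)).exists_le_sylow
  have hPE : (P : Subgroup c.CT).map c.CT.subtype = c.E :=
    c.three_sub_cent (P.isPGroup'.map _) (map_subtype_le _)
      fun e he => ⟨⟨e, c.E_le_cent he⟩, hP (show _ ∈ c.E.subgroupOf c.CT from he), rfl⟩
  refine ⟨P.mapSurjective (QuotientGroup.mk'_surjective c.TN), ?_⟩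
  ext x
  constructor
  · rintro ⟨p, hp, rfl⟩
    exact c.mk_mem_Eb (Or.inl (hPE.le ⟨p, hp, rfl⟩))
  · rintro ⟨e, rfl⟩
    exact ⟨_, hP (show inclusion c.E_le_cent e ∈ c.E.subgroupOf c.CT from e.2), rfl⟩

theorem forward_of_norm {n : c.CT} (hn : c.mkT n ∈ normalizer (c.Eb : Set c.CTbar)) :
    ∀ e ∈ c.E, (n : G) * e * (n : G)⁻¹ ∈ c.E := by
  intro e he
  obtain ⟨e', he'⟩ := (mem_normalizer_iff.1 hn (c.mkT ⟨e, c.E_le_cent he⟩)).1 ⟨⟨e, he⟩, rfl⟩
  have := c.lift_eq (a := inclusion c.E_le_cent e') (b := n * ⟨e, c.E_le_cent he⟩ * n⁻¹)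
    (h.J_exp _ e'.2.1)
    (by simp only [Subgroup.coe_mul, Subgroup.coe_inv]; rw [conj_pow, h.J_exp _ he.1]; simp)
    (by rw [map_mul, map_mul, map_inv]; exact he')
  simp only [Subgroup.coe_mul, Subgroup.coe_inv, Subgroup.coe_inclusion] at this
  rw [← this]
  exact e'.2

theorem norm_of_forward {n : c.CT} (hn : ∀ e ∈ c.E, (n : G) * e * (n : G)⁻¹ ∈ c.E) :
    c.mkT n ∈ normalizer (c.Eb : Set c.CTbar) := by
  refine mem_normalizer_of_forward ?_
  rintro _ ⟨e, rfl⟩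
  exact ⟨⟨_, hn e e.2⟩, rfl⟩

theorem D_norm (hsmall : h.CZ = h.L0) {d e : G} (hd : d ∈ c.D) (he : e ∈ c.E) : d * e * d⁻¹ = e := by
  rcases c.D_cases hsmall hd with hd' | hd'
  · rw [h.J_comm d hd'.1 e he.1, mul_inv_cancel_right]
  · have h1 := h.J_comm _ hd'.1 e he.1
    have h2 : e * c.T = c.T * e := mem_centralizer_singleton_iff.1 he.2
    refine mul_inv_eq_iff_eq_mul.2 (mul_right_cancel (b := c.T) ?_)
    calc d * e * c.T = d * c.T * e := by rw [mul_assoc d e, h2, ← mul_assoc]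
      _ = e * d * c.T := by rw [h1, mul_assoc]

theorem D_fix {x : c.CT} (hx : c.mkT x ∈ c.Eb) : (x : G) ∈ c.D := by
  obtain ⟨e, he⟩ := hx
  have heD : (e : G) ∈ c.D := c.mem_D.2 ⟨h.z_central (h.J_le e.2.1),
    mem_centralizer_singleton_iff.1 e.2.2, h.J_comm _ e.2.1 _ c.z'_mem_E.1⟩
  have hm : (inclusion c.E_le_cent e)⁻¹ * x ∈ c.TN := QuotientGroup.eq.1 he
  rcases c.mem_TN hm with h1 | h1 <;>
    simp only [Subgroup.coe_mul, Subgroup.coe_inv, Subgroup.coe_inclusion] at h1 <;>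
    rw [← mul_inv_cancel_left (e : G) (x : G), h1]
  · rw [mul_one]; exact heD
  · exact mul_mem heD c.T_mem_D

theorem cent_Eb (hsmall : h.CZ = h.L0) : centralizer (c.Eb : Set c.CTbar) = c.Eb := by
  refine le_antisymm ?_ ?_
  · intro x hx
    obtain ⟨n, rfl⟩ := QuotientGroup.mk'_surjective c.TN x
    have key : ∀ e ∈ c.E, (n : G) * e * (n : G)⁻¹ = e := by
      intro e he
      have := mem_centralizer_iff.1 hx (c.mkT ⟨e, c.E_le_cent he⟩) ⟨⟨e, he⟩, rfl⟩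
      exact c.lift_eq (a := n * ⟨e, c.E_le_cent he⟩ * n⁻¹) (b := ⟨e, c.E_le_cent he⟩)
        (by simp only [Subgroup.coe_mul, Subgroup.coe_inv]; rw [conj_pow, h.J_exp _ he.1]; simp)
        (h.J_exp _ he.1)
        (by rw [map_mul, map_mul, map_inv, mul_inv_eq_iff_eq_mul]; exact this.symm)
    refine c.mk_mem_Eb (c.D_cases hsmall (c.mem_D.2 ⟨?_, c.mem_cent_T.1 n.2, ?_⟩))
    · exact mul_inv_eq_iff_eq_mul.1 (key _ c.z_mem_E)
    · exact mul_inv_eq_iff_eq_mul.1 (key _ c.z'_mem_E)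
  · rintro _ ⟨e, rfl⟩
    refine mem_centralizer_iff.2 ?_
    rintro _ ⟨e', rfl⟩
    rw [← map_mul, ← map_mul, show e' * e = e * e' from Subtype.ext (h.J_comm _ e'.2.1 _ e.2.1)]

theorem exists_eN (hsmall : h.CZ = h.L0) :
    Nonempty (normalizer (c.Eb : Set c.CTbar) ⧸ c.Eb.subgroupOf (normalizer (c.Eb : Set c.CTbar)) ≃*
      DihedralGroup 4) := by
  classical
  set X := normalizer (c.Eb : Set c.CTbar)
  let π : X →* X ⧸ c.Eb.subgroupOf X := QuotientGroup.mk' _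
  obtain ⟨l, hl, hlT, hlz', -⟩ := c.exists_l
  have hlz : l * h.z * l⁻¹ = h.z := mul_inv_eq_iff_eq_mul.2 (h.mem_CZ.1 (h.L0_le_CZ hl))
  let R : c.CT := ⟨l, c.mem_cent_T.2 hlT⟩ * ⟨c.U, c.U_mem_cent⟩
  let Uc : c.CT := ⟨c.U, c.U_mem_cent⟩
  have R1 : (R : G) * h.z * (R : G)⁻¹ = c.z'⁻¹ := by
    show l * c.U * h.z * (l * c.U)⁻¹ = _
    rw [← hlz']; simp only [z']; group
  have R2 : (R : G) * c.z' * (R : G)⁻¹ = h.z := by
    show l * c.U * c.z' * (l * c.U)⁻¹ = _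
    conv_rhs => rw [← hlz, ← c.U_conj_z']
    group
  have U1 : (Uc : G) * h.z * (Uc : G)⁻¹ = c.z' := rfl
  have U2 : (Uc : G) * c.z' * (Uc : G)⁻¹ = h.z := c.U_conj_z'
  have comp : ∀ g k : c.CT, ∀ x x1 x2 : G, (k : G) * x * (k : G)⁻¹ = x1 → (g : G) * x1 * (g : G)⁻¹ = x2 →
      ((g * k : c.CT) : G) * x * ((g * k : c.CT) : G)⁻¹ = x2 := by
    intro g k x x1 x2 e1 e2
    rw [← e2, ← e1]; simp only [Subgroup.coe_mul]; group
  have R1i : (R : G) * c.z'⁻¹ * (R : G)⁻¹ = h.z⁻¹ := by rw [← conj_inv, R2]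
  have R2i : (R : G) * h.z⁻¹ * (R : G)⁻¹ = c.z' := by rw [← conj_inv, R1, inv_inv]
  have S1 := comp R R _ _ _ R1 R1i
  have S2 := comp R R _ _ _ R2 R1
  have T1 := comp R (R * R) _ _ _ S1 R2i
  have T2 := comp R (R * R) _ _ _ S2 R1i
  have F1 := comp R (R * (R * R)) _ _ _ T1 R2
  have F2 := comp R (R * (R * R)) _ _ _ T2 R2i
  have fwd : ∀ n : c.CT, (n : G) * h.z * (n : G)⁻¹ ∈ c.E → (n : G) * c.z' * (n : G)⁻¹ ∈ c.E →
      c.mkT n ∈ X := by
    intro n h1 h2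
    refine c.norm_of_forward fun e he => ?_
    obtain ⟨a, b, rfl⟩ := c.mem_E_iff.1 he
    rw [← conj_mul, ← conj_pow, ← conj_pow]
    exact mul_mem (pow_mem h1 _) (pow_mem h2 _)
  have hR : c.mkT R ∈ X := fwd R (R1 ▸ inv_mem c.z'_mem_E) (R2 ▸ c.z_mem_E)
  have hU : c.mkT Uc ∈ X := fwd Uc (U1 ▸ c.z'_mem_E) (U2 ▸ c.z_mem_E)
  set r := π ⟨c.mkT R, hR⟩
  set s := π ⟨c.mkT Uc, hU⟩
  have same : ∀ g n : c.CT, ∀ (hg : c.mkT g ∈ X) (hn : c.mkT n ∈ X),
      (g : G) * h.z * (g : G)⁻¹ = (n : G) * h.z * (n : G)⁻¹ →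
      (g : G) * c.z' * (g : G)⁻¹ = (n : G) * c.z' * (n : G)⁻¹ →
      π ⟨c.mkT g, hg⟩ = π ⟨c.mkT n, hn⟩ := by
    intro g n hg hn h1 h2
    refine QuotientGroup.eq.2 (mem_subgroupOf.2 ?_)
    exact c.mk_mem_Eb (x := g⁻¹ * n)
      (c.D_cases hsmall (c.mem_D_of_same (c.mem_cent_T.1 g.2) (c.mem_cent_T.1 n.2) h1 h2))
  have moved : ∀ n : c.CT, ∀ (hn : c.mkT n ∈ X), π ⟨c.mkT n, hn⟩ = 1 →
      (n : G) * h.z * (n : G)⁻¹ = h.z := by
    intro n hn e
    exact mul_inv_eq_iff_eq_mul.2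
      (c.mem_D.1 (c.D_fix (mem_subgroupOf.1 ((QuotientGroup.eq_one_iff _).1 e)))).1
  have pR : ∀ n : c.CT, ∀ (hn : c.mkT n ∈ X), π ⟨c.mkT n, hn⟩ * r =
      π ⟨c.mkT (n * R), by rw [map_mul]; exact mul_mem hn hR⟩ := fun n hn => (map_mul π _ _).symm
  have hr2 : r * r = π ⟨c.mkT (R * R), by rw [map_mul]; exact mul_mem hR hR⟩ := pR R hR
  have hr4 : r ^ 4 = 1 := by
    have hR2m : c.mkT (R * R) ∈ X := by rw [map_mul]; exact mul_mem hR hR
    have e : r ^ 4 = π ⟨c.mkT (R * (R * (R * R))), by rw [map_mul, map_mul]; exact mul_mem hR (mul_mem hR hR2m)⟩ := by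
      rw [show (4 : ℕ) = 3 + 1 from rfl, pow_succ', pow_succ', pow_succ, pow_one, hr2]
      exact (congrArg (r * ·) (map_mul π _ _).symm).trans (map_mul π _ _).symm
    have h1m : c.mkT 1 ∈ X := by rw [map_one]; exact one_mem _
    rw [e, same _ 1 _ h1m (by rw [F1]; simp) (by rw [F2]; simp)]
    exact (congrArg π (Subtype.ext (map_one c.mkT))).trans (map_one π)
  have hr2ne : r ^ 2 ≠ 1 := by
    rw [pow_two, hr2]
    intro e
    have := moved _ _ e
    rw [S1] at this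
    exact h.z_ne_inv this.symm
  haveI : Fact (Nat.Prime 2) := ⟨by norm_num⟩
  have hord : orderOf r = 4 := orderOf_eq_prime_pow (p := 2) (n := 1) hr2ne hr4
  have hs2 : s ^ 2 = 1 := by
    rw [pow_two]
    refine ((map_mul π _ _).symm.trans ?_)
    refine Eq.trans (congrArg π (Subtype.ext ?_)) (map_one π)
    show c.mkT Uc * c.mkT Uc = 1
    rw [← map_mul, show Uc * Uc = 1 from Subtype.ext c.U_sq, map_one]
  have hs1 : s ≠ 1 := fun e => c.z'_ne_z.1 ((U1.symm.trans (moved _ _ e)))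
  have hso : orderOf s = 2 := orderOf_eq_prime hs2 hs1
  have hsr : s * r * s⁻¹ = r⁻¹ := by
    refine eq_inv_of_mul_eq_one_left ?_
    rw [show s⁻¹ = s from inv_eq_of_mul_eq_one_right (by rw [← pow_two, hs2])]
    have hURU : c.mkT (Uc * R * Uc) ∈ X := by rw [map_mul, map_mul]; exact mul_mem (mul_mem hU hR) hU
    have e : s * r * s = π ⟨c.mkT (Uc * R * Uc), hURU⟩ := by
      rw [← map_mul, ← map_mul]; rfl
    have h1m : c.mkT 1 ∈ X := by rw [map_one]; exact one_mem _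
    have U1i : (Uc : G) * c.z'⁻¹ * (Uc : G)⁻¹ = h.z⁻¹ := by rw [← conj_inv, U2]
    have A1 := comp (Uc * R * Uc) R _ _ _ R1 (comp (Uc * R) Uc _ _ _ U1i (comp Uc R _ _ _ R2i U2))
    have A2 := comp (Uc * R * Uc) R _ _ _ R2 (comp (Uc * R) Uc _ _ _ U1 (comp Uc R _ _ _ R2 U1))
    rw [e, pR, same _ 1 _ h1m (by rw [A1]; simp) (by rw [A2]; simp)]
    exact (congrArg π (Subtype.ext (map_one c.mkT))).trans (map_one π)
  have hnot : s ∉ zpowers r := by
    intro hmem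
    rw [mem_zpowers_iff_mem_range_orderOf, hord] at hmem
    obtain ⟨k, hk, e⟩ := Finset.mem_image.1 hmem
    rw [Finset.mem_range] at hk
    have hUR : ∀ g : c.CT, ∀ (hg : c.mkT g ∈ X), π ⟨c.mkT g, hg⟩ = s → (g : G) * c.z' * (g : G)⁻¹ = h.z ∧
        (g : G) * h.z * (g : G)⁻¹ = c.z' := by
      intro g hg e
      have hd := c.D_fix (x := g⁻¹ * Uc) (mem_subgroupOf.1 (QuotientGroup.eq.1 e))
      obtain ⟨d1, -, d2⟩ := c.mem_D.1 hd
      simp only [Subgroup.coe_mul, Subgroup.coe_inv] at d1 d2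
      constructor
      · calc (g : G) * c.z' * (g : G)⁻¹ = (g : G) * (c.z' * ((g : G)⁻¹ * c.U)) * c.U⁻¹ := by group
          _ = (g : G) * ((g : G)⁻¹ * c.U * c.z') * c.U⁻¹ := by rw [d2]
          _ = c.U * c.z' * c.U⁻¹ := by group
          _ = h.z := c.U_conj_z'
      · calc (g : G) * h.z * (g : G)⁻¹ = (g : G) * (h.z * ((g : G)⁻¹ * c.U)) * c.U⁻¹ := by group
          _ = (g : G) * ((g : G)⁻¹ * c.U * h.z) * c.U⁻¹ := by rw [d1]
          _ = c.z' := by simp only [z']; group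
    interval_cases k
    · exact hs1 (e.symm.trans (pow_zero r))
    · have := (hUR R hR ((pow_one r).symm.trans e)).2
      rw [R1] at this
      exact c.z'_notMem_Q (by
        have h' : c.z' * c.z' = 1 := mul_eq_one_iff_eq_inv.2 this.symm
        have h3' := c.z'_cube
        rw [pow_succ, pow_two, h', one_mul] at h3'
        rw [h3']; exact one_mem _)
    · have := (hUR (R * R) (by rw [map_mul]; exact mul_mem hR hR) (by rw [← hr2, ← pow_two]; exact e)).2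
      rw [S1] at this
      exact c.z'_ne_z.2 this.symm
    · have hm : c.mkT (R * (R * R)) ∈ X := by rw [map_mul, map_mul]; exact mul_mem hR (mul_mem hR hR)
      have := (hUR _ hm (by
        rw [← e, pow_succ', pow_two, hr2]
        exact map_mul π ⟨c.mkT R, hR⟩ ⟨c.mkT (R * R), by rw [map_mul]; exact mul_mem hR hR⟩)).1
      rw [T2] at this
      exact h.z_ne_inv this.symm
  obtain ⟨eD⟩ := CfsgLib.Invol.exists_mulEquiv_dihedral hord hso hsr hnot
  -- generation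
  have hgen : closure ({r, s} : Set _) = ⊤ := by
    refine eq_top_iff.2 fun q _ => ?_
    obtain ⟨⟨x, hx⟩, rfl⟩ := QuotientGroup.mk'_surjective _ q
    obtain ⟨n, rfl⟩ := QuotientGroup.mk'_surjective c.TN x
    have hrm : r ∈ closure ({r, s} : Set _) := Subgroup.subset_closure (Set.mem_insert _ _)
    have hsm : s ∈ closure ({r, s} : Set _) := Subgroup.subset_closure (Set.mem_insert_of_mem _ rfl)
    let K : Subgroup c.CT := (closure ({r, s} : Set _)).comap π |>.map X.subtype |>.comap c.mkT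
    have hKR : R ∈ K := ⟨⟨c.mkT R, hR⟩, hrm, rfl⟩
    have hKU : Uc ∈ K := ⟨⟨c.mkT Uc, hU⟩, hsm, rfl⟩
    have fin : ∀ g ∈ K, (g : G) * h.z * (g : G)⁻¹ = (n : G) * h.z * (n : G)⁻¹ →
        (g : G) * c.z' * (g : G)⁻¹ = (n : G) * c.z' * (n : G)⁻¹ →
        π ⟨c.mkT n, hx⟩ ∈ closure ({r, s} : Set _) := by
      rintro g ⟨⟨y, hy⟩, hy', hyg⟩ h1 h2
      have hgX : c.mkT g ∈ X := hyg ▸ hy
      rw [← same g n hgX hx h1 h2, show (⟨c.mkT g, hgX⟩ : X) = ⟨y, hy⟩ from Subtype.ext hyg.symm]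
      exact hy'
    obtain ⟨ε, η, hε, hη, hc⟩ := c.conj_points (c.forward_of_norm hx)
    rcases hε with rfl | rfl <;> rcases hη with rfl | rfl <;>
      simp only [zpow_one, zpow_neg_one] at hc <;> rcases hc with ⟨u, v⟩ | ⟨u, v⟩
    · exact fin 1 (one_mem _) (by rw [u]; simp) (by rw [v]; simp)
    · exact fin Uc hKU (U1.trans u.symm) (U2.trans v.symm)
    · exact fin (Uc * (R * (R * R))) (mul_mem hKU (mul_mem hKR (mul_mem hKR hKR)))
        ((comp Uc _ _ _ _ T1 U2).trans u.symm)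
        ((comp Uc _ _ _ _ T2 (by rw [← conj_inv, U1] : (Uc : G) * h.z⁻¹ * (Uc : G)⁻¹ = c.z'⁻¹)).trans v.symm)
    · exact fin (R * (R * R)) (mul_mem hKR (mul_mem hKR hKR)) (T1.trans u.symm) (T2.trans v.symm)
    · exact fin (Uc * R) (mul_mem hKU hKR)
        ((comp Uc R _ _ _ R1 (by rw [← conj_inv, U2] : (Uc : G) * c.z'⁻¹ * (Uc : G)⁻¹ = h.z⁻¹)).trans u.symm)
        ((comp Uc R _ _ _ R2 U1).trans v.symm)
    · exact fin R hKR (R1.trans u.symm) (R2.trans v.symm)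
    · exact fin (R * R) (mul_mem hKR hKR) (S1.trans u.symm) (S2.trans v.symm)
    · exact fin (Uc * (R * R)) (mul_mem hKU (mul_mem hKR hKR))
        ((comp Uc _ _ _ _ S1 (by rw [← conj_inv, U1] : (Uc : G) * h.z⁻¹ * (Uc : G)⁻¹ = c.z'⁻¹)).trans u.symm)
        ((comp Uc _ _ _ _ S2 (by rw [← conj_inv, U2] : (Uc : G) * c.z'⁻¹ * (Uc : G)⁻¹ = h.z⁻¹)).trans v.symm)
  exact ⟨(topEquiv.symm.trans (MulEquiv.subgroupCongr hgen.symm)).trans eD⟩

theorem cent_yb (hy : centralizer ({c.y} : Set G) ≤ normalizer (h.J : Set G)) (hsmall : h.CZ = h.L0) :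
    Nat.card (centralizer ({c.mkT ⟨c.y, c.E_le_cent c.y_mem_E⟩} : Set c.CTbar)) = 18 ∧
      (c.Eb.subgroupOf (centralizer ({c.mkT ⟨c.y, c.E_le_cent c.y_mem_E⟩} : Set c.CTbar))).Normal := by
  set yc : c.CT := ⟨c.y, c.E_le_cent c.y_mem_E⟩
  set C := centralizer ({c.mkT yc} : Set c.CTbar)
  let Uc : c.CT := ⟨c.U, c.U_mem_cent⟩
  have hUy : c.U * c.y * c.U⁻¹ = c.y := by
    show c.U * (h.z * c.z') * c.U⁻¹ = h.z * c.z'
    rw [← conj_mul, c.U_conj_z']
    exact h.J_comm _ c.z'_mem_E.1 _ h.z_mem_J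
  have hlift : ∀ n : c.CT, c.mkT n ∈ C → (n : G) * c.y * (n : G)⁻¹ = c.y := by
    intro n hn
    rw [mem_centralizer_singleton_iff] at hn
    exact c.lift_eq (a := n * yc * n⁻¹) (b := yc)
      (by simp only [yc, Subgroup.coe_mul, Subgroup.coe_inv]; rw [conj_pow, h.J_exp _ c.y_mem_J]; simp)
      (h.J_exp _ c.y_mem_J)
      (by rw [map_mul, map_mul, map_inv, mul_inv_eq_iff_eq_mul]; exact hn)
  have hUc : c.mkT Uc ∈ C := by
    rw [mem_centralizer_singleton_iff, ← map_mul, ← map_mul]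
    congr 1
    exact Subtype.ext (mul_inv_eq_iff_eq_mul.1 hUy)
  have hEC : c.Eb ≤ C := by
    rintro _ ⟨e, rfl⟩
    rw [mem_centralizer_singleton_iff, MonoidHom.comp_apply, ← map_mul, ← map_mul]
    congr 1
    exact Subtype.ext (h.J_comm _ e.2.1 _ c.y_mem_J)
  have hUE : ∀ e ∈ c.E, c.U * e * c.U⁻¹ ∈ c.E := by
    intro e he
    obtain ⟨a, b, rfl⟩ := c.mem_E_iff.1 he
    rw [← conj_mul, ← conj_pow, ← conj_pow, c.U_conj_z']
    exact mul_mem (pow_mem c.z'_mem_E _) (pow_mem c.z_mem_E _)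
  constructor
  · let f : c.E × Fin 2 → C := fun t =>
      ⟨c.iotaE t.1 * c.mkT Uc ^ (t.2 : ℕ), mul_mem (hEC ⟨t.1, rfl⟩) (pow_mem hUc _)⟩
    have hnU : c.mkT Uc ∉ c.Eb := fun hm => by
      have := (c.mem_D.1 (c.D_fix hm)).1
      exact c.z'_ne_z.1 (mul_inv_eq_iff_eq_mul.2 this)
    have hinj : Function.Injective f := by
      rintro ⟨e, i⟩ ⟨e', i'⟩ hf
      have e0 : c.iotaE e * c.mkT Uc ^ (i : ℕ) = c.iotaE e' * c.mkT Uc ^ (i' : ℕ) :=
        congrArg Subtype.val hf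
      fin_cases i <;> fin_cases i' <;> simp only [pow_zero, pow_one, mul_one] at e0
      · rw [c.iotaE_inj e0]
      · exact absurd (⟨e'⁻¹ * e, by rw [map_mul, map_inv, e0, inv_mul_cancel_left]⟩ : c.mkT Uc ∈ c.Eb) hnU
      · exact absurd (⟨e⁻¹ * e', by rw [map_mul, map_inv, ← e0, inv_mul_cancel_left]⟩ : c.mkT Uc ∈ c.Eb) hnU
      · rw [c.iotaE_inj (mul_right_cancel e0)]
    have hsurj : Function.Surjective f := by
      rintro ⟨x, hx⟩
      obtain ⟨n, rfl⟩ := QuotientGroup.mk'_surjective c.TN x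
      rcases c.centY_cases hy (c.mem_cent_T.1 n.2) (hlift n hx) with hd | hd
      · obtain ⟨e, he⟩ := c.mk_mem_Eb (c.D_cases hsmall hd)
        exact ⟨(e, 0), Subtype.ext (by show c.iotaE e * c.mkT Uc ^ 0 = _; rw [pow_zero, mul_one, he])⟩
      · obtain ⟨e, he⟩ := c.mk_mem_Eb (x := Uc⁻¹ * n) (c.D_cases hsmall hd)
        refine ⟨(⟨_, hUE e e.2⟩, 1), Subtype.ext ?_⟩
        show c.mkT (Uc * inclusion c.E_le_cent e * Uc⁻¹) * c.mkT Uc ^ 1 = c.mkT n
        rw [pow_one, ← map_mul, inv_mul_cancel_right, map_mul]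
        show c.mkT Uc * c.iotaE e = c.mkT n
        rw [he, map_mul, map_inv, mul_inv_cancel_left]
    rw [← Nat.card_congr (Equiv.ofBijective f ⟨hinj, hsurj⟩), Nat.card_prod, c.card_E, Nat.card_fin]
  · refine ⟨?_⟩
    rintro ⟨x, hx⟩ hxE ⟨g, hg⟩
    obtain ⟨n, rfl⟩ := QuotientGroup.mk'_surjective c.TN g
    obtain ⟨e, rfl⟩ := mem_subgroupOf.1 hxE
    have hne : (n : G) * e * (n : G)⁻¹ ∈ c.E := by
      rcases c.centY_cases hy (c.mem_cent_T.1 n.2) (hlift n hg) with hd | hd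
      · rw [c.D_norm hsmall hd e.2]; exact e.2
      · rw [show (n : G) * e * (n : G)⁻¹ = c.U * (c.U⁻¹ * n * e * (c.U⁻¹ * n)⁻¹) * c.U⁻¹ by group,
          c.D_norm hsmall hd e.2]
        exact hUE e e.2
    exact ⟨⟨_, hne⟩, rfl⟩

/-- The central quotient is alternating of degree eight, given the normaliser of the line of `z`. -/
theorem cover_of_chart (hy : centralizer ({c.y} : Set G) ≤ normalizer (h.J : Set G))
    (hsmall : h.CZ = h.L0)
    (eL : normalizer (zpowers (c.mkT ⟨h.z, c.E_le_cent c.z_mem_E⟩) : Set c.CTbar) ≃*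
      (((Equiv.Perm.sign).comp (MonoidHom.fst (Equiv.Perm (Fin 3)) (Equiv.Perm (Fin 5)))) *
        ((Equiv.Perm.sign).comp (MonoidHom.snd (Equiv.Perm (Fin 3)) (Equiv.Perm (Fin 5))))).ker) :
    Cfsg.IsNonsplitDoubleCover c.CT (alternatingGroup (Fin 8)) := by
  obtain ⟨P, hP⟩ := c.exists_sylow
  obtain ⟨eN⟩ := c.exists_eN hsmall
  obtain ⟨hycard, hyn⟩ := c.cent_yb hy hsmall
  set yb := c.mkT ⟨c.y, c.E_le_cent c.y_mem_E⟩
  set zb := c.mkT ⟨h.z, c.E_le_cent c.z_mem_E⟩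
  have hgen : closure {yb, zb} = c.Eb := by
    refine le_antisymm ((closure_le _).2 ?_) ?_
    · rintro _ (rfl | rfl)
      · exact ⟨⟨c.y, c.y_mem_E⟩, rfl⟩
      · exact ⟨⟨h.z, c.z_mem_E⟩, rfl⟩
    · rintro _ ⟨e, rfl⟩
      have hK : c.E ≤ ((closure ({yb, zb} : Set c.CTbar)).comap c.mkT).map c.CT.subtype := by
        intro x hx
        obtain ⟨a, b, rfl⟩ := c.mem_E_iff.1 hx
        set K := ((closure ({yb, zb} : Set c.CTbar)).comap c.mkT).map c.CT.subtype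
        have hz : h.z ∈ K :=
          ⟨⟨h.z, c.E_le_cent c.z_mem_E⟩, Subgroup.subset_closure (Set.mem_insert_of_mem _ rfl), rfl⟩
        have hy' : c.y ∈ K := ⟨⟨c.y, c.E_le_cent c.y_mem_E⟩, Subgroup.subset_closure (Set.mem_insert _ _), rfl⟩
        have hz' : c.z' ∈ K := by
          have := mul_mem (inv_mem hz) hy'
          rwa [show h.z⁻¹ * c.y = c.z' from inv_mul_cancel_left _ _] at this
        exact mul_mem (pow_mem hz _) (pow_mem hz' _)
      obtain ⟨x, hx, hxe⟩ := hK e.2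
      have : x = inclusion c.E_le_cent e := Subtype.ext hxe
      subst this
      exact hx
  have hexp : ∀ a ∈ c.Eb, a ^ 3 = 1 := by
    rintro _ ⟨e, rfl⟩
    rw [← map_pow, show e ^ 3 = 1 from Subtype.ext (h.J_exp _ e.2.1), map_one]
  have hcomm : IsMulCommutative c.Eb := ⟨⟨by
    rintro ⟨_, e, rfl⟩ ⟨_, e', rfl⟩
    exact Subtype.ext (by
      show c.iotaE e * c.iotaE e' = c.iotaE e' * c.iotaE e
      rw [← map_mul, ← map_mul, show e * e' = e' * e from Subtype.ext (h.J_comm _ e.2.1 _ e'.2.1)])⟩⟩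
  obtain ⟨φ, ψ, d⟩ := CfsgLib.Recog.AltEight.exists_data P c.Eb hP.symm yb zb hgen c.card_Eb hexp hcomm
    (c.cent_Eb hsmall) eN hycard hyn eL
  obtain ⟨ψ', d', hl⟩ := d.exists_link
  obtain ⟨Φ, hg⟩ := d'.exists_glued hl
  obtain ⟨e8⟩ := hg.nonempty_mulEquiv
  have hcen : center c.CT = c.TN := by
    refine le_antisymm (fun x hx => ?_) (zpowers_le.2 ?_)
    · have hx' : e8 (c.mkT x) ∈ center (alternatingGroup (Fin 8)) := by
        rw [mem_center_iff]
        intro a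
        obtain ⟨g, rfl⟩ := e8.surjective a
        obtain ⟨n, rfl⟩ := QuotientGroup.mk'_surjective c.TN g
        rw [← map_mul, ← map_mul, ← map_mul, ← map_mul, mem_center_iff.1 hx n]
      rw [alternatingGroup.center_eq_bot (by simp), mem_bot, EmbeddingLike.map_eq_one_iff] at hx'
      exact (QuotientGroup.eq_one_iff _).1 hx'
    · exact mem_center_iff.2 fun g => Subtype.ext (c.mem_cent_T.1 g.2)
  refine ⟨?_, ⟨(QuotientGroup.quotientMulEquivOfEq hcen).trans e8⟩, fun L hL => ?_⟩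
  · rw [hcen, Nat.card_zpowers]
    exact orderOf_eq_prime (by rw [pow_two]; exact Subtype.ext c.T_sq)
      fun e => c.T_ne (congrArg Subtype.val e)
  · obtain ⟨⟨⟨t, ht⟩, ⟨a, ha⟩⟩, hta⟩ := hL.surjective (⟨c.W, c.W_mem_cent⟩ : c.CT)
    have hta' : t * a = (⟨c.W, c.W_mem_cent⟩ : c.CT) := hta
    have ht2 : t * t = 1 := by
      rcases c.mem_TN (hcen.le ht) with e | e
      · exact Subtype.ext (by simp [e])
      · exact Subtype.ext (by simp only [Subgroup.coe_mul, e]; exact c.T_sq)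
    have hTL : c.Tc ∈ L := by
      have hc : Commute a t := mem_center_iff.1 ht a
      have e : c.Tc = a * a := by
        calc c.Tc = t * a * (t * a) := by rw [hta']; exact Subtype.ext rfl
          _ = a * a := by rw [hc.mul_mul_mul_comm, ht2, one_mul]
      rw [e]; exact mul_mem ha ha
    have := hL.disjoint.le_bot (show c.Tc ∈ center c.CT ⊓ L from ⟨hcen.ge (mem_zpowers _), hTL⟩)
    exact c.T_ne (congrArg Subtype.val (mem_bot.1 this))

end Coords

end CfsgLib.Recog.McLThree
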