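import Cfsg.Agent.Lib.Recog.McLThree.Points

/-!
The centraliser of an element of `J` that is not a conjugate of `z` normalises `J`, when its `3`-core
contains its own centraliser.
-/

set_option autoImplicit false
set_option linter.style.haveILetI false
set_option linter.unusedSectionVars false

namespace CfsgLib.Recog.McLThree

open Subgroup

variable {G : Type*} [Group G] [Finite G] {h : Hyp G}

/-- The `3`-core of a centraliser. -/
abbrev core3 (x : G) : Subgroup G :=
  (Cfsg.pCore 3 (centralizer ({x} : Set G))).map (centralizer ({x} : Set G)).subtype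

theorem core3_conj {x ρ g : G} (hg : g ∈ centralizer ({x} : Set G)) (hρ : ρ ∈ core3 x) :
    g * ρ * g⁻¹ ∈ core3 x := by
  obtain ⟨y, hy, rfl⟩ := hρ
  exact ⟨_, CfsgLib.Amalgam.normal_pCore.conj_mem y hy ⟨g, hg⟩, rfl⟩

theorem le_core3 {x : G} {K : Subgroup G} (hK : K ≤ centralizer ({x} : Set G))
    (hn : ∀ g ∈ centralizer ({x} : Set G), ∀ k ∈ K, g * k * g⁻¹ ∈ K) (hp : IsPGroup 3 K) :
    K ≤ core3 x := by
  intro k hk
  have hnorm : (K.subgroupOf (centralizer ({x} : Set G))).Normal := ⟨fun a ha g => hn g g.2 a ha⟩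
  exact ⟨⟨k, hK hk⟩, CfsgLib.Amalgam.le_pCore hnorm hp.comap_subtype (mem_subgroupOf.2 hk), rfl⟩

theorem core3_isPGroup (x : G) : IsPGroup 3 (core3 x) := CfsgLib.Amalgam.isPGroup_pCore.map _

theorem Hyp.conj_L0 (h : Hyp G) {g k : G} (hg : g ∈ h.NZ) (hk : k ∈ h.L0) :
    g * k * g⁻¹ ∈ h.L0 := by
  rw [h.L0_eq] at hk ⊢
  induction hk using closure_induction with
  | mem a ha =>
    refine subset_closure ⟨mul_mem (mul_mem hg ha.1) (inv_mem hg), ?_⟩
    obtain ⟨m, hm⟩ := ha.2
    exact ⟨m, by rw [← hm]; exact MulEquiv.orderOf_eq (MulAut.conj g) a⟩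
  | one => simp
  | mul a b _ _ ha hb => rw [← conj_mul]; exact mul_mem ha hb
  | inv a _ ha => rw [← conj_inv]; exact inv_mem ha

namespace Coords

variable (c : Coords h)
include c

theorem conj_z_in_A {g : G} (hg : g * h.z * g⁻¹ ∈ h.A) : g * h.z * g⁻¹ ∈ h.Z := by
  rcases c.points_J hg.1 with e | e | ⟨s, hs, e | e⟩
  · rw [e]; exact mem_zpowers _
  · rw [e]; exact inv_mem (mem_zpowers _)
  · exfalso
    rw [e] at hg
    have h1 := mul_mem (inv_mem (c.comm_z' hs)) hg
    rw [show (s * c.z' * s⁻¹ * c.z'⁻¹)⁻¹ * (s * c.z' * s⁻¹) = c.z' from by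
      rw [mul_inv_rev, inv_inv, mul_assoc, inv_mul_cancel, mul_one]] at h1
    exact c.z'_notMem_Q h1.2
  · exfalso
    rw [e, ← conj_inv] at hg
    have h1 := mul_mem (inv_mem (c.comm_z' hs)) (inv_mem_iff.1 hg)
    rw [show (s * c.z' * s⁻¹ * c.z'⁻¹)⁻¹ * (s * c.z' * s⁻¹) = c.z' from by
      rw [mul_inv_rev, inv_inv, mul_assoc, inv_mul_cancel, mul_one]] at h1
    exact c.z'_notMem_Q h1.2

/-- The centraliser in `J` of an element of `S` outside `J` has order at most nine and lies in `A`. -/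
theorem cent_in_J {e : G} (he : e ∈ (h.S : Subgroup G)) (heJ : e ∉ h.J) :
    h.J ⊓ centralizer ({e} : Set G) ≤ h.A ∧
      Nat.card ↥(h.J ⊓ centralizer ({e} : Set G)) ≤ 9 := by
  obtain ⟨j, hj, q, hq, rfl⟩ := h.exists_mul he
  have hqA : q ∉ h.A := fun ha => heJ (mul_mem hj ha.1)
  have hcomm : ∀ u ∈ h.J ⊓ centralizer ({j * q} : Set G), u * q = q * u := by
    rintro u ⟨hu, hu'⟩
    have h1 : u * (j * q) = j * q * u := mem_centralizer_singleton_iff.1 hu'
    rw [← mul_assoc, h.J_comm u hu j hj, mul_assoc, mul_assoc] at h1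
    exact mul_left_cancel h1
  have hle : h.J ⊓ centralizer ({j * q} : Set G) ≤ h.A := fun u hu => by
    refine ⟨hu.1, ?_⟩
    by_contra hun
    exact hqA (h.fix_j hu.1 hun hq (by rw [hcomm u hu]; simp))
  refine ⟨hle, ?_⟩
  obtain ⟨k, -, hk⟩ := h.card_three_pow (hle.trans (inf_le_left.trans h.J_le))
  have h27 : Nat.card ↥(h.J ⊓ centralizer ({j * q} : Set G)) < 27 := by
    refine lt_of_le_of_ne (h.card_A ▸ Subgroup.card_le_of_le hle) fun e => hqA ?_
    have heq := Subgroup.eq_of_le_of_card_ge hle (by rw [h.card_A, e])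
    exact h.centQ_A hq fun a ha => (hcomm a (heq.ge ha)).symm
  rw [hk] at h27 ⊢
  have hk2 : k ≤ 2 := by
    by_contra hc
    have : 3 ^ 3 ≤ 3 ^ k := Nat.pow_le_pow_right (by norm_num) (by omega)
    omega
  calc 3 ^ k ≤ 3 ^ 2 := Nat.pow_le_pow_right (by norm_num) hk2
    _ = 9 := by norm_num

/-- The main step: the core lies in the fixed Sylow subgroup. -/
theorem cent_le_aux {x : G} (hxJ : x ∈ h.J) (hxZ : x ∉ h.Z)
    (hiii : centralizer (core3 x : Set G) ≤ core3 x) (hRS : core3 x ≤ h.S) :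
    centralizer ({x} : Set G) ≤ normalizer (h.J : Set G) := by
  classical
  set C := centralizer ({x} : Set G) with hC
  set R := core3 x with hR
  have hJC : h.J ≤ C := fun u hu => mem_centralizer_singleton_iff.2 (h.J_comm u hu x hxJ)
  have hRC : R ≤ C := map_subtype_le _
  have done : ∀ P : Subgroup G, IsPGroup 3 P → h.J ≤ P → (∀ g ∈ C, ∀ k ∈ P, g * k * g⁻¹ ∈ P) →
      C ≤ normalizer (h.J : Set G) := by
    intro P hP hJP hPn g hg
    have e : h.J.map (MulAut.conj g).toMonoidHom = h.J := by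
      refine h.unique_J hP hJP ?_ ?_ ?_
      · rintro _ ⟨u, hu, rfl⟩; exact hPn g hg u (hJP hu)
      · rintro _ ⟨a, ha, rfl⟩ _ ⟨b, hb, rfl⟩
        rw [← map_mul, h.J_comm a ha b hb, map_mul]
      · rw [Subgroup.card_map_of_injective (MulAut.conj g).injective, h.J_card]
    exact mem_normalizer_of_forward fun u hu => e.le ⟨u, hu, rfl⟩
  by_cases hJR : h.J ≤ R
  · exact done R (core3_isPGroup x) hJR fun g hg k hk => core3_conj hg hk
  -- the centre of the core
  set ZR := centralizer (R : Set G) with hZR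
  have hzR : h.z ∈ ZR := mem_centralizer_iff.2 fun ρ hρ => h.z_central (hRS hρ)
  have hRJ : ¬ R ≤ h.J := fun hle => hJR fun u hu =>
    hiii (mem_centralizer_iff.2 fun ρ hρ => h.J_comm ρ (hle hρ) u hu)
  by_cases hZJ : ZR ≤ h.J
  · -- the core is normalised into the normaliser of the centre
    obtain ⟨r, hr, hrJ⟩ := Set.not_subset.1 hRJ
    have hZA : ZR ≤ h.A := fun e he => (c.cent_in_J (hRS hr) hrJ).1
      ⟨hZJ he, mem_centralizer_singleton_iff.2 (mem_centralizer_iff.1 he r hr).symm⟩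
    have hCN : C ≤ h.NZ := by
      intro g hg
      have hgz : g * h.z * g⁻¹ ∈ ZR := by
        refine mem_centralizer_iff.2 fun ρ hρ => ?_
        have h1 : g⁻¹ * ρ * g⁻¹⁻¹ ∈ R := core3_conj (inv_mem hg) hρ
        rw [inv_inv] at h1
        have := mem_centralizer_iff.1 hzR _ h1
        calc ρ * (g * h.z * g⁻¹) = g * (g⁻¹ * ρ * g * h.z) * g⁻¹ := by group
          _ = g * (h.z * (g⁻¹ * ρ * g)) * g⁻¹ := by rw [this]
          _ = g * h.z * g⁻¹ * ρ := by group
      have hgZ := c.conj_z_in_A (hZA hgz)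
      refine mem_normalizer_of_forward fun u hu => ?_
      obtain ⟨n, rfl⟩ := mem_zpowers_iff.1 hu
      rw [← conj_zpow]
      exact zpow_mem hgZ n
    -- the part in `L0` is a normal `3`-subgroup
    have hxA : x ∈ h.A := hZA (mem_centralizer_iff.2 fun ρ hρ =>
      mem_centralizer_singleton_iff.1 (hRC hρ))
    have hp : IsPGroup 3 (C ⊓ h.L0 : Subgroup G) := by
      rw [IsPGroup.iff_card]
      have hd : Nat.card ↥(C ⊓ h.L0) ∣ 243 * 120 := h.card_L0 ▸ Subgroup.card_dvd_of_le inf_le_right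
      have h2 : ¬ 2 ∣ Nat.card ↥(C ⊓ h.L0) := by
        intro hd2
        haveI : Fact (Nat.Prime 2) := ⟨Nat.prime_two⟩
        obtain ⟨⟨g, hg⟩, ho⟩ := exists_prime_orderOf_dvd_card' 2 hd2
        rw [Subgroup.orderOf_mk] at ho
        have hgC : g ∈ C := hg.1
        have hgL : g ∈ h.L0 := hg.2
        have hg2 : g * g = 1 := by rw [← pow_two, ← ho]; exact pow_orderOf_eq_one g
        have hgQ : g ∉ h.Q := fun hq => by
          have := orderOf_dvd_of_pow_eq_one (h.Q_exp g hq)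
          rw [ho] at this
          omega
        have hpi : h.piL ⟨g, hgL⟩ = -1 := by
          refine sl_involution _ ?_ fun e => hgQ ?_
          · rw [← map_mul, show (⟨g, hgL⟩ * ⟨g, hgL⟩ : h.L0) = 1 from Subtype.ext hg2, map_one]
          · have : (⟨g, hgL⟩ : h.L0) ∈ h.piL.ker := MonoidHom.mem_ker.2 e
            rwa [h.piL_ker, mem_subgroupOf] at this
        refine hxZ ((h.neg_one_inverts hgL hpi hxA.2).2 ?_)
        rw [mem_centralizer_singleton_iff.1 hgC, mul_inv_cancel_right, mul_inv_cancel]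
        exact one_mem _
      have h5 : ¬ 5 ∣ Nat.card ↥(C ⊓ h.L0) := by
        intro hd5
        haveI : Fact (Nat.Prime 5) := ⟨by norm_num⟩
        obtain ⟨⟨g, hg⟩, ho⟩ := exists_prime_orderOf_dvd_card' 5 hd5
        rw [Subgroup.orderOf_mk] at ho
        have hgC : g ∈ C := hg.1
        have hgL : g ∈ h.L0 := hg.2
        have hg5 : g ^ 5 = 1 := by rw [← ho]; exact pow_orderOf_eq_one g
        have hg1 : g ≠ 1 := fun e => by rw [e, orderOf_one] at ho; omega
        refine hxZ (h.cent_five (h.L0_le_CZ hgL) hg5 hg1 hxA.2 le_rfl (zpowers_le.2 h.z_mem_Q)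
          (fun w hw => h.conj_Q (h.CZ_le_NZ (h.L0_le_CZ hgL)) hw) hxA.2 (Or.inr ?_))
        rw [mem_centralizer_singleton_iff.1 hgC, mul_inv_cancel_right]
      have hd6 : Nat.card ↥(C ⊓ h.L0) ∣ 3 ^ 6 := by
        rw [show (243 * 120 : ℕ) = 3 ^ 6 * (2 ^ 3 * 5) by norm_num] at hd
        refine Nat.Coprime.dvd_of_dvd_mul_right ?_ hd
        exact Nat.Coprime.mul_right
          (((Nat.Prime.coprime_iff_not_dvd Nat.prime_two).2 h2).symm.pow_right 3)
          ((Nat.Prime.coprime_iff_not_dvd (by norm_num)).2 h5).symm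
      obtain ⟨k, -, hk⟩ := (Nat.dvd_prime_pow (by norm_num)).1 hd6
      exact ⟨k, hk⟩
    refine done _ hp (le_inf hJC (h.J_le.trans h.S_le_L0)) fun g hg k hk => ⟨?_, ?_⟩
    · show g * k * g⁻¹ ∈ C
      exact mul_mem (mul_mem hg hk.1) (inv_mem hg)
    · exact h.conj_L0 (hCN hg) hk.2
  · -- the core is abelian, and a stabiliser of a series of length two exceeds it
    exfalso
    obtain ⟨e, he, heJ⟩ := Set.not_subset.1 hZJ
    have heR : e ∈ R := hiii he
    have heS := hRS heR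
    have hBD : h.J ⊓ R ≤ h.J ⊓ centralizer ({e} : Set G) := fun u hu =>
      ⟨hu.1, mem_centralizer_singleton_iff.2 (mem_centralizer_iff.1 he u hu.2)⟩
    have hBc := (c.cent_in_J heS heJ).2
    -- commutators with `e`
    let f : h.J →* G :=
      { toFun := fun u => (u : G) * e * (u : G)⁻¹ * e⁻¹
        map_one' := by simp
        map_mul' := fun a b => by
          have hm : (b : G) * e * (b : G)⁻¹ * e⁻¹ ∈ h.J := by
            have := mul_mem b.2 (h.conj_J (h.S_le_normJ heS) (inv_mem b.2))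
            convert this using 1
            group
          show ((a : G) * b) * e * ((a : G) * b)⁻¹ * e⁻¹ = _
          calc ((a : G) * b) * e * ((a : G) * b)⁻¹ * e⁻¹
              = ((a : G) * ((b : G) * e * (b : G)⁻¹ * e⁻¹) * (a : G)⁻¹) * ((a : G) * e * (a : G)⁻¹ * e⁻¹) := by
                group
            _ = ((b : G) * e * (b : G)⁻¹ * e⁻¹) * ((a : G) * e * (a : G)⁻¹ * e⁻¹) := by
                rw [h.J_comm a a.2 _ hm, mul_inv_cancel_right]
            _ = _ := h.J_comm _ hm _ (by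
                have := mul_mem a.2 (h.conj_J (h.S_le_normJ heS) (inv_mem a.2))
                convert this using 1
                group) }
    have himg : f.range ≤ h.J ⊓ R := by
      rintro _ ⟨u, rfl⟩
      refine ⟨?_, (mul_mem (core3_conj (hJC u.2) heR) (inv_mem heR) : _ ∈ R)⟩
      have := mul_mem u.2 (h.conj_J (h.S_le_normJ heS) (inv_mem u.2))
      show (u : G) * e * (u : G)⁻¹ * e⁻¹ ∈ h.J
      convert this using 1
      group
    -- the stabiliser of the series
    let K : Subgroup G :=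
      { carrier := {g | g ∈ C ∧ ∀ ρ ∈ R, g * ρ * g⁻¹ * ρ⁻¹ ∈ zpowers x}
        one_mem' := ⟨one_mem _, fun ρ _ => by simp⟩
        mul_mem' := by
          rintro a b ⟨ha, ha'⟩ ⟨hb, hb'⟩
          refine ⟨mul_mem ha hb, fun ρ hρ => ?_⟩
          obtain ⟨n, hn⟩ := mem_zpowers_iff.1 (hb' ρ hρ)
          have hax : Commute a x := mem_centralizer_singleton_iff.1 ha
          rw [show a * b * ρ * (a * b)⁻¹ * ρ⁻¹ =
              a * (b * ρ * b⁻¹ * ρ⁻¹) * a⁻¹ * (a * ρ * a⁻¹ * ρ⁻¹) by group, ← hn,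
            (hax.zpow_right n).eq, mul_inv_cancel_right]
          exact mul_mem (zpow_mem (mem_zpowers _) n) (ha' ρ hρ)
        inv_mem' := by
          rintro a ⟨ha, ha'⟩
          refine ⟨inv_mem ha, fun ρ hρ => ?_⟩
          obtain ⟨n, hn⟩ := mem_zpowers_iff.1 (ha' ρ hρ)
          have hax : Commute a x := mem_centralizer_singleton_iff.1 ha
          rw [show a⁻¹ * ρ * a⁻¹⁻¹ * ρ⁻¹ = a⁻¹ * (a * ρ * a⁻¹ * ρ⁻¹)⁻¹ * a by group, ← hn, ← zpow_neg,
            mul_assoc, ← (hax.zpow_right (-n)).eq, inv_mul_cancel_left]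
          exact zpow_mem (mem_zpowers _) _ }
    have hKC : K ≤ C := fun g hg => hg.1
    have hKR : K ≤ R := by
      refine le_core3 hKC (fun g hg k hk => ⟨mul_mem (mul_mem hg hk.1) (inv_mem hg), fun ρ hρ => ?_⟩) ?_
      · have h1 := hk.2 _ (core3_conj (inv_mem hg) hρ)
        obtain ⟨n, hn⟩ := mem_zpowers_iff.1 h1
        rw [inv_inv] at hn
        have hgx : Commute g x := mem_centralizer_singleton_iff.1 hg
        have e1 : g * k * g⁻¹ * ρ * (g * k * g⁻¹)⁻¹ * ρ⁻¹ = g * x ^ n * g⁻¹ := by rw [hn]; group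
        rw [e1, (hgx.zpow_right n).eq, mul_inv_cancel_right]
        exact zpow_mem (mem_zpowers _) n
      · rintro ⟨g, hg⟩
        have h3R : g ^ 3 ∈ R := by
          refine hiii (mem_centralizer_iff.2 fun ρ hρ => ?_)
          obtain ⟨n, hn⟩ := mem_zpowers_iff.1 (hg.2 ρ hρ)
          have hgx : Commute g x := mem_centralizer_singleton_iff.1 hg.1
          have hρx : Commute ρ x := mem_centralizer_singleton_iff.1 (hRC hρ)
          have e1 : g * ρ * g⁻¹ = ρ * x ^ n := by rw [(hρx.zpow_right n).eq, hn]; group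
          have h3 := conj_pow_fixed e1 (by rw [(hgx.zpow_right n).eq, mul_inv_cancel_right]) 3
          rw [← zpow_natCast (x ^ n), ← zpow_mul, mul_comm, zpow_mul, zpow_natCast, h.J_exp x hxJ,
            one_zpow, mul_one] at h3
          exact (mul_inv_eq_iff_eq_mul.1 h3).symm
        obtain ⟨k, hk⟩ := IsPGroup.iff_orderOf.1 (core3_isPGroup x) ⟨_, h3R⟩
        rw [Subgroup.orderOf_mk] at hk
        exact ⟨k + 1, Subtype.ext (by
          show g ^ (3 ^ (k + 1)) = 1
          rw [pow_succ', pow_mul, ← hk, pow_orderOf_eq_one])⟩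
    -- elements of `J` in the stabiliser
    have hRgen : R ≤ (h.J ⊓ R) ⊔ zpowers e := by
      refine le_of_eq (Subgroup.eq_of_le_of_card_ge (sup_le inf_le_right (zpowers_le.2 heR)) ?_).symm
      obtain ⟨a, -, hcR⟩ := h.card_three_pow hRS
      obtain ⟨b, -, hcB⟩ := h.card_three_pow ((inf_le_right : h.J ⊓ R ≤ R).trans hRS)
      obtain ⟨d, -, hcD⟩ := h.card_three_pow
        ((sup_le inf_le_right (zpowers_le.2 heR) : h.J ⊓ R ⊔ zpowers e ≤ R).trans hRS)
      have hlt : Nat.card ↥(h.J ⊓ R) < Nat.card ↥(h.J ⊓ R ⊔ zpowers e) := by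
        refine lt_of_le_of_ne (Subgroup.card_le_of_le le_sup_left) fun eq => heJ ?_
        exact ((Subgroup.eq_of_le_of_card_ge le_sup_left eq.ge).ge (mem_sup_right (mem_zpowers e))).1
      rw [hcB, hcD] at hlt
      have hbd := (Nat.pow_lt_pow_iff_right (by norm_num)).1 hlt
      have hsup : Nat.card ↥(h.J ⊔ R) ≤ 243 := by
        obtain ⟨m, hm6, hm⟩ := h.card_three_pow (sup_le h.J_le hRS)
        rw [hm, show (243 : ℕ) = 3 ^ 5 by norm_num]
        refine Nat.pow_le_pow_right (by norm_num) ?_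
        by_contra hc
        have heq : h.J ⊔ R = (h.S : Subgroup G) := Subgroup.eq_of_le_of_card_ge (sup_le h.J_le hRS) (by
          rw [h.card_S, hm, show m = 6 by omega]; norm_num)
        refine hxZ (h.Z_eq.le ⟨h.J_le hxJ, mem_centralizer_iff.2 fun s hs => ?_⟩)
        exact mem_centralizer_singleton_iff.1 ((sup_le hJC hRC) (heq.ge hs))
      have h1 := CfsgLib.PLocal.card_mul_le_card_sup_mul_inf h.J R
      rw [h.J_card, hcR, hcB] at h1
      have h2 : 81 * 3 ^ a ≤ 243 * 3 ^ b := h1.trans (Nat.mul_le_mul_right _ hsup)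
      rw [hcR, hcD]
      have h3 : 3 ^ a ≤ 3 ^ (b + 1) := by rw [pow_succ]; omega
      exact Nat.pow_le_pow_right (by norm_num)
        (((Nat.pow_le_pow_iff_right (by norm_num)).1 h3).trans hbd)
    have hmemK : ∀ u : h.J, f u ∈ zpowers x → (u : G) ∈ K := by
      intro u hu
      refine ⟨hJC u.2, fun ρ hρ => ?_⟩
      let W : Subgroup G :=
        { carrier := {ρ | ρ ∈ C ∧ (u : G) * ρ * (u : G)⁻¹ * ρ⁻¹ ∈ zpowers x}
          one_mem' := ⟨one_mem _, by simp⟩
          mul_mem' := by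
            rintro a b ⟨ha, ha'⟩ ⟨hb, hb'⟩
            refine ⟨mul_mem ha hb, ?_⟩
            obtain ⟨n, hn⟩ := mem_zpowers_iff.1 hb'
            have hax : Commute a x := mem_centralizer_singleton_iff.1 ha
            rw [show (u : G) * (a * b) * (u : G)⁻¹ * (a * b)⁻¹ =
                ((u : G) * a * (u : G)⁻¹ * a⁻¹) * (a * ((u : G) * b * (u : G)⁻¹ * b⁻¹) * a⁻¹) by group,
              ← hn, (hax.zpow_right n).eq, mul_inv_cancel_right]
            exact mul_mem ha' (zpow_mem (mem_zpowers _) n)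
          inv_mem' := by
            rintro a ⟨ha, ha'⟩
            refine ⟨inv_mem ha, ?_⟩
            obtain ⟨n, hn⟩ := mem_zpowers_iff.1 ha'
            have hax : Commute a x := mem_centralizer_singleton_iff.1 ha
            rw [show (u : G) * a⁻¹ * (u : G)⁻¹ * a⁻¹⁻¹ = a⁻¹ * ((u : G) * a * (u : G)⁻¹ * a⁻¹)⁻¹ * a by
              group, ← hn, ← zpow_neg, mul_assoc, ← (hax.zpow_right (-n)).eq, inv_mul_cancel_left]
            exact zpow_mem (mem_zpowers _) _ }
      have hRW : R ≤ W := hRgen.trans (sup_le (fun a ha =>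
        ⟨hJC ha.1, by rw [h.J_comm u u.2 a ha.1, mul_inv_cancel_right, mul_inv_cancel]; exact one_mem _⟩)
        (zpowers_le.2 ⟨hRC heR, hu⟩))
      exact (hRW hρ).2
    have h1 := Subgroup.card_mul_index f.ker
    rw [Subgroup.index_ker, h.J_card] at h1
    have hB9 : Nat.card ↥(h.J ⊓ R) ≤ 9 := (Subgroup.card_le_of_le hBD).trans hBc
    have hker : f.ker.map h.J.subtype ≤ h.J ⊓ R := by
      rintro _ ⟨u, hu, rfl⟩
      exact ⟨u.2, hKR (hmemK u (by rw [MonoidHom.mem_ker.1 hu]; exact one_mem _))⟩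
    have hkc : Nat.card f.ker ≤ 9 :=
      (Subgroup.card_map_of_injective h.J.subtype_injective ▸ Subgroup.card_le_of_le hker).trans hB9
    have hrange : 9 ≤ Nat.card f.range := by nlinarith
    have hReq : f.range = h.J ⊓ R := Subgroup.eq_of_le_of_card_ge himg (hB9.trans hrange)
    have hxR : x ∈ f.range := hReq.ge
      ⟨hxJ, hiii (mem_centralizer_iff.2 fun ρ hρ => mem_centralizer_singleton_iff.1 (hRC hρ))⟩
    obtain ⟨u, hu⟩ := hxR
    have huB := hBD ⟨u.2, hKR (hmemK u (by rw [hu]; exact mem_zpowers _))⟩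
    have hfu : f u = 1 := by
      show (u : G) * e * (u : G)⁻¹ * e⁻¹ = 1
      rw [mem_centralizer_singleton_iff.1 huB.2, mul_inv_cancel_right, mul_inv_cancel]
    rw [hu] at hfu
    exact hxZ (hfu ▸ one_mem _)

/-- The centraliser of `y` normalises `J`. -/
theorem cent_y_le
    (hiii : ∀ x ∈ h.J, x ≠ 1 → centralizer (core3 x : Set G) ≤ core3 x) :
    centralizer ({c.y} : Set G) ≤ normalizer (h.J : Set G) := by
  haveI : Fact (Nat.Prime 3) := ⟨by norm_num⟩
  set C := centralizer ({c.y} : Set G)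
  have hJC : h.J ≤ C := fun u hu => mem_centralizer_singleton_iff.2 (h.J_comm u hu _ c.y_mem_J)
  obtain ⟨P, hP⟩ := (h.J_isPGroup.comap_subtype (K := C)).exists_le_sylow
  obtain ⟨T, hT⟩ := (P.isPGroup'.map C.subtype).exists_le_sylow
  obtain ⟨g, hg⟩ := MulAction.exists_smul_eq G T h.S
  have hJT : h.J.map (MulAut.conj g).toMonoidHom ≤ h.S := by
    rw [← hg, Sylow.coe_subgroup_smul]
    rintro _ ⟨u, hu, rfl⟩
    exact ⟨u, hT ⟨⟨u, hJC hu⟩, hP (mem_subgroupOf.2 hu), rfl⟩, rfl⟩
  have hgJ : g ∈ normalizer (h.J : Set G) := by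
    have e := h.unique_in_S hJT (by
      rintro _ ⟨a, ha, rfl⟩ _ ⟨b, hb, rfl⟩
      rw [← map_mul, h.J_comm a ha b hb, map_mul])
      (by rw [Subgroup.card_map_of_injective (MulAut.conj g).injective, h.J_card])
    exact mem_normalizer_of_forward fun u hu => e.le ⟨u, hu, rfl⟩
  set x := g * c.y * g⁻¹
  have hxJ : x ∈ h.J := h.conj_J hgJ c.y_mem_J
  have hxZ : x ∉ h.Z := by
    intro hz
    have hy : c.y ≠ 1 := fun e => c.z'_notMem_Z (by
      rw [eq_inv_of_mul_eq_one_right e]; exact inv_mem (mem_zpowers _))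
    obtain ⟨n, hn⟩ := mem_zpowers_iff.1 hz
    have h0 : n % 3 = 0 ∨ n % 3 = 1 ∨ n % 3 = 2 := by omega
    rw [← zpow_mod_orderOf, h.z_order] at hn
    rcases h0 with e | e | e <;> rw [Nat.cast_ofNat, e] at hn
    · exact hy (conj_eq_one_iff.1 ((zpow_zero h.z).symm.trans hn).symm)
    · rw [zpow_one] at hn
      exact (c.y_not_conj (g := g⁻¹)).1 (by rw [hn]; simp only [x]; group)
    · refine (c.y_not_conj (g := g⁻¹)).2 ?_
      have hz2 : (h.z ^ (2 : ℤ)) = h.z⁻¹ := eq_inv_of_mul_eq_one_left (by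
        rw [show (2 : ℤ) = ((2 : ℕ) : ℤ) from rfl, zpow_natCast, ← pow_succ, h.z_cube])
      rw [show h.z = (g * c.y * g⁻¹)⁻¹ by rw [← inv_inj, ← hz2, hn, inv_inv]]
      group
  have hx1 : x ≠ 1 := fun e => hxZ (e ▸ one_mem _)
  have hRS : core3 x ≤ h.S := by
    have hsub : (core3 x).map (MulAut.conj g⁻¹).toMonoidHom ≤ core3 c.y := by
      have hin : ∀ k ∈ C, g * k * g⁻¹ ∈ centralizer ({x} : Set G) := fun k hk => by
        rw [mem_centralizer_singleton_iff] at hk ⊢
        simp only [x]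
        rw [conj_mul, hk, conj_mul]
      refine le_core3 ?_ ?_ ((core3_isPGroup x).map _)
      · rintro _ ⟨k, hk, rfl⟩
        have hk' : k * x = x * k := mem_centralizer_singleton_iff.1 (map_subtype_le _ hk)
        refine mem_centralizer_singleton_iff.2 ?_
        calc g⁻¹ * k * g⁻¹⁻¹ * c.y = g⁻¹ * (k * x) * g := by simp only [x]; group
          _ = c.y * (g⁻¹ * k * g⁻¹⁻¹) := by rw [hk']; simp only [x]; group
      · rintro k hk _ ⟨m, hm, rfl⟩
        refine ⟨_, core3_conj (hin k hk) hm, ?_⟩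
        simp only [MulEquiv.coe_toMonoidHom, MulAut.conj_apply]
        group
    have hRP : core3 c.y ≤ (P : Subgroup C).map C.subtype :=
      Subgroup.map_mono (CfsgLib.Amalgam.pCore_le_sylow P)
    intro r hr
    rw [← hg, Sylow.coe_subgroup_smul]
    refine ⟨g⁻¹ * r * g⁻¹⁻¹, hT (hRP (hsub ⟨r, hr, rfl⟩)), ?_⟩
    show g * (g⁻¹ * r * g⁻¹⁻¹) * g⁻¹ = r
    group
  have hle := c.cent_le_aux hxJ hxZ (hiii x hxJ hx1) hRS
  intro k hk
  have hk' : g * k * g⁻¹ ∈ normalizer (h.J : Set G) := hle (by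
    rw [mem_centralizer_singleton_iff] at hk ⊢
    simp only [x]
    rw [conj_mul, hk, conj_mul])
  have := mul_mem (mul_mem (inv_mem hgJ) hk') hgJ
  rwa [show g⁻¹ * (g * k * g⁻¹) * g = k by group] at this

end Coords

end CfsgLib.Recog.McLThree
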