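import Cfsg.Agent.Lib.Recog.McLThree.Models

/-!
Generating pairs of elements of order three in the binary icosahedral group.
-/

set_option autoImplicit false
set_option maxRecDepth 100000
set_option maxHeartbeats 1000000
set_option Elab.async false

namespace CfsgLib.Recog.McLThree

/-- A generating pair. -/
def GenPair (a b : SL5) : Prop := b ^ 3 = 1 ∧ (a * b) ^ 5 = -1

instance (a b : SL5) : Decidable (GenPair a b) := inferInstanceAs (Decidable (_ ∧ _))

theorem genPair_count : ∀ a : SL5, a ^ 3 = 1 → a ≠ 1 →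
    (Finset.univ.filter fun b => GenPair a b).card = 6 := by decide +kernel

theorem genPair_words : ∀ a : SL5, a ^ 3 = 1 → a ≠ 1 → ∀ b : SL5, GenPair a b →
    (a * b) ^ 2 ≠ 1 ∧ ((a * b) ^ 2) ^ 5 = 1 ∧
      b * a * a * b * b * a * b * (b * a * a * b * b * a * b) = -1 ∧
      b * a * a * b * b * a * b * a * (b * a * a * b * b * a * b)⁻¹ = a⁻¹ := by decide +kernel

theorem cent_three : ∀ a : SL5, a ^ 3 = 1 → a ≠ 1 → ∀ x : SL5, x * a = a * x →
    ∃ i : Fin 3, x = a ^ (i : ℕ) ∨ x = -1 * a ^ (i : ℕ) := by decide +kernel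

theorem exists_inverter : ∀ a : SL5, a ^ 3 = 1 → a ≠ 1 → ∃ x : SL5, x * a * x⁻¹ = a⁻¹ := by decide +kernel

end CfsgLib.Recog.McLThree
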