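import Cfsg.Agent.Lib.Recog.McLThree.Form
import Cfsg.Agent.Lib.Recog.McLThree.CentY
import Cfsg.Agent.Lib.Recog.McLThree.ModelPairs

/-!
The centraliser of `z` contains `L0` with index at most two.
-/

set_option autoImplicit false
set_option linter.style.haveILetI false
set_option linter.unusedSectionVars false

namespace CfsgLib.Recog.McLThree

open Subgroup

variable {G : Type*} [Group G] [Finite G] {h : Hyp G}

namespace Coords

variable (c : Coords h)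

theorem z'_mem_L0 : c.z' ∈ h.L0 := h.S_le_L0 (h.J_le c.z'_mem_E.1)

/-- The image of the second point. -/
abbrev a0 : SL5 := h.piL ⟨c.z', c.z'_mem_L0⟩

theorem a0_facts : c.a0 ^ 3 = 1 ∧ c.a0 ≠ 1 := by
  refine ⟨?_, fun e => c.z'_notMem_Q ?_⟩
  · rw [← map_pow, show (⟨c.z', c.z'_mem_L0⟩ : h.L0) ^ 3 = 1 from Subtype.ext c.z'_cube, map_one]
  · have : (⟨c.z', c.z'_mem_L0⟩ : h.L0) ∈ h.piL.ker := MonoidHom.mem_ker.2 e
    rwa [h.piL_ker, mem_subgroupOf] at this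

theorem a0_ne_inv : c.a0⁻¹ ≠ c.a0 := fun e => c.a0_facts.2 (by
  have h3 := c.a0_facts.1
  rw [pow_succ, pow_two] at h3
  nth_rewrite 2 [← e] at h3
  rwa [mul_inv_cancel, one_mul] at h3)

theorem S_le_sup : (h.S : Subgroup G) ≤ h.Q ⊔ zpowers c.z' := by
  have hle : h.Q ⊔ zpowers c.z' ≤ h.S := sup_le h.Q_le_S (zpowers_le.2 (h.J_le c.z'_mem_E.1))
  refine (Subgroup.eq_of_le_of_card_ge hle ?_).ge
  obtain ⟨k, hk6, hk⟩ := h.card_three_pow hle
  have hlt : Nat.card h.Q < Nat.card ↥(h.Q ⊔ zpowers c.z') := by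
    refine lt_of_le_of_ne (Subgroup.card_le_of_le le_sup_left) fun e => c.z'_notMem_Q ?_
    rw [Subgroup.eq_of_le_of_card_ge le_sup_left e.ge]
    exact mem_sup_right (mem_zpowers _)
  rw [h.Q_card, hk, show (243 : ℕ) = 3 ^ 5 by norm_num] at hlt
  have h5 := (Nat.pow_lt_pow_iff_right (by norm_num)).1 hlt
  rw [h.card_S, hk, show k = 6 by omega]
  norm_num

theorem T_ne : c.T ≠ 1 := fun e => by
  obtain ⟨hT, hpi⟩ := c.T_L0
  rw [show (⟨c.T, hT⟩ : h.L0) = 1 from Subtype.ext e, map_one] at hpi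
  exact sl_neg_one.1 hpi.symm

theorem T_notMem_Q : c.T ∉ h.Q := fun hq => by
  have h3 := h.Q_exp _ hq
  rw [pow_succ, pow_two, c.T_sq, one_mul] at h3
  exact c.T_ne h3

/-- An element of the centraliser of `z` is moved into the centraliser of `T` by an element of `Q`. -/
theorem exists_comm_T {g : G} (hg : g ∈ h.CZ) : ∃ q ∈ h.Q, q * g * c.T = c.T * (q * g) := by
  obtain ⟨hT, hpi⟩ := c.T_L0
  set T' := g * c.T * g⁻¹ with hT'
  have hT'L : T' ∈ h.L0 := h.conj_L0 (h.CZ_le_NZ hg) hT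
  have hsq : T' * T' = 1 := by
    rw [hT', show g * c.T * g⁻¹ * (g * c.T * g⁻¹) = g * (c.T * c.T) * g⁻¹ by group, c.T_sq,
      mul_one, mul_inv_cancel]
  have hne : h.piL ⟨T', hT'L⟩ ≠ 1 := fun e => by
    have hk : (⟨T', hT'L⟩ : h.L0) ∈ h.piL.ker := MonoidHom.mem_ker.2 e
    rw [h.piL_ker, mem_subgroupOf] at hk
    have h3 := h.Q_exp _ hk
    rw [pow_succ, pow_two, hsq, one_mul] at h3
    exact c.T_ne (conj_eq_one_iff.1 h3)
  have hneg := sl_involution _ (by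
    rw [← map_mul, show (⟨T', hT'L⟩ : h.L0) * ⟨T', hT'L⟩ = 1 from Subtype.ext hsq, map_one]) hne
  have hk : (⟨c.T, hT⟩ * ⟨T', hT'L⟩ : h.L0) ∈ h.piL.ker := by
    rw [MonoidHom.mem_ker, map_mul, hpi, hneg, sl_neg_one.2.1]
  rw [h.piL_ker, mem_subgroupOf] at hk
  have hk' : c.T * T' ∈ h.Q := hk
  have hc := conj_invol c.T_sq hsq (h.Q_exp _ hk')
  refine ⟨(c.T * T')⁻¹, inv_mem hk', ?_⟩
  calc (c.T * T')⁻¹ * g * c.T = (c.T * T')⁻¹ * T' * g := by rw [hT']; group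
    _ = (c.T * T')⁻¹ * ((c.T * T') * c.T * (c.T * T')⁻¹) * g := by rw [hc]
    _ = c.T * ((c.T * T')⁻¹ * g) := by group

theorem normalise {g : G} (hg : g ∈ h.CZ) (hgS : g ∈ normalizer ((h.S : Subgroup G) : Set G)) :
    ∃ q ∈ h.Q, q * g * c.T = c.T * (q * g) ∧
      (q * g * c.z' * (q * g)⁻¹ = c.z' ∨ q * g * c.z' * (q * g)⁻¹ = c.z'⁻¹) := by
  obtain ⟨q, hq, hqT⟩ := c.exists_comm_T hg
  refine ⟨q, hq, hqT, ?_⟩
  have hgC : q * g ∈ h.CZ := mul_mem (h.Q_le_CZ hq) hg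
  have hgJ : q * g ∈ normalizer (h.J : Set G) :=
    h.normS_le_normJ (mul_mem (le_normalizer (h.Q_le_S hq)) hgS)
  set g' := q * g
  have hE : g' * c.z' * g'⁻¹ ∈ c.E := by
    refine ⟨h.conj_J hgJ c.z'_mem_E.1, mem_centralizer_singleton_iff.2 ?_⟩
    have h1 : c.z' * c.T = c.T * c.z' := mem_centralizer_singleton_iff.1 c.z'_mem_E.2
    have h2 : g'⁻¹ * c.T = c.T * g'⁻¹ := ((show Commute g' c.T from hqT).inv_left).eq
    calc g' * c.z' * g'⁻¹ * c.T = g' * (c.z' * c.T) * g'⁻¹ := by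
          rw [mul_assoc (g' * c.z'), h2]; simp only [mul_assoc]
      _ = g' * c.T * (c.z' * g'⁻¹) := by rw [h1]; simp only [mul_assoc]
      _ = c.T * (g' * c.z' * g'⁻¹) := by rw [hqT]; simp only [mul_assoc]
  have hz : g' * h.z * g'⁻¹ = h.z := mul_inv_eq_iff_eq_mul.2 (h.mem_CZ.1 hgC)
  have e : g' * c.U * h.z * (g' * c.U)⁻¹ = g' * c.z' * g'⁻¹ := by simp only [z']; group
  have hpts := c.points_E (g := g' * c.U) (by rw [e]; exact hE)
  rw [e] at hpts
  rcases hpts with e1 | e1 | e1 | e1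
  · exact absurd (conj_injective (x := g') (e1.trans hz.symm)) c.z'_ne_z.1
  · refine absurd (conj_injective (x := g') (e1.trans ?_)) c.z'_ne_z.2
    show h.z⁻¹ = g' * h.z⁻¹ * g'⁻¹
    rw [← conj_inv, hz]
  · exact Or.inl e1
  · exact Or.inr e1

/-- The subgroup fixing `z`, `T` and the second point. -/
def D : Subgroup G := h.CZ ⊓ centralizer ({c.T} : Set G) ⊓ centralizer ({c.z'} : Set G)

theorem mem_D {d : G} : d ∈ c.D ↔ d * h.z = h.z * d ∧ d * c.T = c.T * d ∧ d * c.z' = c.z' * d := by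
  simp only [D, mem_inf, mem_centralizer_singleton_iff, and_assoc]

theorem T_mem_D : c.T ∈ c.D :=
  c.mem_D.2 ⟨h.mem_CZ.1 c.T_CZ, rfl, (mem_centralizer_singleton_iff.1 c.z'_mem_E.2).symm⟩

/-- The word in the two generators inverting the first one. -/
abbrev word {M : Type*} [Monoid M] (a b : M) : M := b * a * a * b * b * a * b

theorem exists_gen : ∃ b : h.L0, GenPair c.a0 (h.piL b) := by
  have hc := genPair_count _ c.a0_facts.1 c.a0_facts.2
  obtain ⟨b, hb⟩ := Finset.card_pos.1 (by rw [hc]; norm_num :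
    0 < (Finset.univ.filter fun b => GenPair c.a0 b).card)
  obtain ⟨g, rfl⟩ := h.piL_surj b
  exact ⟨g, (Finset.mem_filter.1 hb).2⟩

theorem exists_inverter_L0 {b : h.L0} (hb : GenPair c.a0 (h.piL b)) :
    ∃ q : h.L0, (q : G) ∈ h.Q ∧
      let l : h.L0 := q * word ⟨c.z', c.z'_mem_L0⟩ b
      (l : G) * c.T = c.T * l ∧ (l : G) * c.z' * (l : G)⁻¹ = c.z'⁻¹ := by
  set a : h.L0 := ⟨c.z', c.z'_mem_L0⟩
  set g : h.L0 := word a b with hg
  have hw := genPair_words _ c.a0_facts.1 c.a0_facts.2 _ hb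
  have hpg : h.piL g * c.a0 * (h.piL g)⁻¹ = c.a0⁻¹ := by
    rw [hg]; simp only [word, map_mul]; exact hw.2.2.2
  have hgS : (g : G) ∈ normalizer ((h.S : Subgroup G) : Set G) := by
    have hgN := h.CZ_le_NZ (h.L0_le_CZ g.2)
    refine mem_normalizer_of_forward fun s hs => ?_
    have hle : h.Q ⊔ zpowers c.z' ≤ (h.S : Subgroup G).comap (MulAut.conj (g : G)).toMonoidHom := by
      refine sup_le (fun x hx => h.Q_le_S (h.conj_Q hgN hx)) (zpowers_le.2 ?_)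
      have hk : g * a * g⁻¹ * a ∈ h.piL.ker := by
        rw [MonoidHom.mem_ker, map_mul, map_mul, map_mul, map_inv, hpg, inv_mul_cancel]
      rw [h.piL_ker, mem_subgroupOf] at hk
      show (g : G) * c.z' * (g : G)⁻¹ ∈ (h.S : Subgroup G)
      have hk' : (g : G) * c.z' * (g : G)⁻¹ * c.z' ∈ h.Q := hk
      have := mul_mem (h.Q_le_S hk') (inv_mem (h.J_le c.z'_mem_E.1))
      rwa [mul_inv_cancel_right] at this
    exact hle (c.S_le_sup hs)
  obtain ⟨q, hq, hqT, e | e⟩ := c.normalise (h.L0_le_CZ g.2) hgS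
  · exfalso
    have hqk : h.piL ⟨q, h.Q_le_L0 hq⟩ = 1 := by
      rw [← MonoidHom.mem_ker, h.piL_ker, mem_subgroupOf]; exact hq
    have e' : (⟨q, h.Q_le_L0 hq⟩ * g) * a * (⟨q, h.Q_le_L0 hq⟩ * g)⁻¹ = a := Subtype.ext e
    have := congrArg h.piL e'
    rw [map_mul, map_mul, map_inv, map_mul, hqk, one_mul, hpg] at this
    exact c.a0_ne_inv this
  · exact ⟨⟨q, h.Q_le_L0 hq⟩, hq, hqT, e⟩

theorem CZ_decomp {g : G} (hg : g ∈ h.CZ) : ∃ k ∈ h.L0, ∃ d ∈ c.D, g = k * d := by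
  haveI : Fact (Nat.Prime 3) := ⟨by norm_num⟩
  have hgN := h.CZ_le_NZ hg
  have hle : ((g • h.S : Sylow 3 G) : Subgroup G) ≤ h.L0 := by
    rw [Sylow.coe_subgroup_smul]
    rintro _ ⟨x, hx, rfl⟩; exact h.conj_L0 hgN (h.S_le_L0 hx)
  obtain ⟨m, hm⟩ := MulAction.exists_smul_eq h.L0 (h.S.subtype h.S_le_L0) ((g • h.S).subtype hle)
  have hmN : (m : G)⁻¹ * g ∈ normalizer ((h.S : Subgroup G) : Set G) := by
    refine mem_normalizer_of_forward fun s hs => ?_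
    have hx : g * s * g⁻¹ ∈ h.L0 := h.conj_L0 hgN (h.S_le_L0 hs)
    have h1 : (⟨g * s * g⁻¹, hx⟩ : h.L0) ∈ ((g • h.S).subtype hle : Subgroup h.L0) := by
      show g * s * g⁻¹ ∈ ((g • h.S : Sylow 3 G) : Subgroup G)
      rw [Sylow.coe_subgroup_smul]
      exact ⟨s, hs, rfl⟩
    rw [← hm, Sylow.coe_subgroup_smul] at h1
    obtain ⟨y, hy, e⟩ := h1
    have e' : (m : G) * (y : G) * (m : G)⁻¹ = g * s * g⁻¹ := congrArg Subtype.val e
    have : (m : G)⁻¹ * g * s * ((m : G)⁻¹ * g)⁻¹ = (y : G) := by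
      calc (m : G)⁻¹ * g * s * ((m : G)⁻¹ * g)⁻¹ = (m : G)⁻¹ * (g * s * g⁻¹) * m := by group
        _ = y := by rw [← e']; group
    rw [this]
    exact hy
  have hmC : (m : G)⁻¹ * g ∈ h.CZ := mul_mem (inv_mem (h.L0_le_CZ m.2)) hg
  obtain ⟨q, hq, hqT, e | e⟩ := c.normalise hmC hmN
  · refine ⟨(m : G) * q⁻¹, mul_mem m.2 (inv_mem (h.Q_le_L0 hq)), q * ((m : G)⁻¹ * g),
      c.mem_D.2 ⟨h.mem_CZ.1 (mul_mem (h.Q_le_CZ hq) hmC), hqT, mul_inv_eq_iff_eq_mul.1 e⟩, by group⟩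
  · obtain ⟨b, hb⟩ := c.exists_gen
    obtain ⟨q', -, hlT, hlz⟩ := c.exists_inverter_L0 hb
    set l : h.L0 := q' * word ⟨c.z', c.z'_mem_L0⟩ b
    set g' := q * ((m : G)⁻¹ * g) with hg'
    refine ⟨(m : G) * q⁻¹ * (l : G)⁻¹,
      mul_mem (mul_mem m.2 (inv_mem (h.Q_le_L0 hq))) (inv_mem l.2), (l : G) * g',
      c.mem_D.2 ⟨h.mem_CZ.1 (mul_mem (h.L0_le_CZ l.2) (mul_mem (h.Q_le_CZ hq) hmC)),
        (Commute.mul_left (show Commute (l : G) c.T from hlT) hqT).eq, ?_⟩, by rw [hg']; group⟩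
    refine mul_inv_eq_iff_eq_mul.1 ?_
    calc (l : G) * g' * c.z' * ((l : G) * g')⁻¹ = (l : G) * (g' * c.z' * g'⁻¹) * (l : G)⁻¹ := by group
      _ = c.z' := by rw [e, ← conj_inv, hlz, inv_inv]

variable {b : h.L0}

/-- Membership of the kernel of the action on the generating pairs. -/
def InN (b : h.L0) (d : G) : Prop := d ∈ c.D ∧ (b : G)⁻¹ * (d * b * d⁻¹) ∈ h.Q

theorem InN.mul {d e : G} (hd : c.InN b d) (he : c.InN b e) : c.InN b (d * e) := by
  refine ⟨mul_mem hd.1 he.1, ?_⟩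
  have e1 : (b : G)⁻¹ * (d * e * b * (d * e)⁻¹) =
      ((b : G)⁻¹ * (d * b * d⁻¹)) * (d * ((b : G)⁻¹ * (e * b * e⁻¹)) * d⁻¹) := by group
  rw [e1]
  exact mul_mem hd.2 (h.conj_Q (h.CZ_le_NZ (h.mem_CZ.2 (c.mem_D.1 hd.1).1)) he.2)

theorem InN.T (b : h.L0) : c.InN b c.T := by
  refine ⟨c.T_mem_D, ?_⟩
  have := h.conj_Q (h.CZ_le_NZ (inv_mem (h.L0_le_CZ b.2))) (c.T_comm_L0 b.2)
  rwa [inv_inv, show (b : G)⁻¹ * (c.T * b * c.T⁻¹ * (b : G)⁻¹) * b = (b : G)⁻¹ * (c.T * b * c.T⁻¹) by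
    group] at this

theorem D_CZ {d : G} (hd : d ∈ c.D) : d ∈ h.CZ := h.mem_CZ.2 (c.mem_D.1 hd).1

/-- Members of the kernel commute with the generated elements modulo `Q`. -/
theorem InN.comm_word {d : G} (hd : c.InN b d) (w : h.L0)
    (hw : w ∈ closure ({⟨c.z', c.z'_mem_L0⟩, b} : Set h.L0)) :
    (w : G)⁻¹ * (d * w * d⁻¹) ∈ h.Q := by
  have hdN := h.CZ_le_NZ (c.D_CZ hd.1)
  induction hw using closure_induction with
  | mem x hx =>
    rcases hx with rfl | rfl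
    · rw [(c.mem_D.1 hd.1).2.2, mul_inv_cancel_right, inv_mul_cancel]; exact one_mem _
    · exact hd.2
  | one => simp
  | mul x y _ _ hx hy =>
    have e : ((x * y : h.L0) : G)⁻¹ * (d * (x * y : h.L0) * d⁻¹) =
        ((y : G)⁻¹ * ((x : G)⁻¹ * (d * x * d⁻¹)) * y) * ((y : G)⁻¹ * (d * y * d⁻¹)) := by
      simp only [Subgroup.coe_mul]; group
    rw [e]
    have := h.conj_Q (h.CZ_le_NZ (inv_mem (h.L0_le_CZ y.2))) hx
    rw [inv_inv] at this
    exact mul_mem this hy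
  | inv x _ hx =>
    have e : ((x⁻¹ : h.L0) : G)⁻¹ * (d * (x⁻¹ : h.L0) * d⁻¹) =
        ((x : G) * ((x : G)⁻¹ * (d * x * d⁻¹)) * (x : G)⁻¹)⁻¹ := by
      simp only [Subgroup.coe_inv]; group
    rw [e]
    exact inv_mem (h.conj_Q (h.CZ_le_NZ (h.L0_le_CZ x.2)) hx)

/-- A member of the kernel fixing a point of `Q/A` is central. -/
theorem InN.fixed {d q : G} (hb : GenPair c.a0 (h.piL b)) (hd : c.InN b d) (hq : q ∈ h.Q)
    (hqA : q ∉ h.A) (hfix : d * q * d⁻¹ * q⁻¹ ∈ h.A) : d ∈ h.Z := by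
  set a : h.L0 := ⟨c.z', c.z'_mem_L0⟩
  set f : h.L0 := ((a * b) ^ 2) ^ 6 with hf
  have hw := genPair_words _ c.a0_facts.1 c.a0_facts.2 _ hb
  have hab : h.piL ((a * b) ^ 2) ^ 5 = 1 := by rw [map_pow, map_mul]; exact hw.2.1
  have hf5 : (f : G) ^ 5 = 1 := by
    have hk : ((a * b) ^ 2) ^ 5 ∈ h.piL.ker := by rw [MonoidHom.mem_ker, map_pow]; exact hab
    rw [h.piL_ker, mem_subgroupOf] at hk
    have h3 := h.Q_exp _ hk
    simp only [hf, Subgroup.coe_pow] at h3 ⊢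
    rw [← pow_mul, show 6 * 5 = (5 * 3) * 2 from rfl, pow_mul, pow_mul _ 5 3, h3, one_pow]
  have hf1 : (f : G) ≠ 1 := fun e => hw.1 (by
    have e' : h.piL f = 1 := by rw [show f = 1 from Subtype.ext e, map_one]
    rw [hf, map_pow, pow_succ, hab, one_mul, map_pow, map_mul] at e'
    exact e')
  have hfm : f ∈ closure ({a, b} : Set h.L0) := by
    have ha : a ∈ closure ({a, b} : Set h.L0) := Subgroup.subset_closure (Or.inl rfl)
    have hb : b ∈ closure ({a, b} : Set h.L0) := Subgroup.subset_closure (Or.inr rfl)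
    exact pow_mem (pow_mem (mul_mem ha hb) _) _
  have hdC := c.D_CZ hd.1
  have hfC := h.L0_le_CZ f.2
  have hinv : ∀ w ∈ h.fixQ d hdC, (f : G) * w * (f : G)⁻¹ ∈ h.fixQ d hdC := by
    rintro w ⟨hwQ, hw'⟩
    refine ⟨h.conj_Q (h.CZ_le_NZ hfC) hwQ, ?_⟩
    set q0 := (f : G)⁻¹ * (d * f * d⁻¹)
    have hq0 : q0 ∈ h.Q := hd.comm_word c f hfm
    have hdw : d * w * d⁻¹ ∈ h.Q := h.conj_Q (h.CZ_le_NZ hdC) hwQ
    have e : d * ((f : G) * w * (f : G)⁻¹) * d⁻¹ * ((f : G) * w * (f : G)⁻¹)⁻¹ = (f : G) *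
        ((q0 * (d * w * d⁻¹) * q0⁻¹ * (d * w * d⁻¹)⁻¹) * (d * w * d⁻¹ * w⁻¹)) * (f : G)⁻¹ := by
      simp only [q0]; group
    have hm := mul_mem (h.Q_comm q0 hq0 _ hdw) hw'
    rw [e, h.Z_comm_CZ hfC hm]
    exact hm
  have hfix' : d * c.al q * d⁻¹ = c.al q := by
    have hdz : d * c.z' * d⁻¹ = c.z' := mul_inv_eq_iff_eq_mul.2 (c.mem_D.1 hd.1).2.2
    set x := d * q * d⁻¹ * q⁻¹
    have hqJ : q * c.z' * q⁻¹ ∈ h.J := h.conj_J (h.S_le_normJ (h.Q_le_S hq)) c.z'_mem_E.1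
    calc d * c.al q * d⁻¹ = (x * q) * (d * c.z' * d⁻¹) * (x * q)⁻¹ * (d * c.z' * d⁻¹)⁻¹ := by
          simp only [al, x]; group
      _ = x * (q * c.z' * q⁻¹) * x⁻¹ * c.z'⁻¹ := by rw [hdz]; group
      _ = c.al q := by rw [h.J_comm x hfix.1 _ hqJ, mul_inv_cancel_right]
  rcases h.irreducible hfC hf5 hf1 (fun w hw => ((h.mem_fixQ hdC).1 hw).1) (h.Z_le_fixQ hdC) hinv with e | e
  · exact absurd (c.comm_z'_Z hq (e.le ⟨(c.al_mem hq).2, by rw [hfix', mul_inv_cancel]; exact one_mem _⟩)) hqA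
  · exact c.centQ_T (h.mem_Q_of_trivial hdC fun w hw => (e.ge hw).2) (c.mem_D.1 hd.1).2.1.symm

theorem beta_D {d x y : G} (hd : d ∈ c.D) (hx : x ∈ h.Q) (hy : y ∈ h.Q) :
    c.beta (d * x * d⁻¹) (d * y * d⁻¹) = c.beta x y := by
  rw [c.beta_conj (h.CZ_le_NZ (c.D_CZ hd)) 1 1
    (by rw [zpow_one]; exact mul_inv_eq_iff_eq_mul.2 (c.mem_D.1 hd).1)
    (by rw [zpow_one]; exact mul_inv_eq_iff_eq_mul.2 (c.mem_D.1 hd).2.2) (by norm_num) hx hy]
  norm_num

/-- A member of the kernel with image orthogonal to `W`-translate acts as a sign. -/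
theorem InN.step {d q : G} (hb : GenPair c.a0 (h.piL b)) (hd : c.InN b d) (hq : q ∈ h.Q)
    (hqA : q ∉ h.A) (hp : c.beta (d * q * d⁻¹) (c.W * q * c.W⁻¹) = 0)
    (hs : c.beta (d * q * d⁻¹) q = c.beta q q ∨ c.beta (d * q * d⁻¹) q = -c.beta q q) :
    d ∈ h.Z ∨ c.T * d ∈ h.Z := by
  have hpQ := c.W_conj_Q hq
  have key : ∀ e : G, c.InN b e → c.beta (e * q * e⁻¹) (c.W * q * c.W⁻¹) = 0 →
      c.beta (e * q * e⁻¹) q = c.beta q q → e ∈ h.Z := by
    intro e he h1 h2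
    have heq := h.conj_Q (h.CZ_le_NZ (c.D_CZ he.1)) hq
    refine he.fixed c hb hq hqA (c.ker_pair hq hqA (mul_mem heq (inv_mem hq)) ?_ ?_)
    · rw [c.beta_mul_left heq (inv_mem hq) hq, c.beta_inv_left hq hq, h2, add_neg_cancel]
    · rw [c.beta_mul_left heq (inv_mem hq) hpQ, c.beta_inv_left hq hpQ, h1, c.beta_W_self hq, neg_zero,
        add_zero]
  rcases hs with hs | hs
  · exact Or.inl (key d hd hp hs)
  · refine Or.inr (key _ (InN.mul c (InN.T c b) hd) ?_ ?_)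
    all_goals rw [show c.T * d * q * (c.T * d)⁻¹ = c.T * (d * q * d⁻¹) * c.T⁻¹ by group,
      c.beta_T (h.conj_Q (h.CZ_le_NZ (c.D_CZ hd.1)) hq) (by first | exact hpQ | exact hq)]
    · rw [hp, neg_zero]
    · rw [hs, neg_neg]

/-- The kernel consists of the centre and its translate by `T`. -/
theorem InN.small {d : G} (hb : GenPair c.a0 (h.piL b)) (hd : c.InN b d) :
    d ∈ h.Z ∨ c.T * d ∈ h.Z := by
  obtain ⟨q, hq, hqA⟩ := exists_notMem_A h
  set p := c.W * q * c.W⁻¹ with hpdef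
  have hp : p ∈ h.Q := c.W_conj_Q hq
  set e := c.beta q q with hedef
  have he : e ≠ 0 := fun e0 => hqA (c.beta_aniso hq e0)
  have hpp : c.beta p p = e := c.beta_W hq hq
  have hqp : c.beta q p = 0 := c.beta_W_self hq
  have hdC := c.D_CZ hd.1
  set dq := d * q * d⁻¹ with hdqdef
  have hdq : dq ∈ h.Q := h.conj_Q (h.CZ_le_NZ hdC) hq
  set i : ZMod 3 := c.beta dq q * e
  set j : ZMod 3 := c.beta dq p * e
  have hx : q ^ i.val * p ^ j.val ∈ h.Q := mul_mem (pow_mem hq _) (pow_mem hp _)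
  have hee : ∀ v w : ZMod 3, w ≠ 0 → v * w * w = v := by decide
  have hexp : ∀ y ∈ h.Q, c.beta (q ^ i.val * p ^ j.val) y = i * c.beta q y + j * c.beta p y :=
    fun y hy => by
      rw [c.beta_mul_left (pow_mem hq _) (pow_mem hp _) hy, c.beta_pow_left hq hy,
        c.beta_pow_left hp hy, ZMod.natCast_zmod_val, ZMod.natCast_zmod_val]
  have hA : dq * (q ^ i.val * p ^ j.val)⁻¹ ∈ h.A := by
    refine c.ker_pair hq hqA (mul_mem hdq (inv_mem hx)) ?_ ?_
    · rw [c.beta_mul_left hdq (inv_mem hx) hq, c.beta_inv_left hx hq, hexp q hq, c.beta_symm hp hq,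
        hqp, mul_zero, add_zero, hee _ _ he, add_neg_cancel]
    · show c.beta _ p = 0
      rw [c.beta_mul_left hdq (inv_mem hx) hp, c.beta_inv_left hx hp, hexp p hp, hqp, hpp,
        mul_zero, zero_add, hee _ _ he, add_neg_cancel]
  have hdy : ∀ y ∈ h.Q, c.beta dq y = i * c.beta q y + j * c.beta p y := fun y hy => by
    rw [c.beta_congr hx hA hy, hexp y hy]
  have hnorm : e = i * c.beta dq q + j * c.beta dq p := by
    rw [c.beta_symm hdq hq, c.beta_symm hdq hp, ← hdy dq hdq, c.beta_D hd.1 hq hq]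
  have hcase := (show ∀ u v w : ZMod 3, w ≠ 0 → w = u * w * u + v * w * v →
    v = 0 ∧ (u = w ∨ u = -w) ∨ u = 0 ∧ v ≠ 0 by decide) (c.beta dq q) (c.beta dq p) e he hnorm
  rcases hcase with ⟨hj, hi⟩ | ⟨hi, hj⟩
  · exact hd.step c hb hq hqA hj hi
  -- the square acts as a sign
  set d2 := d * d
  have hd2 : c.InN b d2 := InN.mul c hd hd
  set ddq := d2 * q * d2⁻¹
  have hddq : ddq ∈ h.Q := h.conj_Q (h.CZ_le_NZ (c.D_CZ hd2.1)) hq
  have hdd : ddq = d * dq * d⁻¹ := by simp only [ddq, d2, dq]; group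
  have h2p : c.beta ddq p = 0 := by
    have h0 : c.beta ddq dq = 0 := by rw [hdd, c.beta_D hd.1 hdq hq]; exact hi
    rw [c.beta_symm hddq hdq, hdy ddq hddq, show i = 0 by simp [i, hi], zero_mul, zero_add,
      c.beta_symm hp hddq] at h0
    exact (mul_eq_zero.1 h0).resolve_left (mul_ne_zero hj he)
  have h2n : c.beta ddq q = e ∨ c.beta ddq q = -e :=
    (show ∀ u w : ZMod 3, w ≠ 0 → u ≠ 0 → u = w ∨ u = -w by decide) _ _ he fun h0 => by
      have hA2 := c.ker_pair hq hqA hddq h0 h2p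
      refine he ?_
      rw [hedef, ← c.beta_D hd2.1 hq hq, c.beta_A_left hA2 hddq]
  rcases hd2.step c hb hq hqA h2p h2n with hz | hz
  · -- an involution on `Q/A` without fixed points inverts
    left
    have hback : d * dq * d⁻¹ = q := by
      rw [← hdd]
      show d2 * q * d2⁻¹ = q
      rw [← h.Z_comm_Q hq hz, mul_inv_cancel_right]
    set u := q * dq
    by_cases huA : u ∈ h.A
    · exfalso
      have := c.beta_mul_left hq hdq hq
      rw [c.beta_A_left huA hq, hi, add_zero] at this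
      exact he this.symm
    · refine hd.fixed c hb (mul_mem hq hdq) huA ?_
      rw [show d * u * d⁻¹ = dq * (d * dq * d⁻¹) by simp only [u, dq]; group, hback,
        show dq * q * u⁻¹ = dq * q * dq⁻¹ * q⁻¹ by simp only [u]; group]
      exact (zpowers_le.2 h.z_mem_A : h.Z ≤ h.A) (h.Q_comm dq hdq q hq)
  · -- the product with an inverter of the second point
    exfalso
    obtain ⟨q', hq', hlT, hlz⟩ := c.exists_inverter_L0 hb
    set w : h.L0 := word ⟨c.z', c.z'_mem_L0⟩ b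
    set l : G := ((q' * w : h.L0) : G) with hl
    have hlC : l ∈ h.CZ := h.L0_le_CZ (SetLike.coe_mem _)
    have hwd : (w : G)⁻¹ * (d * w * d⁻¹) ∈ h.Q := hd.comm_word c w (by
      simp only [w, word]
      repeat' apply mul_mem
      all_goals exact Subgroup.subset_closure (by first | exact Or.inl rfl | exact Or.inr rfl))
    have hwN := h.CZ_le_NZ (h.L0_le_CZ w.2)
    have hld : d * l * d⁻¹ * l⁻¹ ∈ h.Q := by
      have e : d * l * d⁻¹ * l⁻¹ = (d * (q' : G) * d⁻¹) *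
          ((w : G) * ((w : G)⁻¹ * (d * w * d⁻¹)) * (w : G)⁻¹) * (q' : G)⁻¹ := by
        simp only [hl, Subgroup.coe_mul]; group
      rw [e]
      exact mul_mem (mul_mem (h.conj_Q (h.CZ_le_NZ hdC) hq') (h.conj_Q hwN hwd)) (inv_mem hq')
    have hll : l * l * c.T⁻¹ ∈ h.Q := by
      obtain ⟨hT, hpi⟩ := c.T_L0
      have hk : (q' * w) * (q' * w) * (⟨c.T, hT⟩ : h.L0)⁻¹ ∈ h.piL.ker := by
        have hq1 : h.piL q' = 1 := by
          rw [← MonoidHom.mem_ker, h.piL_ker, mem_subgroupOf]; exact hq'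
        rw [MonoidHom.mem_ker, map_mul, map_mul, map_mul, map_inv, hq1, one_mul, hpi, mul_inv_eq_one]
        simp only [w, word, map_mul]
        exact (genPair_words _ c.a0_facts.1 c.a0_facts.2 _ hb).2.2.1
      rwa [h.piL_ker, mem_subgroupOf] at hk
    set σ := l * d
    refine c.no_anti_involution (σ := σ) (h.CZ_le_NZ (mul_mem hlC hdC)) 1 (-1)
      (by rw [zpow_one]; exact mul_inv_eq_iff_eq_mul.2 (h.mem_CZ.1 (mul_mem hlC hdC)))
      (by rw [show σ * c.z' * σ⁻¹ = l * (d * c.z' * d⁻¹) * l⁻¹ by simp only [σ]; group,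
        mul_inv_eq_iff_eq_mul.2 (c.mem_D.1 hd.1).2.2, zpow_neg_one]; exact hlz)
      (by norm_num) (by norm_num) fun x hx => ?_
    have hσσ : σ * σ ∈ h.Q := by
      have e : σ * σ = (l * (d * l * d⁻¹ * l⁻¹) * l⁻¹) * ((l * l * c.T⁻¹) * (c.T * d2)) := by
        simp only [σ, d2]; group
      rw [e]
      exact mul_mem (h.conj_Q (h.CZ_le_NZ hlC) hld)
        (mul_mem hll ((zpowers_le.2 h.z_mem_Q : h.Z ≤ h.Q) hz))
    rw [show σ * (σ * x * σ⁻¹) * σ⁻¹ * x⁻¹ = σ * σ * x * (σ * σ)⁻¹ * x⁻¹ by group]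
    exact (zpowers_le.2 h.z_mem_A : h.Z ≤ h.A) (h.Q_comm _ hσσ x hx)

theorem card_D_le : Nat.card c.D ≤ 36 := by
  classical
  haveI := Fintype.ofFinite G
  obtain ⟨b, hb⟩ := c.exists_gen
  let φ : c.D → SL5 := fun d =>
    h.piL ⟨(d : G) * b * (d : G)⁻¹, h.conj_L0 (h.CZ_le_NZ (c.D_CZ d.2)) b.2⟩
  have hφ : ∀ d : c.D, GenPair c.a0 (φ d) := by
    intro d
    obtain ⟨hT, hpi⟩ := c.T_L0
    have hN := h.CZ_le_NZ (c.D_CZ d.2)
    constructor
    · show h.piL _ ^ 3 = 1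
      rw [← map_pow, ← MonoidHom.mem_ker, h.piL_ker, mem_subgroupOf]
      have hk : b ^ 3 ∈ h.piL.ker := by rw [MonoidHom.mem_ker, map_pow]; exact hb.1
      rw [h.piL_ker, mem_subgroupOf] at hk
      show ((d : G) * b * (d : G)⁻¹) ^ 3 ∈ h.Q
      rw [conj_pow]
      exact h.conj_Q hN hk
    · show (c.a0 * h.piL _) ^ 5 = -1
      rw [← hpi, ← map_mul, ← map_pow, h.piL_eq_iff]
      have hk := (h.piL_eq_iff ((⟨c.z', c.z'_mem_L0⟩ * b : h.L0) ^ 5).2 hT).1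
        (by show h.piL _ = h.piL _; rw [map_pow, map_mul, hpi]; exact hb.2)
      simp only [Subgroup.coe_pow, Subgroup.coe_mul] at hk ⊢
      have e1 : c.z' * ((d : G) * b * (d : G)⁻¹) = (d : G) * (c.z' * b) * (d : G)⁻¹ := by
        rw [show (d : G) * (c.z' * b) * (d : G)⁻¹ = ((d : G) * c.z' * (d : G)⁻¹) * ((d : G) * b * (d : G)⁻¹)
          by group, mul_inv_eq_iff_eq_mul.2 (c.mem_D.1 d.2).2.2]
      rw [e1, conj_pow]
      have e2 : c.T⁻¹ * ((d : G) * (c.z' * b) ^ 5 * (d : G)⁻¹) =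
          (d : G) * (c.T⁻¹ * (c.z' * b) ^ 5) * (d : G)⁻¹ := by
        have h1 : (d : G) * c.T⁻¹ = c.T⁻¹ * d :=
          ((show Commute (d : G) c.T from (c.mem_D.1 d.2).2.1).inv_right).eq
        rw [← mul_assoc (d : G) c.T⁻¹, h1]
        simp only [mul_assoc]
      rw [e2]
      exact h.conj_Q hN hk
  have himg : (Finset.univ.image φ).card ≤ 6 := by
    rw [← genPair_count _ c.a0_facts.1 c.a0_facts.2]
    refine Finset.card_le_card fun x hx => ?_
    obtain ⟨d, -, rfl⟩ := Finset.mem_image.1 hx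
    exact Finset.mem_filter.2 ⟨Finset.mem_univ _, hφ d⟩
  have hfib : ∀ x ∈ Finset.univ.image φ, (Finset.univ.filter fun d => φ d = x).card ≤ 6 := by
    intro x hx
    obtain ⟨d0, -, rfl⟩ := Finset.mem_image.1 hx
    let g : Fin 3 × Fin 2 → G := fun t => (d0 : G) * (c.T ^ (t.2 : ℕ) * h.z ^ (t.1 : ℕ))
    have hsub : (Finset.univ.filter fun d => φ d = φ d0).image (fun d : c.D => (d : G)) ⊆
        Finset.univ.image g := by
      intro y hy
      obtain ⟨d, hd, rfl⟩ := Finset.mem_image.1 hy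
      have hd0N := h.CZ_le_NZ (c.D_CZ d0.2)
      have hN : c.InN b ((d0 : G)⁻¹ * d) := by
        refine ⟨mul_mem (inv_mem d0.2) d.2, ?_⟩
        have hk := (h.piL_eq_iff _ _).1 (Finset.mem_filter.1 hd).2
        have := h.conj_Q (inv_mem hd0N) hk
        rw [inv_inv] at this
        convert this using 1
        group
      have hzz : ∀ x ∈ h.Z, ∃ i : Fin 3, x = h.z ^ (i : ℕ) := fun x hx => by
        obtain ⟨n, hn⟩ := mem_zpowers_iff.1 hx
        refine ⟨⟨(n % 3).toNat, by omega⟩, ?_⟩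
        rw [← zpow_natCast]
        show x = h.z ^ (((n % 3).toNat : ℕ) : ℤ)
        rw [Int.toNat_of_nonneg (by omega), ← hn]
        conv_lhs => rw [← zpow_mod_orderOf, h.z_order]
        rfl
      rcases hN.small c hb with hz | hz
      · obtain ⟨i, hi⟩ := hzz _ hz
        exact Finset.mem_image.2 ⟨(i, 0), Finset.mem_univ _, by simp [g, ← hi]⟩
      · obtain ⟨i, hi⟩ := hzz _ hz
        refine Finset.mem_image.2 ⟨(i, 1), Finset.mem_univ _, ?_⟩
        show (d0 : G) * (c.T ^ 1 * h.z ^ (i : ℕ)) = d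
        rw [pow_one, ← hi, ← mul_assoc c.T, c.T_sq, one_mul, mul_inv_cancel_left]
    have h1 := (Finset.card_le_card hsub).trans Finset.card_image_le
    rw [Finset.card_image_of_injective _ Subtype.val_injective, Finset.card_univ, Fintype.card_prod,
      Fintype.card_fin, Fintype.card_fin] at h1
    exact h1
  rw [Nat.card_eq_fintype_card, ← Finset.card_univ]
  exact (Finset.card_le_mul_card_image Finset.univ 6 hfib).trans (by omega)

theorem card_DL0 : 18 ≤ Nat.card ↥(c.D ⊓ h.L0) := by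
  obtain ⟨hT, -⟩ := c.T_L0
  have hE : c.E ≤ c.D ⊓ h.L0 := fun e he => ⟨c.mem_D.2 ⟨h.z_central (h.J_le he.1),
    mem_centralizer_singleton_iff.1 he.2, h.J_comm e he.1 _ c.z'_mem_E.1⟩, h.S_le_L0 (h.J_le he.1)⟩
  let f : c.E × Fin 2 → ↥(c.D ⊓ h.L0) := fun t =>
    ⟨(t.1 : G) * c.T ^ (t.2 : ℕ), mul_mem (hE t.1.2) (pow_mem (⟨c.T_mem_D, hT⟩ : c.T ∈ c.D ⊓ h.L0) _)⟩
  have hnE : c.T ∉ h.J := fun hJ => c.T_ne (by
    have h3 := h.J_exp _ hJ
    rwa [pow_succ, pow_two, c.T_sq, one_mul] at h3)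
  have hinj : Function.Injective f := by
    rintro ⟨⟨e, he⟩, i⟩ ⟨⟨e', he'⟩, i'⟩ hf
    have e0 : e * c.T ^ (i : ℕ) = e' * c.T ^ (i' : ℕ) := congrArg Subtype.val hf
    fin_cases i <;> fin_cases i' <;> simp at e0
    · subst e0; rfl
    · exact absurd (by
        have := h.J.mul_mem (h.J.inv_mem he'.1) he.1
        rwa [e0, inv_mul_cancel_left] at this) hnE
    · exact absurd (by
        have := h.J.mul_mem (h.J.inv_mem he.1) he'.1
        rwa [← e0, inv_mul_cancel_left] at this) hnE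
    · subst e0; rfl
  have := Nat.card_le_card_of_injective f hinj
  rwa [Nat.card_prod, c.card_E, Nat.card_fin] at this

include c in
/-- The centraliser of `z` has `L0` with index at most two. -/
theorem card_CZ : Nat.card h.CZ = Nat.card h.L0 ∨ Nat.card h.CZ = 2 * Nat.card h.L0 := by
  choose k hk d hd he using fun g : h.CZ => c.CZ_decomp g.2
  let F : h.CZ × ↥(c.D ⊓ h.L0) → h.L0 × c.D := fun t =>
    (⟨k t.1 * (t.2 : G), mul_mem (hk t.1) t.2.2.2⟩, ⟨(t.2 : G)⁻¹ * d t.1, mul_mem (inv_mem t.2.2.1) (hd t.1)⟩)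
  have hinj : Function.Injective F := by
    rintro ⟨g, n⟩ ⟨g', n'⟩ hF
    have e1 : k g * (n : G) = k g' * (n' : G) := congrArg (fun t => (t.1 : G)) hF
    have e2 : (n : G)⁻¹ * d g = (n' : G)⁻¹ * d g' := congrArg (fun t => (t.2 : G)) hF
    have eg : g = g' := by
      refine Subtype.ext ?_
      rw [he g, he g', show k g * d g = (k g * (n : G)) * ((n : G)⁻¹ * d g) by group, e1, e2]
      group
    subst eg
    rw [Subtype.ext (mul_left_cancel e1)]
  have h1 := Nat.card_le_card_of_injective F hinj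
  rw [Nat.card_prod, Nat.card_prod] at h1
  have h2 := c.card_D_le
  have h3 := c.card_DL0
  have h4 : Nat.card h.CZ * 18 ≤ Nat.card h.L0 * 36 :=
    (Nat.mul_le_mul_left _ h3).trans (h1.trans (Nat.mul_le_mul_left _ h2))
  obtain ⟨m, hm⟩ := Subgroup.card_dvd_of_le h.L0_le_CZ
  have hpos : 0 < Nat.card h.L0 := Nat.card_pos
  have hposC : 0 < Nat.card h.CZ := Nat.card_pos
  have hm2 : m ≤ 2 := by
    by_contra hc
    have : Nat.card h.L0 * 3 ≤ Nat.card h.L0 * m := Nat.mul_le_mul_left _ (by omega)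
    omega
  interval_cases m
  · omega
  · exact Or.inl (by omega)
  · exact Or.inr (by omega)

end Coords

end CfsgLib.Recog.McLThree
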