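import Mathlib.GroupTheory.SpecificGroups.Alternating.Simple
import Mathlib.GroupTheory.Sylow
import Mathlib.Tactic

/-!
The even part of `S3 × S5`, recognised from a normal alternating subgroup of degree five centralised by an
inverted element of order three.
-/

set_option autoImplicit false
set_option linter.style.haveILetI false
set_option Elab.async false

namespace CfsgLib.Recog.McLThree

open Equiv Subgroup

/-- The pairs of permutations of three and five letters with equal signs. -/
abbrev KerSign : Subgroup (Perm (Fin 3) × Perm (Fin 5)) :=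
  (((Equiv.Perm.sign).comp (MonoidHom.fst (Equiv.Perm (Fin 3)) (Equiv.Perm (Fin 5)))) *
    ((Equiv.Perm.sign).comp (MonoidHom.snd (Equiv.Perm (Fin 3)) (Equiv.Perm (Fin 5))))).ker

/-- The alternating group of degree five. -/
abbrev A5 := alternatingGroup (Fin 5)

/-- The four elements fixing the last letter and of square one. -/
def InV (g : A5) : Prop := (g : Perm (Fin 5)) 4 = 4 ∧ g * g = 1

instance : DecidablePred InV := fun _ => inferInstanceAs (Decidable (_ ∧ _))

set_option maxRecDepth 100000 in
theorem inV_facts : InV 1 ∧ (∀ a b : A5, InV a → InV b → InV (a * b)) ∧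
    Fintype.card {g : A5 // InV g} = 4 ∧
    Fintype.card {g : A5 // ∀ x : A5, InV x ↔ InV (g * x * g⁻¹)} = 12 ∧ Fintype.card A5 = 60 := by
  decide +kernel

theorem perm3_facts : (∀ c x : Perm (Fin 3), c ^ 3 = 1 → c ≠ 1 → Perm.sign x = 1 →
    ∃ k : Fin 3, x = c ^ (k : ℕ)) := by decide +kernel

/-- The Klein four-group fixing the last letter. -/
def V5 : Subgroup A5 where
  carrier := {g | InV g}
  one_mem' := inV_facts.1
  mul_mem' {a b} ha hb := inV_facts.2.1 a b ha hb
  inv_mem' {a} ha := by
    show InV a⁻¹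
    rw [inv_eq_of_mul_eq_one_right ha.2]
    exact ha

theorem card_sylow_two_A5 : Nat.card (Sylow 2 A5) = 5 := by
  haveI : Fact (Nat.Prime 2) := ⟨by norm_num⟩
  have hA : Nat.card A5 = 60 := by rw [Nat.card_eq_fintype_card]; exact inV_facts.2.2.2.2
  have hV : Nat.card V5 = 4 := by
    rw [← inV_facts.2.2.1, ← Nat.card_eq_fintype_card]; rfl
  let P : Sylow 2 A5 := Sylow.ofCard V5 (by
    rw [hV, hA, show (60 : ℕ) = 2 ^ 2 * 15 by norm_num, Nat.factorization_mul (by norm_num) (by norm_num),
      Finsupp.add_apply, Nat.Prime.factorization_pow (by norm_num), Finsupp.single_eq_same,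
      Nat.factorization_eq_zero_of_not_dvd (show ¬ 2 ∣ 15 by norm_num)]
    norm_num)
  have hN : Nat.card (normalizer (V5 : Set A5)) = 12 := by
    rw [← inV_facts.2.2.2.1, ← Nat.card_eq_fintype_card]
    refine Nat.card_congr (Equiv.subtypeEquivRight fun g => ?_)
    rw [mem_normalizer_iff]
    rfl
  have h := card_mul_index (normalizer (V5 : Set A5))
  rw [hN, hA] at h
  rw [Sylow.card_eq_index_normalizer P]
  show (normalizer (V5 : Set A5)).index = 5
  omega

variable {N : Type*} [Group N] [Finite N]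

/-- A group of order six with two non-commuting elements is the symmetric group of degree three. -/
theorem exists_perm_three {Q : Type*} [Group Q] [Finite Q] (hQ : Nat.card Q = 6) {a b : Q}
    (hab : a * b ≠ b * a) : ∃ f : Q →* Perm (Fin 3), Function.Bijective f := by
  classical
  haveI : Fact (Nat.Prime 2) := ⟨by norm_num⟩
  obtain ⟨o, ho⟩ := exists_prime_orderOf_dvd_card' 2 (G := Q) (by rw [hQ]; norm_num)
  set O := zpowers o with hOdef
  have hO : Nat.card O = 2 := by rw [hOdef, Nat.card_zpowers, ho]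
  have hi : O.index = 3 := by
    have h := card_mul_index O
    rw [hO, hQ] at h
    omega
  have hq3 : Nat.card (Q ⧸ O) = 3 := hi
  let e : Q ⧸ O ≃ Fin 3 := Finite.equivFinOfCardEq hq3
  let f : Q →* Perm (Fin 3) := e.permCongrHom.toMonoidHom.comp (MulAction.toPermHom Q (Q ⧸ O))
  have hker : f.ker = O.normalCore := by
    rw [normalCore_eq_ker]
    exact MonoidHom.ker_comp_of_injective _ _ e.permCongrHom.injective
  have hbot : O.normalCore = ⊥ := by
    rcases (Nat.prime_two.eq_one_or_self_of_dvd _ (hO ▸ Subgroup.card_dvd_of_le (normalCore_le O))) with h1 | h2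
    · exact Subgroup.card_eq_one.1 h1
    · exfalso
      have heq : O.normalCore = O := eq_of_le_of_card_ge (normalCore_le O) (by rw [h2, hO])
      haveI hn : O.Normal := heq ▸ normalCore_normal O
      have hc : ∀ g : Q, g * o = o * g := by
        intro g
        obtain ⟨k, hk⟩ := mem_zpowers_iff.1 (hn.conj_mem o (mem_zpowers o) g)
        rcases Int.emod_two_eq k with hk' | hk'
        · rw [← zpow_mod_orderOf, ho, show k % ((2 : ℕ) : ℤ) = 0 from hk', zpow_zero] at hk
          exfalso
          have : o = 1 := by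
            calc o = g⁻¹ * (g * o * g⁻¹) * g := by group
              _ = 1 := by rw [← hk]; group
          rw [this, orderOf_one] at ho
          omega
        · rw [← zpow_mod_orderOf, ho, show k % ((2 : ℕ) : ℤ) = 1 from hk', zpow_one] at hk
          calc g * o = g * o * g⁻¹ * g := by group
            _ = o * g := by rw [← hk]
      haveI : Fact (Nat.Prime (Nat.card (Q ⧸ O))) := ⟨hq3 ▸ Nat.prime_three⟩
      haveI : IsCyclic (Q ⧸ O) := isCyclic_of_prime_card (p := 3) hq3
      have hle : (QuotientGroup.mk' O).ker ≤ center Q := by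
        rw [QuotientGroup.ker_mk', hOdef, zpowers_le, mem_center_iff]
        exact hc
      exact hab (commutative_of_cyclic_center_quotient (QuotientGroup.mk' O) hle a b)
  have hinj : Function.Injective f := (MonoidHom.ker_eq_bot_iff f).1 (hker.trans hbot)
  refine ⟨f, hinj.bijective_of_nat_card_le ?_⟩
  rw [hQ, Nat.card_eq_fintype_card, Fintype.card_perm, Fintype.card_fin]
  rfl

/-- The chart. -/
theorem exists_kerSign_equiv (hcard : Nat.card N = 360) (K : Subgroup N) [hKn : K.Normal]
    (eK : Nonempty (K ≃* alternatingGroup (Fin 5))) (z w : N) (hz : orderOf z = 3)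
    (hzK : ∀ k ∈ K, z * k = k * z) (hw : w * z * w⁻¹ = z⁻¹)
    (hC : centralizer (K : Set N) ≤ zpowers z) : Nonempty (N ≃* KerSign) := by
  classical
  obtain ⟨eK⟩ := eK
  haveI : Fact (Nat.Prime 2) := ⟨by norm_num⟩
  haveI hA5 : IsSimpleGroup A5 := inferInstance
  haveI : Nontrivial K := eK.toEquiv.nontrivial
  haveI hKs : IsSimpleGroup K := IsSimpleGroup.isSimpleGroup_of_surjective eK.symm.toMonoidHom eK.symm.surjective
  have hA : Nat.card A5 = 60 := by rw [Nat.card_eq_fintype_card]; exact inV_facts.2.2.2.2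
  have hKcard : Nat.card K = 60 := by rw [Nat.card_congr eK.toEquiv, hA]
  have hzne : z ≠ z⁻¹ := fun e => by
    have h2 : z ^ 2 = 1 := by rw [pow_two]; nth_rewrite 2 [e]; exact mul_inv_cancel z
    have := Nat.le_of_dvd (by norm_num) (orderOf_dvd_of_pow_eq_one h2)
    omega
  -- the centre of `K` is trivial
  have hKc : ∀ k ∈ K, (∀ l ∈ K, k * l = l * k) → k = 1 := by
    intro k hk hkl
    rcases IsSimpleGroup.eq_bot_or_eq_top_of_normal (center K) inferInstance with e | e
    · have : (⟨k, hk⟩ : K) ∈ center K := mem_center_iff.2 fun l => Subtype.ext (hkl l l.2).symm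
      rw [e, mem_bot] at this
      exact congrArg Subtype.val this
    · exfalso
      have hcomm : ∀ a b : A5, a * b = b * a := fun a b => eK.symm.injective (by
        rw [map_mul, map_mul]
        exact (mem_center_iff.1 (e ▸ mem_top (eK.symm a)) (eK.symm b)).symm)
      have hd : ¬ ∀ a b : A5, InV a → InV b → a * b * a⁻¹ = b → InV (a * b) := by
        intro _
        exact absurd hcomm (by decide +kernel)
      exact hd fun a b ha hb _ => inV_facts.2.1 a b ha hb
  have hzK' : z ∉ K := fun h => by
    have h1 := hKc z h hzK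
    rw [h1, orderOf_one] at hz
    omega
  -- the action on the five Sylow subgroups of `K`
  let φ : N →* MulAut K := MulAut.conjNormal
  have h5 : Nat.card (Sylow 2 K) = 5 := by
    rw [← card_sylow_two_A5]
    exact le_antisymm
      (Nat.card_le_card_of_surjective _ (Sylow.mapSurjective_surjective (f := eK.symm.toMonoidHom) eK.symm.surjective 2))
      (Nat.card_le_card_of_surjective _ (Sylow.mapSurjective_surjective (f := eK.toMonoidHom) eK.surjective 2))
  let e5 : Sylow 2 K ≃ Fin 5 := Finite.equivFinOfCardEq h5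
  let f2 : N →* Perm (Fin 5) :=
    e5.permCongrHom.toMonoidHom.comp ((MulAction.toPermHom (MulAut K) (Sylow 2 K)).comp φ)
  have hf2 : ∀ n : N, f2 n = 1 ↔ ∀ P : Sylow 2 K, φ n • P = P := by
    intro n
    show e5.permCongrHom (MulAction.toPermHom (MulAut K) (Sylow 2 K) (φ n)) = 1 ↔ _
    rw [EmbeddingLike.map_eq_one_iff, Equiv.ext_iff]
    exact Iff.rfl
  have hφK : ∀ (k : K) (P : Sylow 2 K), φ (k : N) • P = k • P := by
    intro k P
    rw [Sylow.smul_def]
    congr 1
    exact MulEquiv.ext fun l => Subtype.ext rfl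
  have hK1 : ∀ n : N, n ∈ K → f2 n = 1 → n = 1 := by
    intro n hn h1
    have hfix : f2.ker.subgroupOf K ≠ ⊤ := by
      intro e
      have hfixall : ∀ (k : K) (P : Sylow 2 K), k • P = P := fun k P => by
        rw [← hφK]
        exact (hf2 k).1 (e ▸ mem_top k : k ∈ f2.ker.subgroupOf K) P
      have hsub : Subsingleton (Sylow 2 K) := ⟨fun P P' => by
        obtain ⟨k, hk⟩ := MulAction.exists_smul_eq K P P'
        rw [← hk, hfixall]⟩
      have := (Nat.card_eq_one_iff_unique).2 ⟨hsub, inferInstance⟩
      omega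
    have hmem : (⟨n, hn⟩ : K) ∈ f2.ker.subgroupOf K := h1
    rw [(IsSimpleGroup.eq_bot_or_eq_top_of_normal _ inferInstance).resolve_right hfix, mem_bot] at hmem
    exact congrArg Subtype.val hmem
  have hker : ∀ n : N, f2 n = 1 → n ∈ zpowers z := by
    intro n hn
    refine hC (mem_centralizer_iff.2 fun k hk => ?_)
    have hc : n * k * n⁻¹ * k⁻¹ = 1 := hK1 _ (mul_mem (hKn.conj_mem k hk n) (inv_mem hk)) (by
      rw [map_mul, map_mul, map_mul, map_inv, map_inv, hn, one_mul, inv_one, mul_one, mul_inv_cancel])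
    calc k * n = (n * k * n⁻¹ * k⁻¹) * k * n := by rw [hc, one_mul]
      _ = n * k := by group
  have hz3 : Nat.card (zpowers z) = 3 := by rw [Nat.card_zpowers, hz]
  have hP5 : Nat.card (Perm (Fin 5)) = 120 := by
    rw [Nat.card_eq_fintype_card, Fintype.card_perm, Fintype.card_fin]; rfl
  have hk2 : Nat.card f2.ker ≤ 3 := hz3 ▸ Subgroup.card_le_of_le (fun n hn => hker n hn)
  have hr2 := card_mul_index f2.ker
  rw [index_ker, hcard] at hr2
  have hr2le : Nat.card f2.range ≤ 120 := hP5 ▸ Subgroup.card_le_card_group f2.range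
  have hkeq : Nat.card f2.ker = 3 := by nlinarith
  have hf2s : Function.Surjective f2 := by
    rw [← MonoidHom.range_eq_top]
    refine eq_top_of_card_eq _ ?_
    rw [hP5]; rw [hkeq] at hr2; omega
  have hzker : f2 z = 1 := by
    have e : f2.ker = zpowers z := eq_of_le_of_card_ge (fun n hn => hker n hn) (by rw [hkeq, hz3])
    exact MonoidHom.mem_ker.1 (e.symm ▸ mem_zpowers z)
  -- the action on `N/K`
  have hQ : Nat.card (N ⧸ K) = 6 := by
    have h := card_mul_index K
    rw [hKcard, hcard] at h
    show K.index = 6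
    omega
  have hab : (QuotientGroup.mk w : N ⧸ K) * QuotientGroup.mk z ≠ QuotientGroup.mk z * QuotientGroup.mk w := by
    intro e
    rw [← QuotientGroup.mk_mul, ← QuotientGroup.mk_mul, QuotientGroup.eq] at e
    have h1 : (w * z)⁻¹ * (z * w) = (z⁻¹ * w)⁻¹ * (z * w) := by rw [← hw]; group
    rw [h1] at e
    have h2 : w * ((z⁻¹ * w)⁻¹ * (z * w)) * w⁻¹ = z * z := by group
    have hzz : z * z ∈ K := h2 ▸ hKn.conj_mem _ e w
    refine hzK' ?_
    have h3 : z = (z * z) * (z * z) := by
      have := pow_orderOf_eq_one z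
      rw [hz, pow_succ, pow_two] at this
      calc z = z * z * z * z := by rw [this, one_mul]
        _ = _ := by group
    rw [h3]; exact mul_mem hzz hzz
  obtain ⟨f0, hf0⟩ := exists_perm_three hQ hab
  let f1 : N →* Perm (Fin 3) := f0.comp (QuotientGroup.mk' K)
  have hf1K : ∀ n : N, f1 n = 1 ↔ n ∈ K := fun n => by
    rw [← QuotientGroup.eq_one_iff (N := K) n]
    exact ⟨fun h => hf0.1 (h.trans (map_one f0).symm), fun h => by
      show f0 (QuotientGroup.mk' K n) = 1
      rw [QuotientGroup.mk'_apply, h, map_one]⟩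
  have hz31 : z ^ 3 = 1 := by
    have := pow_orderOf_eq_one z
    rwa [hz] at this
  have hf1z : f1 z ≠ 1 ∧ f1 z ^ 3 = 1 := ⟨fun h => hzK' ((hf1K z).1 h), by
    rw [← map_pow, hz31, map_one]⟩
  have hs1z : Perm.sign (f1 z) = 1 := by
    have h := congrArg Perm.sign hf1z.2
    rw [map_pow, map_one] at h
    rcases Int.units_eq_one_or (Perm.sign (f1 z)) with e | e
    · exact e
    · rw [e] at h; exact absurd h (by decide)
  have hevenK : ∀ x : Perm (Fin 5), Perm.sign x = 1 → ∃ k ∈ K, f2 k = x := by
    let ψ : K →* Perm (Fin 5) := f2.comp K.subtype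
    have hψi : Function.Injective ψ := by
      rw [← MonoidHom.ker_eq_bot_iff, eq_bot_iff]
      exact fun k hk => mem_bot.2 (Subtype.ext (hK1 k k.2 hk))
    have hle : ψ.range ≤ alternatingGroup (Fin 5) := by
      rintro _ ⟨k, rfl⟩
      rw [Perm.mem_alternatingGroup]
      rcases IsSimpleGroup.eq_bot_or_eq_top_of_normal (Perm.sign.comp ψ).ker inferInstance with e | e
      · exfalso
        have := Nat.card_le_card_of_injective (Perm.sign.comp ψ) ((MonoidHom.ker_eq_bot_iff _).1 e)
        rw [hKcard, Nat.card_eq_fintype_card, Fintype.card_units_int] at this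
        omega
      · exact MonoidHom.mem_ker.1 (e ▸ mem_top k : k ∈ (Perm.sign.comp ψ).ker)
    have heq : ψ.range = alternatingGroup (Fin 5) := eq_of_le_of_card_ge hle (by
      rw [← Nat.card_congr (MonoidHom.ofInjective hψi).toEquiv, hKcard, hA])
    intro x hx
    obtain ⟨k, hk⟩ : x ∈ ψ.range := heq ▸ Perm.mem_alternatingGroup.2 hx
    exact ⟨k, k.2, hk⟩
  have heven : ∀ n : N, Perm.sign (f2 n) = 1 → Perm.sign (f1 n) = 1 := by
    intro n hn
    obtain ⟨k, hk, e⟩ := hevenK _ hn
    have hm : n * k⁻¹ ∈ zpowers z := hker _ (by rw [map_mul, map_inv, e, mul_inv_cancel])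
    obtain ⟨i, hi⟩ := mem_zpowers_iff.1 hm
    rw [show n = z ^ i * k by rw [hi, inv_mul_cancel_right], map_mul, (hf1K k).2 hk, mul_one, map_zpow,
      map_zpow, hs1z, one_zpow]
  have hsign : ∀ n : N, Perm.sign (f1 n) = Perm.sign (f2 n) := by
    intro n
    rcases Int.units_eq_one_or (Perm.sign (f2 n)) with e | e
    · rw [e, heven n e]
    · obtain ⟨s, hs⟩ := hf0.2 (swap 0 1)
      obtain ⟨n0, rfl⟩ := QuotientGroup.mk'_surjective K s
      have hn0 : Perm.sign (f1 n0) = -1 := by
        show Perm.sign (f0 (QuotientGroup.mk' K n0)) = -1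
        rw [hs]; exact Perm.sign_swap (by decide)
      have hn0' : Perm.sign (f2 n0) = -1 := (Int.units_eq_one_or _).resolve_left fun h => by
        rw [heven n0 h] at hn0; exact absurd hn0 (by decide)
      have := heven (n * n0) (by rw [map_mul, map_mul, e, hn0']; rfl)
      rw [map_mul, map_mul, hn0] at this
      rw [e]
      rcases Int.units_eq_one_or (Perm.sign (f1 n)) with h | h
      · rw [h] at this; exact absurd this (by decide)
      · exact h
  have hmem : ∀ n : N, (f1 n, f2 n) ∈ KerSign := by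
    intro n
    rw [MonoidHom.mem_ker]
    show Perm.sign (f1 n) * Perm.sign (f2 n) = 1
    rw [hsign]; exact Int.units_mul_self _
  let F : N →* KerSign := (f1.prod f2).codRestrict KerSign hmem
  refine ⟨MulEquiv.ofBijective F ⟨?_, ?_⟩⟩
  · rw [← MonoidHom.ker_eq_bot_iff, eq_bot_iff]
    intro n hn
    rw [MonoidHom.mem_ker] at hn
    have h1 : f1 n = 1 := congrArg (fun x : KerSign => x.1.1) hn
    have h2 : f2 n = 1 := congrArg (fun x : KerSign => x.1.2) hn
    exact mem_bot.2 (hK1 n ((hf1K n).1 h1) h2)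
  · rintro ⟨⟨a, b⟩, hab'⟩
    rw [MonoidHom.mem_ker] at hab'
    replace hab' : Perm.sign a * Perm.sign b = 1 := hab'
    obtain ⟨n, hn⟩ := hf2s b
    have hx : Perm.sign (a * (f1 n)⁻¹) = 1 := by
      rw [map_mul, map_inv, hsign, hn, Int.units_inv_eq_self]; exact hab'
    obtain ⟨k, hk⟩ := perm3_facts _ _ hf1z.2 hf1z.1 hx
    refine ⟨z ^ (k : ℕ) * n, Subtype.ext (Prod.ext ?_ ?_)⟩
    · show f1 (z ^ (k : ℕ) * n) = a
      rw [map_mul, map_pow, ← hk, inv_mul_cancel_right]
    · show f2 (z ^ (k : ℕ) * n) = b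
      rw [map_mul, map_pow, hzker, one_pow, one_mul, hn]

end CfsgLib.Recog.McLThree
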