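import Cfsg.Agent.Lib.Recog.McLThree.Action

/-!
Coordinates on `M0/J`: the elements `w` of order four, `t = w²` and the involution `u`.
-/

set_option autoImplicit false
set_option linter.style.haveILetI false
set_option linter.unusedSectionVars false

namespace CfsgLib.Recog.McLThree

open Subgroup

variable {G : Type*} [Group G] [Finite G]

theorem InP0.mul {x y : A6} (hx : InP0 x) (hy : InP0 y) : InP0 (x * y) := by
  obtain ⟨a, b, rfl⟩ := p0_mul x hx
  obtain ⟨c, d, rfl⟩ := p0_mul y hy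
  exact p0_mul_closed a b c d

/-- The Sylow subgroup of the alternating group of degree six. -/
def P0 : Subgroup A6 where
  carrier := {g | InP0 g}
  one_mem' := p0_gens.2.2
  mul_mem' := InP0.mul
  inv_mem' := fun {x} hx => by
    have h3 : x ^ 3 = 1 := hx.2
    have : x⁻¹ = x * x := inv_eq_of_mul_eq_one_right (by rw [← mul_assoc, ← h3, pow_succ, pow_two])
    show InP0 x⁻¹
    rw [this]
    exact InP0.mul hx hx

theorem card_P0 : Nat.card P0 = 9 := by
  show Nat.card {g : A6 // InP0 g} = 9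
  rw [Nat.card_eq_fintype_card]
  exact p0_card

/-- An element dividing out `g` modulo `t`: two involutions with product of order three are conjugate
by it. -/
theorem conj_invol {t t' : G} (h2 : t * t = 1) (h2' : t' * t' = 1) (h3 : (t * t') ^ 3 = 1) :
    (t * t') * t * (t * t')⁻¹ = t' := by
  have ht : t⁻¹ = t := inv_eq_of_mul_eq_one_right h2
  have ht' : t'⁻¹ = t' := inv_eq_of_mul_eq_one_right h2'
  have h3' : t * t' * t * t' * t * t' = 1 := by
    rw [← h3, pow_succ, pow_two]; simp only [mul_assoc]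
  rw [mul_inv_rev, ht, ht']
  calc t * t' * t * (t' * t) = t * t' * t * t' * t * (t' * t') := by rw [h2', mul_one]; simp only [mul_assoc]
    _ = t * t' * t * t' * t * t' * t' := by simp only [mul_assoc]
    _ = t' := by rw [h3', one_mul]

namespace Hyp

variable (h : Hyp G)

theorem M0_le_normJ : h.M0 ≤ normalizer (h.J : Set G) := by
  rw [h.M0_eq, closure_le]
  rintro g ⟨hg, -⟩
  exact hg

theorem conj_J {g x : G} (hg : g ∈ normalizer (h.J : Set G)) (hx : x ∈ h.J) : g * x * g⁻¹ ∈ h.J :=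
  (mem_normalizer_iff.1 hg x).1 hx

/-- A member of the normaliser of `Z` fixes or inverts its generator. -/
theorem z_conj {g : G} (hg : g ∈ h.NZ) : g * h.z * g⁻¹ = h.z ∨ g * h.z * g⁻¹ = h.z⁻¹ := by
  obtain ⟨n, hn⟩ := mem_zpowers_iff.1 ((mem_normalizer_iff.1 hg h.z).1 (mem_zpowers h.z))
  have e : g * h.z * g⁻¹ = h.z ^ (n % 3) := by
    rw [← hn, show (3 : ℤ) = (orderOf h.z : ℕ) by rw [h.z_order]; rfl, zpow_mod_orderOf]
  have h0 : n % 3 = 0 ∨ n % 3 = 1 ∨ n % 3 = 2 := by omega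
  rcases h0 with e0 | e0 | e0 <;> rw [e0] at e
  · exact absurd (conj_eq_one_iff.1 (e.trans (zpow_zero h.z))) h.z_ne
  · exact Or.inl (by simpa using e)
  · refine Or.inr (e.trans (eq_inv_of_mul_eq_one_left ?_))
    rw [show (2 : ℤ) = ((2 : ℕ) : ℤ) from rfl, zpow_natCast, ← pow_succ, h.z_cube]

theorem normS_le_NZ : normalizer ((h.S : Subgroup G) : Set G) ≤ h.NZ := by
  intro g hg
  have hf : ∀ k ∈ normalizer ((h.S : Subgroup G) : Set G), ∀ x ∈ h.Z, k * x * k⁻¹ ∈ h.Z := by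
    intro k hk x hx
    refine h.Z_eq.le ⟨(mem_normalizer_iff.1 hk x).1 (h.Z_eq.ge hx).1, mem_centralizer_iff.2 fun s hs => ?_⟩
    have hs' : k⁻¹ * s * k ∈ (h.S : Subgroup G) := by
      have := (mem_normalizer_iff.1 (inv_mem hk) s).1 hs
      rwa [inv_inv] at this
    have := mem_centralizer_iff.1 (h.Z_eq.ge hx).2 _ hs'
    calc s * (k * x * k⁻¹) = k * (k⁻¹ * s * k * x) * k⁻¹ := by group
      _ = k * (x * (k⁻¹ * s * k)) * k⁻¹ := by rw [this]
      _ = k * x * k⁻¹ * s := by group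
  refine mem_normalizer_iff.2 fun x => ⟨hf g hg x, fun hx => ?_⟩
  have := hf g⁻¹ (inv_mem hg) _ hx
  simpa [mul_assoc] using this

theorem normS_le_normJ : normalizer ((h.S : Subgroup G) : Set G) ≤ normalizer (h.J : Set G) := by
  intro g hg
  have e : h.J.map (MulAut.conj g).toMonoidHom = h.J := by
    refine h.unique_in_S ?_ ?_ ?_
    · rintro _ ⟨x, hx, rfl⟩; exact (mem_normalizer_iff.1 hg x).1 (h.J_le hx)
    · rintro _ ⟨a, ha, rfl⟩ _ ⟨b, hb, rfl⟩
      rw [← map_mul, h.J_comm a ha b hb, map_mul]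
    · rw [Subgroup.card_map_of_injective (MulAut.conj g).injective, h.J_card]
  refine mem_normalizer_iff.2 fun x => ⟨fun hx => e.le ⟨x, hx, rfl⟩, fun hx => ?_⟩
  obtain ⟨b, hb, eb⟩ := e.ge hx
  exact (MulAut.conj g).injective eb ▸ hb

theorem NZ_normJ_le_normS {g : G} (h1 : g ∈ h.NZ) (h2 : g ∈ normalizer (h.J : Set G)) :
    g ∈ normalizer ((h.S : Subgroup G) : Set G) := by
  have hf : ∀ k ∈ h.NZ, k ∈ normalizer (h.J : Set G) → ∀ s ∈ (h.S : Subgroup G),
      k * s * k⁻¹ ∈ (h.S : Subgroup G) := by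
    intro k hk hk' s hs
    obtain ⟨j, hj, q, hq, rfl⟩ := h.exists_mul hs
    rw [← conj_mul]
    exact mul_mem (h.J_le (h.conj_J hk' hj)) (h.Q_le_S (h.conj_Q hk hq))
  refine mem_normalizer_iff.2 fun s => ⟨hf g h1 h2 s, fun hs => ?_⟩
  have := hf g⁻¹ (inv_mem h1) (inv_mem h2) _ hs
  simpa [mul_assoc] using this

end Hyp

/-- Coordinates on `M0/J` and two lifts. -/
structure Coords (h : Hyp G) where
  /-- The map onto the alternating group, adapted to the Sylow subgroup. -/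
  pi : h.M0 →* A6
  pi_surj : Function.Surjective pi
  pi_ker : ∀ x : h.M0, pi x = 1 ↔ (x : G) ∈ h.J
  mem_S : ∀ x : h.M0, (x : G) ∈ (h.S : Subgroup G) ↔ InP0 (pi x)
  /-- The element of order four. -/
  w : h.M0
  /-- The involution exchanging the two points. -/
  u : h.M0
  pi_w : pi w = w0
  pi_u : pi u = u0
  w_four : w ^ 4 = 1
  u_two : u * u = 1
  u_t : u * (w * w) = w * w * u

theorem exists_coords (h : Hyp G) : Nonempty (Coords h) := by
  haveI : Fact (Nat.Prime 3) := ⟨by norm_num⟩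
  -- the image of the Sylow subgroup
  set SM := (h.S : Subgroup G).subgroupOf h.M0
  have hJS : h.J.subgroupOf h.M0 ≤ SM := fun x hx => h.J_le hx
  have hSMcard : Nat.card SM = 729 := by
    rw [Nat.card_congr (subgroupOfEquivOfLe h.S_le_M0).toEquiv, h.card_S]
  have hA6 : Nat.card A6 = 360 := by rw [Nat.card_eq_fintype_card]; decide +kernel
  have himg : Nat.card (SM.map h.piM) = 9 := by
    have h1 := Subgroup.card_mul_index (h.piM.domRestrict SM).ker
    have e1 : Nat.card (h.piM.domRestrict SM).ker = 81 := by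
      rw [← h.J_card, ← Nat.card_congr (subgroupOfEquivOfLe h.J_le_M0).toEquiv, ← h.piM_ker]
      refine Nat.card_congr ⟨fun x => ⟨x.1.1, x.2⟩, fun x => ⟨⟨x.1, hJS (h.piM_ker.le x.2)⟩, x.2⟩,
        fun _ => rfl, fun _ => rfl⟩
    rw [Subgroup.index_ker, e1, hSMcard, MonoidHom.domRestrict_range] at h1
    omega
  let T1 : Sylow 3 A6 := Sylow.ofCard (SM.map h.piM) (by
    rw [himg, hA6, show (360 : ℕ) = 3 ^ 2 * 40 by norm_num,
      Nat.factorization_mul (by norm_num) (by norm_num), Finsupp.add_apply,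
      Nat.Prime.factorization_pow (by norm_num), Finsupp.single_eq_same,
      Nat.factorization_eq_zero_of_not_dvd (show ¬ 3 ∣ 40 by norm_num)]
    norm_num)
  let T2 : Sylow 3 A6 := Sylow.ofCard P0 (by
    rw [card_P0, hA6, show (360 : ℕ) = 3 ^ 2 * 40 by norm_num,
      Nat.factorization_mul (by norm_num) (by norm_num), Finsupp.add_apply,
      Nat.Prime.factorization_pow (by norm_num), Finsupp.single_eq_same,
      Nat.factorization_eq_zero_of_not_dvd (show ¬ 3 ∣ 40 by norm_num)]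
    norm_num)
  obtain ⟨a, ha⟩ := MulAction.exists_smul_eq A6 T1 T2
  let π : h.M0 →* A6 := (MulAut.conj a).toMonoidHom.comp h.piM
  have hπs : Function.Surjective π := (MulAut.conj a).surjective.comp h.piM_surj
  have hπk : ∀ x : h.M0, π x = 1 ↔ (x : G) ∈ h.J := fun x => by
    show MulAut.conj a (h.piM x) = 1 ↔ _
    rw [EmbeddingLike.map_eq_one_iff, ← MonoidHom.mem_ker, h.piM_ker, mem_subgroupOf]
  have hπS : ∀ x : h.M0, (x : G) ∈ (h.S : Subgroup G) ↔ InP0 (π x) := by
    intro x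
    have e : (T2 : Subgroup A6) = (T1 : Subgroup A6).map (MulAut.conj a).toMonoidHom := by
      rw [← ha, Sylow.coe_subgroup_smul]; rfl
    constructor
    · intro hx
      show π x ∈ (T2 : Subgroup A6)
      rw [e]
      exact ⟨h.piM x, ⟨x, hx, rfl⟩, rfl⟩
    · intro hx
      have hx' : π x ∈ (T2 : Subgroup A6) := hx
      rw [e] at hx'
      obtain ⟨_, ⟨y, hy, rfl⟩, hy'⟩ := hx'
      have hk : ((y⁻¹ * x : h.M0) : G) ∈ h.J := (hπk _).1 (by
        rw [map_mul, map_inv, inv_mul_eq_one]; exact hy')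
      have := mul_mem (show (y : G) ∈ (h.S : Subgroup G) from hy) (h.J_le hk)
      simpa using this
  obtain ⟨g, hg⟩ := hπs w0
  have hw4 : w0 ^ 4 = 1 := by
    rw [show 4 = 2 * 2 from rfl, pow_mul, pow_two w0, w0_facts.1, pow_two]; exact w0_facts.2.1
  have hcube : ∀ x : h.M0, π x = 1 → x ^ 3 = 1 := fun x hx =>
    Subtype.ext (h.J_exp _ ((hπk x).1 hx))
  have hg12 : g ^ 12 = 1 := by
    rw [show 12 = 4 * 3 from rfl, pow_mul]
    exact hcube _ (by rw [map_pow, hg, hw4])
  set w : h.M0 := g ^ 9 with hwdef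
  have hπw : π w = w0 := by
    rw [hwdef, map_pow, hg, show 9 = 4 * 2 + 1 from rfl, pow_succ, pow_mul, hw4, one_pow, one_mul]
  have hwfour : w ^ 4 = 1 := by
    rw [hwdef, ← pow_mul, show 9 * 4 = 12 * 3 from rfl, pow_mul, hg12, one_pow]
  set t : h.M0 := w * w with htdef
  have htt : t * t = 1 := by
    rw [htdef, ← hwfour, show (4 : ℕ) = 2 + 2 from rfl, pow_add, pow_two]
  have hπt : π t = t0 := by rw [htdef, map_mul, hπw, w0_facts.1]
  obtain ⟨g1, hg1⟩ := hπs u0
  set t' : h.M0 := g1 * t * g1⁻¹ with ht'def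
  have ht't' : t' * t' = 1 := by
    rw [ht'def, show g1 * t * g1⁻¹ * (g1 * t * g1⁻¹) = g1 * (t * t) * g1⁻¹ by group, htt]; group
  have hut : u0 * t0 * u0⁻¹ = t0 := by rw [w0_facts.2.2.2.2.2.2.2.1, mul_inv_cancel_right]
  have hk : π (t * t') = 1 := by
    rw [map_mul π t t', ht'def, map_mul π (g1 * t) g1⁻¹, map_mul π g1 t, map_inv, hπt, hg1, hut, w0_facts.2.1]
  have hconj := conj_invol htt ht't' (hcube _ hk)
  set u1 : h.M0 := (t * t')⁻¹ * g1 with hu1def
  have hu1t : u1 * t = t * u1 := by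
    calc u1 * t = (t * t')⁻¹ * t' * g1 := by rw [hu1def, ht'def]; group
      _ = (t * t')⁻¹ * ((t * t') * t * (t * t')⁻¹) * g1 := by rw [hconj]
      _ = t * u1 := by rw [hu1def]; group
  have hπu1 : π u1 = u0 := by rw [hu1def, map_mul, map_inv, hk, hg1, inv_one, one_mul]
  have hu6 : (u1 * u1) ^ 3 = 1 := hcube _ (by rw [map_mul, hπu1]; exact w0_facts.2.2.2.2.2.2.2.2.1)
  refine ⟨⟨π, hπs, hπk, hπS, w, u1 ^ 3, hπw, ?_, hwfour, ?_, ?_⟩⟩
  · rw [map_pow, hπu1, pow_succ, pow_two, w0_facts.2.2.2.2.2.2.2.2.1, one_mul]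
  · rw [← pow_add, ← hu6, ← pow_two u1, ← pow_mul]
  · exact ((show Commute u1 t from hu1t).pow_left 3).eq

end CfsgLib.Recog.McLThree
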