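import Cfsg.Agent.Lib.Recog.McLThree.Sign

/-!
The conjugates of `z` in `E`, and the element `y = z z'` that is not conjugate to one of them.
-/

set_option autoImplicit false
set_option linter.style.haveILetI false
set_option linter.unusedSectionVars false

namespace CfsgLib.Recog.McLThree

open Subgroup

variable {G : Type*} [Group G] [Finite G] {h : Hyp G}

theorem Hyp.normJ_le_normM0 (h : Hyp G) {n : G} (hn : n ∈ normalizer (h.J : Set G)) {m : G}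
    (hm : m ∈ h.M0) : n * m * n⁻¹ ∈ h.M0 := by
  rw [h.M0_eq] at hm ⊢
  induction hm using closure_induction with
  | mem x hx =>
    refine subset_closure ⟨mul_mem (mul_mem hn hx.1) (inv_mem hn), ?_⟩
    obtain ⟨k, hk⟩ := hx.2
    exact ⟨k, by rw [← hk]; exact MulEquiv.orderOf_eq (MulAut.conj n) x⟩
  | one => simp
  | mul a b _ _ ha hb => rw [← conj_mul]; exact mul_mem ha hb
  | inv a _ ha => rw [← conj_inv]; exact inv_mem ha

theorem Hyp.frattini (h : Hyp G) {n : G} (hn : n ∈ normalizer (h.J : Set G)) :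
    ∃ m ∈ h.M0, m⁻¹ * n ∈ normalizer ((h.S : Subgroup G) : Set G) := by
  haveI : Fact (Nat.Prime 3) := ⟨by norm_num⟩
  have hle : (h.S : Subgroup G).map (MulAut.conj n).toMonoidHom ≤ h.M0 := by
    rintro _ ⟨x, hx, rfl⟩; exact h.normJ_le_normM0 hn (h.S_le_M0 hx)
  obtain ⟨m, hm⟩ := MulAction.exists_smul_eq h.M0 (h.S.subtype h.S_le_M0)
    ((n • h.S).subtype (show ((n • h.S : Sylow 3 G) : Subgroup G) ≤ h.M0 by
      rw [Sylow.coe_subgroup_smul]; exact hle))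
  refine ⟨m, m.2, mem_normalizer_of_forward fun s hs => ?_⟩
  have hx : n * s * n⁻¹ ∈ h.M0 := h.normJ_le_normM0 hn (h.S_le_M0 hs)
  have h1 : (⟨n * s * n⁻¹, hx⟩ : h.M0) ∈ ((n • h.S).subtype (show ((n • h.S : Sylow 3 G) : Subgroup G) ≤ h.M0 by
      rw [Sylow.coe_subgroup_smul]; exact hle) : Subgroup h.M0) := by
    show n * s * n⁻¹ ∈ ((n • h.S : Sylow 3 G) : Subgroup G)
    rw [Sylow.coe_subgroup_smul]
    exact ⟨s, hs, rfl⟩
  rw [← hm, Sylow.coe_subgroup_smul] at h1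
  obtain ⟨y, hy, e⟩ := h1
  have e' : (m : G) * (y : G) * (m : G)⁻¹ = n * s * n⁻¹ := congrArg Subtype.val e
  have : (m : G)⁻¹ * n * s * ((m : G)⁻¹ * n)⁻¹ = (y : G) := by
    calc (m : G)⁻¹ * n * s * ((m : G)⁻¹ * n)⁻¹ = (m : G)⁻¹ * (n * s * n⁻¹) * m := by group
      _ = y := by rw [← e']; group
  rw [this]
  exact hy

namespace Coords

variable (c : Coords h)

/-- The element of `E` outside the conjugates of the centre. -/
abbrev y : G := h.z * c.z'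

theorem y_mem_E : c.y ∈ c.E := mul_mem c.z_mem_E c.z'_mem_E

theorem y_mem_J : c.y ∈ h.J := c.y_mem_E.1

/-- A conjugate of `z` lying in `J` is `z` or its inverse, or an `S`-conjugate of `z'` or its inverse. -/
theorem points_J {g : G} (hg : g * h.z * g⁻¹ ∈ h.J) :
    g * h.z * g⁻¹ = h.z ∨ g * h.z * g⁻¹ = h.z⁻¹ ∨
      ∃ s ∈ (h.S : Subgroup G), g * h.z * g⁻¹ = s * c.z' * s⁻¹ ∨ g * h.z * g⁻¹ = s * c.z'⁻¹ * s⁻¹ := by
  obtain ⟨n, hn, e⟩ := h.fusion_J h.z_mem_J hg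
  obtain ⟨m, hm, hmn⟩ := h.frattini hn
  rw [← e]
  have hconj : n * h.z * n⁻¹ = m * ((m⁻¹ * n) * h.z * (m⁻¹ * n)⁻¹) * m⁻¹ := by group
  rcases c.M0_points ⟨m, hm⟩ with hmS | ⟨s, hs, k, hk, -, e'⟩
  · have hnS : n ∈ h.NZ := h.normS_le_NZ (by
      have := mul_mem hmS hmn
      rwa [mul_inv_cancel_left] at this)
    exact (h.z_conj hnS).imp id Or.inl
  · right; right
    refine ⟨s, hs, ?_⟩
    have hk2 : k * (m⁻¹ * n) ∈ h.NZ := h.normS_le_NZ (mul_mem hk hmn)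
    have e2 : n * h.z * n⁻¹ = s * (c.U * ((k * (m⁻¹ * n)) * h.z * (k * (m⁻¹ * n))⁻¹) * c.U⁻¹) * s⁻¹ := by
      have em : m = s * c.U * k := e'
      calc n * h.z * n⁻¹ = (m * (m⁻¹ * n)) * h.z * (m * (m⁻¹ * n))⁻¹ := by group
        _ = _ := by
          generalize m⁻¹ * n = r
          rw [em]; group
    rcases h.z_conj hk2 with e3 | e3 <;> rw [e3] at e2
    · exact Or.inl e2
    · exact Or.inr (by rw [← conj_inv (a := h.z)] at e2; exact e2)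

/-- The conjugates of `z` in `E`. -/
theorem points_E {g : G} (hg : g * h.z * g⁻¹ ∈ c.E) :
    g * h.z * g⁻¹ = h.z ∨ g * h.z * g⁻¹ = h.z⁻¹ ∨ g * h.z * g⁻¹ = c.z' ∨ g * h.z * g⁻¹ = c.z'⁻¹ := by
  have key : ∀ s ∈ (h.S : Subgroup G), s * c.z' * s⁻¹ ∈ c.E → s * c.z' * s⁻¹ = c.z' := by
    intro s hs hsE
    obtain ⟨j, hj, q, hq, rfl⟩ := h.exists_mul hs
    have h1 : j * q * c.z' * (j * q)⁻¹ * c.z'⁻¹ ∈ h.Z :=
      c.E_A_le (mul_mem hsE (inv_mem c.z'_mem_E)) (c.comm_z' hs).2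
    have h2 : q * c.z' * q⁻¹ * c.z'⁻¹ ∈ h.A := c.comm_z' (h.Q_le_S hq)
    have e : j * q * c.z' * (j * q)⁻¹ = q * c.z' * q⁻¹ := by
      have hqJ : q * c.z' * q⁻¹ ∈ h.J := h.conj_J (h.S_le_normJ (h.Q_le_S hq)) c.z'_mem_E.1
      calc j * q * c.z' * (j * q)⁻¹ = j * (q * c.z' * q⁻¹) * j⁻¹ := by group
        _ = q * c.z' * q⁻¹ := by rw [h.J_comm j hj _ hqJ, mul_inv_cancel_right]
    rw [e] at h1 ⊢
    rw [h.J_comm q (c.comm_z'_Z hq h1).1 c.z' c.z'_mem_E.1, mul_inv_cancel_right]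
  rcases c.points_J hg.1 with e | e | ⟨s, hs, e | e⟩
  · exact Or.inl e
  · exact Or.inr (Or.inl e)
  · rw [e] at hg
    exact Or.inr (Or.inr (Or.inl (e.trans (key s hs hg))))
  · rw [e, ← conj_inv] at hg
    have := key s hs (inv_mem_iff.1 hg)
    refine Or.inr (Or.inr (Or.inr (e.trans ?_)))
    rw [← conj_inv, this]

theorem z'_ne_z : c.z' ≠ h.z ∧ c.z' ≠ h.z⁻¹ :=
  ⟨fun e => c.z'_notMem_Z (e ▸ mem_zpowers _), fun e => c.z'_notMem_Z (e ▸ inv_mem (mem_zpowers _))⟩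

theorem y_not_conj {g : G} : g * h.z * g⁻¹ ≠ c.y ∧ g * h.z * g⁻¹ ≠ c.y⁻¹ := by
  have key : ∀ g : G, g * h.z * g⁻¹ ≠ c.y := by
    intro g e
    rcases c.points_E (g := g) (e ▸ c.y_mem_E) with e1 | e1 | e1 | e1 <;> rw [e] at e1
    · exact c.z'_notMem_Z (by rw [mul_eq_left.1 e1]; exact one_mem _)
    · exact c.z'_notMem_Z (by
        rw [eq_inv_mul_of_mul_eq e1]; exact mul_mem (inv_mem (mem_zpowers _)) (inv_mem (mem_zpowers _)))
    · exact h.z_ne (mul_eq_right.1 e1)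
    · refine c.z'_ne_z.1 ?_
      have h2 := c.z'_cube
      rw [pow_succ, pow_two] at h2
      calc c.z' = c.z'⁻¹ * c.z'⁻¹ := by
            rw [← mul_inv_rev]; exact eq_inv_of_mul_eq_one_right h2
        _ = (h.z * c.z') * c.z'⁻¹ := by rw [show h.z * c.z' = c.z'⁻¹ from e1]
        _ = h.z := mul_inv_cancel_right _ _
  refine ⟨key g, fun e => ?_⟩
  have hw : c.W * c.y * c.W⁻¹ = c.y⁻¹ := by
    show c.W * (h.z * c.z') * c.W⁻¹ = (h.z * c.z')⁻¹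
    rw [← conj_mul, c.W_z, c.W_z',
      h.J_comm _ (inv_mem h.z_mem_J) _ (inv_mem c.z'_mem_E.1)]
    exact (mul_inv_rev _ _).symm
  refine key (c.W⁻¹ * g) ?_
  calc c.W⁻¹ * g * h.z * (c.W⁻¹ * g)⁻¹ = c.W⁻¹ * (g * h.z * g⁻¹) * c.W := by group
    _ = c.y := by rw [e, ← hw]; group

end Coords

end CfsgLib.Recog.McLThree
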