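import Cfsg.Agent.Lib.Recog.McLThree.Sign
import Cfsg.Agent.Lib.Recog.McLThree.Points
import Cfsg.Agent.Lib.Solvable.PCore
import Cfsg.Prelude.Def_CaseTheorems
import Cfsg.Prelude.Def_SporadicB
import Mathlib.GroupTheory.SpecificGroups.Alternating.Simple

/-!
The odd-core alternative of the recognition by the centraliser of `T` is empty, and the subgroup of index two is
self-centralising.
-/

set_option autoImplicit false
set_option linter.style.haveILetI false
set_option linter.unusedSectionVars false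
set_option Elab.async false

namespace CfsgLib.Recog.McLThree

open Subgroup

variable {G : Type*} [Group G] [Finite G] {h : Hyp G}

/-- The centraliser of `T` and the odd core do not generate the group. -/
theorem Coords.not_core (c : Coords h)
    (hcov : Cfsg.IsNonsplitDoubleCover (centralizer ({c.T} : Set G)) (alternatingGroup (Fin 8))) :
    centralizer ({c.T} : Set G) ⊔ Cfsg.oddCore G ≠ ⊤ := by
  classical
  intro htop
  set C := centralizer ({c.T} : Set G)
  set O := Cfsg.oddCore G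
  have hOn : O.Normal := inferInstance
  have hodd : Odd (Nat.card O) := Nat.coprime_two_right.1 (CfsgLib.Solvable.pPrimeCore_coprime (G := G) 2)
  have hTO : ∀ g : G, c.T * g * c.T⁻¹ * g⁻¹ ∈ O := by
    intro g
    obtain ⟨a, ha, b, hb, rfl⟩ : ∃ a ∈ C, ∃ b ∈ O, a * b = g := by
      have hg : g ∈ ((C ⊔ O : Subgroup G) : Set G) := by rw [htop]; exact mem_top g
      rw [mul_normal] at hg
      exact Set.mem_mul.1 hg
    have hac : Commute a c.T := mem_centralizer_singleton_iff.1 ha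
    rw [show c.T * (a * b) * c.T⁻¹ * (a * b)⁻¹ = (c.T * a) * b * c.T⁻¹ * b⁻¹ * a⁻¹ by group, ← hac.eq,
      show a * c.T * b * c.T⁻¹ * b⁻¹ * a⁻¹ = a * ((c.T * b * c.T⁻¹) * b⁻¹) * a⁻¹ by group]
    exact hOn.conj_mem _ (mul_mem (hOn.conj_mem b hb c.T) (inv_mem hb)) a
  -- an element of the odd core in each class modulo `Z`
  have hlift : ∀ q ∈ h.Q, ∃ x ∈ O, q⁻¹ * x ∈ h.Z := by
    intro q hq
    refine ⟨_, hTO q, ?_⟩
    have h1 := c.T_inverts_Q hq
    have h2 : q * q * q = 1 := by rw [← h.Q_exp q hq, pow_succ, pow_two]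
    have hq2 : q⁻¹ = q * q := inv_eq_of_mul_eq_one_left h2
    have hcq : ∀ x ∈ h.Z, q⁻¹ * x * q = x := fun x hx => by
      rw [mul_assoc, (h.Z_comm_Q hq hx).symm, inv_mul_cancel_left]
    rw [show q⁻¹ * (c.T * q * c.T⁻¹ * q⁻¹) = (q⁻¹ * (c.T * q * c.T⁻¹ * q) * q) * (q⁻¹ * q⁻¹ * q⁻¹) by group,
      hcq _ h1, hq2, show q * q * (q * q) * (q * q) = (q * q * q) * (q * q * q) by group, h2, one_mul, mul_one]
    exact h1
  -- the centre of `Q` lies in the odd core
  have hzO : h.z ∈ O := by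
    obtain ⟨a, b, ha, hb, hab⟩ : ∃ a b : G, a ∈ h.Q ∧ b ∈ h.Q ∧ a * b ≠ b * a := by
      by_contra hcon
      push Not at hcon
      have := Subgroup.card_le_of_le (show h.Q ≤ h.Z from fun q hq =>
        h.Q_center q hq fun r hr => hcon q r hq hr)
      rw [h.Q_card, h.card_Z] at this
      omega
    obtain ⟨x, hx, hxa⟩ := hlift a ha
    obtain ⟨y, hy, hyb⟩ := hlift b hb
    obtain ⟨i, hi⟩ := mem_zpowers_iff.1 hxa
    obtain ⟨j, hj⟩ := mem_zpowers_iff.1 hyb
    have e1 : x = a * h.z ^ i := by rw [hi, mul_inv_cancel_left]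
    have e2 : y = b * h.z ^ j := by rw [hj, mul_inv_cancel_left]
    have hzi : ∀ q ∈ h.Q, ∀ i : ℤ, Commute q (h.z ^ i) := fun q hq i =>
      h.Z_comm_Q hq (zpow_mem (mem_zpowers _) i)
    set k := a * b * a⁻¹ * b⁻¹
    have hk : k ∈ O := by
      have hm := mul_mem (mul_mem (mul_mem hx hy) (inv_mem hx)) (inv_mem hy)
      have e : x * y * x⁻¹ * y⁻¹ = k := by
        rw [e1, e2]
        calc a * h.z ^ i * (b * h.z ^ j) * (a * h.z ^ i)⁻¹ * (b * h.z ^ j)⁻¹
            = a * (h.z ^ i * b) * (h.z ^ j * (h.z ^ i)⁻¹ * a⁻¹) * ((h.z ^ j)⁻¹ * b⁻¹) := by group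
          _ = a * (b * h.z ^ i) * (a⁻¹ * (h.z ^ j * (h.z ^ i)⁻¹)) * ((h.z ^ j)⁻¹ * b⁻¹) := by
              rw [(hzi b hb i).eq.symm,
                ((hzi a ha j).inv_left.mul_right (hzi a ha i).inv_left.inv_right).eq]
          _ = a * b * (h.z ^ i * a⁻¹) * (h.z ^ i)⁻¹ * b⁻¹ := by group
          _ = a * b * (a⁻¹ * h.z ^ i) * (h.z ^ i)⁻¹ * b⁻¹ := by rw [(hzi a ha i).inv_left.eq]
          _ = k := by simp only [k]; group
      rwa [e] at hm
    have hkZ : k ∈ h.Z := h.Q_comm a ha b hb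
    have hk1 : k ≠ 1 := fun e => hab (mul_inv_eq_iff_eq_mul.1 (mul_inv_eq_one.1 e))
    have hge : h.Z ≤ O := by
      haveI : Fact (Nat.Prime 3) := ⟨by norm_num⟩
      have hle : zpowers k ≤ h.Z := zpowers_le.2 hkZ
      have ho : orderOf k = 3 := orderOf_eq_prime (h.Q_exp k (Subgroup.zpowers_le.2 h.z_mem_Q hkZ)) hk1
      rw [← eq_of_le_of_card_ge hle (by rw [h.card_Z, Nat.card_zpowers, ho])]
      exact zpowers_le.2 hk
    exact hge (mem_zpowers _)
  -- but the double cover has no normal subgroup of odd order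
  obtain ⟨hc2, ⟨e⟩, -⟩ := hcov
  haveI : IsSimpleGroup (alternatingGroup (Fin 8)) := alternatingGroup.isSimpleGroup (by simp)
  let f : C →* alternatingGroup (Fin 8) := e.toMonoidHom.comp (QuotientGroup.mk' (center C))
  have hf : Function.Surjective f := e.surjective.comp (QuotientGroup.mk'_surjective _)
  obtain ⟨N, hN⟩ : ∃ N : Subgroup C, N = O.subgroupOf C := ⟨_, rfl⟩
  haveI hNn : N.Normal := by rw [hN]; exact Subgroup.normal_subgroupOf
  let ι : N →* O := (C.subtype.comp N.subtype).codRestrict O (fun x => by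
    have hx : (x : C) ∈ O.subgroupOf C := hN ▸ x.2
    exact mem_subgroupOf.1 hx)
  have hdvd : Nat.card N ∣ Nat.card O := Subgroup.card_dvd_of_injective ι (fun a b e => by
    have e' := congrArg (fun t : O => (t : G)) e
    exact Subtype.ext (Subtype.ext e'))
  have hNodd : Odd (Nat.card (N.map f)) := hodd.of_dvd_nat ((Subgroup.card_map_dvd N f).trans hdvd)
  rcases IsSimpleGroup.eq_bot_or_eq_top_of_normal (N.map f) (hNn.map f hf) with hb | ht
  · let zc : C := ⟨h.z, mem_centralizer_singleton_iff.2 (h.mem_CZ.1 c.T_CZ).symm⟩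
    have hz1 : f zc ∈ N.map f := mem_map_of_mem f (by rw [hN]; exact mem_subgroupOf.2 hzO)
    rw [hb, mem_bot] at hz1
    have hzc : zc ∈ center C := (QuotientGroup.eq_one_iff zc).1 (e.map_eq_one_iff.1 hz1)
    have hd := orderOf_dvd_natCard (⟨zc, hzc⟩ : center C)
    rw [hc2, Subgroup.orderOf_mk, Subgroup.orderOf_mk, h.z_order] at hd
    omega
  · rw [ht, card_top, nat_card_alternatingGroup, Nat.card_fin] at hNodd
    exact absurd hNodd (by norm_num [Nat.factorial, Nat.odd_iff])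

/-- Recognition from the double cover, given the characterisation by the centraliser of an involution. -/
theorem Coords.iso_of_cover (c : Coords h) {M : Type*} [Group M]
    (hrec : ∀ t : G, orderOf t = 2 →
      Cfsg.IsNonsplitDoubleCover (centralizer ({t} : Set G)) (alternatingGroup (Fin 8)) →
        centralizer ({t} : Set G) ⊔ Cfsg.oddCore G = ⊤ ∨ Nonempty (G ≃* M))
    (hcov : Cfsg.IsNonsplitDoubleCover (centralizer ({c.T} : Set G)) (alternatingGroup (Fin 8))) :
    Nonempty (G ≃* M) := by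
  haveI : Fact (Nat.Prime 2) := ⟨by norm_num⟩
  refine (hrec c.T (orderOf_eq_prime (by rw [pow_two]; exact c.T_sq) ?_) hcov).resolve_left (c.not_core hcov)
  intro e
  have hW := c.W_z
  have h2 : c.W * c.W = 1 := e
  obtain ⟨hT, hpi⟩ := c.T_L0
  have h1 : (⟨c.T, hT⟩ : h.L0) = 1 := Subtype.ext e
  rw [h1, map_one] at hpi
  exact sl_neg_one.1 hpi.symm

/-- A normal subgroup of index two containing the `3`-elements is self-centralising. -/
theorem Coords.cent_eq_bot (c : Coords h) (G0 : Subgroup G) (hM : h.M0 ≤ G0) :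
    centralizer (G0 : Set G) = ⊥ := by
  rw [eq_bot_iff]
  intro x hx
  have hQ : h.Q ≤ G0 := (h.Q_le_S.trans h.S_le_M0).trans hM
  have hxQ : x ∈ h.Q := h.cent_Q (mem_centralizer_iff.2 fun q hq => mem_centralizer_iff.1 hx q (hQ hq))
  have hxZ : x ∈ h.Z := h.Q_center x hxQ fun q hq => (mem_centralizer_iff.1 hx q (hQ hq)).symm
  obtain ⟨i, rfl⟩ := mem_zpowers_iff.1 hxZ
  have e : c.W * h.z ^ i * c.W⁻¹ = h.z ^ i := mul_inv_eq_iff_eq_mul.2 (mem_centralizer_iff.1 hx _ (hM c.w.2))
  rw [← conj_zpow, c.W_z, inv_zpow] at e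
  rw [mem_bot]
  have h2 : h.z ^ i * h.z ^ i = 1 := by nth_rewrite 1 [← e]; exact inv_mul_cancel _
  have h3 := h.Q_exp _ hxQ
  rwa [pow_succ, pow_two, h2, one_mul] at h3

end CfsgLib.Recog.McLThree
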