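import Cfsg.Agent.Lib.Recog.McLThree.CentY
import Cfsg.Prelude.Def_Transfer

/-!
The data of the `3`-local characterisation as a `Hyp`.
-/

set_option autoImplicit false
set_option linter.style.haveILetI false

namespace CfsgLib.Recog.McLThree

open Subgroup

/-- Build the packaged hypotheses from the core condition at a generator of the centre. -/
theorem exists_hyp_core {G : Type*} [Group G] [Finite G]
    (S : Sylow 3 G) (Z : Subgroup G)
    (hZ : Z = (S : Subgroup G) ⊓ centralizer ((S : Subgroup G) : Set G))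
    (J : Subgroup G) (hJS : J ≤ S) (hJcomm : IsMulCommutative J) (hJexp : ∀ a ∈ J, a ^ 3 = 1)
    (hJcard : Nat.card J = 3 ^ 4)
    (M₀ : Subgroup G)
    (hM₀ : M₀ = closure {g : G | g ∈ normalizer (J : Set G) ∧ ∃ k : ℕ, orderOf g = 3 ^ k})
    (hJM : J ≤ M₀) [hJn : (J.subgroupOf M₀).Normal]
    (eM : M₀ ⧸ J.subgroupOf M₀ ≃* alternatingGroup (Fin 6))
    (L₀ : Subgroup G)
    (hL₀ : L₀ = closure {g : G | g ∈ normalizer (Z : Set G) ∧ ∃ k : ℕ, orderOf g = 3 ^ k})
    (Q : Subgroup G)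
    (hQ : Q = (Cfsg.pCore 3 (normalizer (Z : Set G))).map (normalizer (Z : Set G)).subtype)
    (hQex : Cfsg.IsExtraspecial 3 Q) (hQcard : Nat.card Q = 3 ^ 5) (hQexp : ∀ a ∈ Q, a ^ 3 = 1)
    (hQL : Q ≤ L₀) [hQn : (Q.subgroupOf L₀).Normal]
    (eL : L₀ ⧸ Q.subgroupOf L₀ ≃* Matrix.SpecialLinearGroup (Fin 2) (ZMod 5))
    (hiii : ∀ x ∈ J, zpowers x = Z → x ≠ 1 → centralizer (core3 x : Set G) ≤ core3 x) :
    ∃ h : Hyp G, h.J = J := by
  haveI : Fact (Nat.Prime 3) := ⟨by norm_num⟩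
  set NZ := normalizer (Z : Set G) with hNZ
  have hcN : (Cfsg.pCore 3 NZ).Normal := CfsgLib.Amalgam.normal_pCore
  have hZS : Z ≤ (S : Subgroup G) := hZ.le.trans inf_le_left
  have hSc : ∀ s ∈ (S : Subgroup G), ∀ x ∈ Z, s * x = x * s := fun s hs x hx =>
    mem_centralizer_iff.1 (hZ.le hx).2 s hs
  have hSN : (S : Subgroup G) ≤ NZ := fun s hs => by
    refine mem_normalizer_iff.2 fun x => ⟨fun hx => ?_, fun hx => ?_⟩
    · rw [hSc s hs x hx, mul_inv_cancel_right]; exact hx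
    · have h1 := hSc s hs _ hx
      have e : s * x * s⁻¹ = x := by
        have h2 : s * (s * x * s⁻¹) * s⁻¹ = s * x * s⁻¹ := by rw [h1, mul_inv_cancel_right]
        simpa using (conj_injective h2 : s * x * s⁻¹ = x)
      rwa [e] at hx
  have hQS : Q ≤ (S : Subgroup G) := by
    intro q hq
    rw [hQ] at hq
    obtain ⟨y, hy, rfl⟩ := hq
    exact CfsgLib.Amalgam.pCore_le_sylow (S.subtype hSN) hy
  have hZQ : Z ≤ Q := by
    intro x hx
    rw [hQ]
    exact ⟨⟨x, hSN (hZS hx)⟩, CfsgLib.Amalgam.le_pCore (N := Z.subgroupOf NZ) normal_in_normalizer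
      ((S.isPGroup'.to_le hZS).comap_subtype) (mem_subgroupOf.2 hx), rfl⟩
  have hZle : Z ≤ (center Q).map Q.subtype := fun x hx =>
    ⟨⟨x, hZQ hx⟩, mem_center_iff.2 fun q => Subtype.ext (hSc q (hQS q.2) x hx), rfl⟩
  have hcard3 : Nat.card ((center Q).map Q.subtype) = 3 := by
    rw [Subgroup.card_map_of_injective Q.subtype_injective]; exact hQex.2
  have hSne : Nontrivial (S : Subgroup G) :=
    Finite.one_lt_card_iff_nontrivial.1 (lt_of_lt_of_le (by rw [hJcard]; norm_num) (card_le_of_le hJS))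
  have hZne : Z ≠ ⊥ := by
    haveI := hSne
    haveI := S.isPGroup'.center_nontrivial
    obtain ⟨⟨⟨x, hxS⟩, hxc⟩, hx1⟩ := exists_ne (1 : center (S : Subgroup G))
    intro e
    have hxZ : x ∈ Z := hZ.ge ⟨hxS, mem_centralizer_iff.2 fun s hs =>
      congrArg Subtype.val (mem_center_iff.1 hxc ⟨s, hs⟩)⟩
    rw [e, mem_bot] at hxZ
    exact hx1 (Subtype.ext (Subtype.ext hxZ))
  obtain ⟨z, hzZ, hz1⟩ := Z.bot_or_exists_ne_one.resolve_left hZne
  have hord : orderOf z = 3 := orderOf_eq_prime (hQexp z (hZQ hzZ)) hz1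
  have hZz : Z = zpowers z := by
    refine (Subgroup.eq_of_le_of_card_ge (zpowers_le.2 hzZ) ?_).symm
    rw [Nat.card_zpowers, hord, ← hcard3]
    exact card_le_of_le hZle
  have hZc : (center Q).map Q.subtype = Z := (Subgroup.eq_of_le_of_card_ge hZle (by
    rw [hcard3, hZz, Nat.card_zpowers, hord])).symm
  subst hZz
  refine ⟨{
    S := S, J := J, Q := Q, M0 := M₀, L0 := L₀, z := z
    z_order := hord
    Z_eq := hZ.symm
    J_le := hJS
    J_comm := fun a ha b hb => congrArg Subtype.val (hJcomm.is_comm.comm ⟨a, ha⟩ ⟨b, hb⟩)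
    J_exp := hJexp
    J_card := by rw [hJcard]; norm_num
    M0_eq := hM₀
    J_le_M0 := hJM
    piM := eM.toMonoidHom.comp (QuotientGroup.mk' _)
    piM_surj := eM.surjective.comp (QuotientGroup.mk'_surjective _)
    piM_ker := by
      ext x
      rw [MonoidHom.mem_ker, MonoidHom.comp_apply, MulEquiv.coe_toMonoidHom, EmbeddingLike.map_eq_one_iff]
      exact QuotientGroup.eq_one_iff x
    L0_eq := hL₀
    Q_eq := hQ
    Q_card := by rw [hQcard]; norm_num
    Q_exp := hQexp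
    Q_comm := fun a ha b hb => hZc.le ⟨⟨a, ha⟩ * ⟨b, hb⟩ * ⟨a, ha⟩⁻¹ * ⟨b, hb⟩⁻¹, ?_, rfl⟩
    Q_center := fun a ha hc => hZc.le ⟨⟨a, ha⟩,
      mem_center_iff.2 fun q => Subtype.ext (hc q q.2).symm, rfl⟩
    Q_le_L0 := hQL
    piL := eL.toMonoidHom.comp (QuotientGroup.mk' _)
    piL_surj := eL.surjective.comp (QuotientGroup.mk'_surjective _)
    piL_ker := by
      ext x
      rw [MonoidHom.mem_ker, MonoidHom.comp_apply, MulEquiv.coe_toMonoidHom, EmbeddingLike.map_eq_one_iff]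
      exact QuotientGroup.eq_one_iff x
    cent_Q' := ?_ }, rfl⟩
  · rw [← hQex.1.2.2, ← commutatorElement_def]
    exact Subgroup.commutator_mem_commutator (mem_top _) (mem_top _)
  · intro hzJ
    set Cz := centralizer ({z} : Set G)
    have hQC : Q ≤ Cz := fun q hq => mem_centralizer_singleton_iff.2 (hSc q (hQS hq) z hzZ)
    have hCN : Cz ≤ NZ := by
      intro g hg
      rw [mem_centralizer_singleton_iff] at hg
      refine mem_normalizer_of_forward fun x hx => ?_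
      obtain ⟨n, rfl⟩ := mem_zpowers_iff.1 hx
      rw [((show Commute g z from hg).zpow_right n).eq, mul_inv_cancel_right]
      exact zpow_mem (mem_zpowers z) n
    have hconj : ∀ g ∈ NZ, ∀ k ∈ Cz, g * k * g⁻¹ ∈ Cz := by
      intro g hg k hk
      obtain ⟨m, hm⟩ := mem_zpowers_iff.1 ((mem_normalizer_iff.1 (inv_mem hg) z).1 (mem_zpowers z))
      have hk' : k * z = z * k := mem_centralizer_singleton_iff.1 hk
      refine mem_centralizer_singleton_iff.2 ?_
      calc g * k * g⁻¹ * z = g * (k * (g⁻¹ * z * g⁻¹⁻¹)) * g⁻¹ := by group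
        _ = g * ((g⁻¹ * z * g⁻¹⁻¹) * k) * g⁻¹ := by
            rw [← hm, ((show Commute k z from hk').zpow_right m).eq]
        _ = z * (g * k * g⁻¹) := by group
    have hle : core3 z ≤ Q := by
      intro r hr
      have hRn : ((core3 z).subgroupOf NZ).Normal := by
        refine ⟨fun a ha g => ?_⟩
        have hsub : (core3 z).map (MulAut.conj (g : G)).toMonoidHom ≤ core3 z := by
          refine le_core3 ?_ ?_ ((core3_isPGroup z).map _)
          · rintro _ ⟨k, hk, rfl⟩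
            exact hconj g g.2 k (map_subtype_le _ hk)
          · rintro k hk _ ⟨m, hm, rfl⟩
            refine ⟨_, core3_conj (hconj _ (inv_mem g.2) k hk) hm, ?_⟩
            simp only [MulEquiv.coe_toMonoidHom, MulAut.conj_apply]
            group
        exact mem_subgroupOf.2 (hsub ⟨a, ha, rfl⟩)
      rw [hQ]
      exact ⟨⟨r, hCN (map_subtype_le _ hr)⟩,
        CfsgLib.Amalgam.le_pCore hRn (core3_isPGroup z).comap_subtype (mem_subgroupOf.2 hr), rfl⟩
    have hge : Q ≤ core3 z := by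
      refine le_core3 hQC (fun g hg k hk => ?_) (S.isPGroup'.to_le hQS)
      rw [hQ] at hk ⊢
      obtain ⟨y, hy, rfl⟩ := hk
      exact ⟨_, hcN.conj_mem y hy ⟨g, hCN hg⟩, rfl⟩
    have := hiii z hzJ rfl hz1
    rwa [le_antisymm hle hge] at this

/-- Build the packaged hypotheses. -/
theorem exists_hyp {G : Type*} [Group G] [Finite G]
    (S : Sylow 3 G) (Z : Subgroup G)
    (hZ : Z = (S : Subgroup G) ⊓ centralizer ((S : Subgroup G) : Set G))
    (J : Subgroup G) (hJS : J ≤ S) (hJcomm : IsMulCommutative J) (hJexp : ∀ a ∈ J, a ^ 3 = 1)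
    (hJcard : Nat.card J = 3 ^ 4)
    (M₀ : Subgroup G)
    (hM₀ : M₀ = closure {g : G | g ∈ normalizer (J : Set G) ∧ ∃ k : ℕ, orderOf g = 3 ^ k})
    (hJM : J ≤ M₀) [hJn : (J.subgroupOf M₀).Normal]
    (eM : M₀ ⧸ J.subgroupOf M₀ ≃* alternatingGroup (Fin 6))
    (L₀ : Subgroup G)
    (hL₀ : L₀ = closure {g : G | g ∈ normalizer (Z : Set G) ∧ ∃ k : ℕ, orderOf g = 3 ^ k})
    (Q : Subgroup G)
    (hQ : Q = (Cfsg.pCore 3 (normalizer (Z : Set G))).map (normalizer (Z : Set G)).subtype)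
    (hQex : Cfsg.IsExtraspecial 3 Q) (hQcard : Nat.card Q = 3 ^ 5) (hQexp : ∀ a ∈ Q, a ^ 3 = 1)
    (hQL : Q ≤ L₀) [hQn : (Q.subgroupOf L₀).Normal]
    (eL : L₀ ⧸ Q.subgroupOf L₀ ≃* Matrix.SpecialLinearGroup (Fin 2) (ZMod 5))
    (hiii : ∀ x ∈ J, x ≠ 1 →
      centralizer (((Cfsg.pCore 3 (centralizer ({x} : Set G))).map
          (centralizer ({x} : Set G)).subtype : Subgroup G) : Set G)
        ≤ (Cfsg.pCore 3 (centralizer ({x} : Set G))).map (centralizer ({x} : Set G)).subtype) :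
    ∃ h : Hyp G, ∀ x ∈ h.J, x ≠ 1 → centralizer (core3 x : Set G) ≤ core3 x := by
  obtain ⟨h, e⟩ := exists_hyp_core S Z hZ J hJS hJcomm hJexp hJcard M₀ hM₀ hJM eM L₀ hL₀ Q hQ hQex hQcard hQexp hQL eL
    fun x hx _ h1 => hiii x hx h1
  exact ⟨h, fun x hx h1 => hiii x (e ▸ hx) h1⟩

/-- Build the packaged hypotheses, with the core condition at the centre only. -/
theorem exists_hyp_weak {G : Type*} [Group G] [Finite G]
    (S : Sylow 3 G) (Z : Subgroup G)
    (hZ : Z = (S : Subgroup G) ⊓ centralizer ((S : Subgroup G) : Set G))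
    (J : Subgroup G) (hJS : J ≤ S) (hJcomm : IsMulCommutative J) (hJexp : ∀ a ∈ J, a ^ 3 = 1)
    (hJcard : Nat.card J = 3 ^ 4)
    (M₀ : Subgroup G)
    (hM₀ : M₀ = closure {g : G | g ∈ normalizer (J : Set G) ∧ ∃ k : ℕ, orderOf g = 3 ^ k})
    (hJM : J ≤ M₀) [hJn : (J.subgroupOf M₀).Normal]
    (eM : M₀ ⧸ J.subgroupOf M₀ ≃* alternatingGroup (Fin 6))
    (L₀ : Subgroup G)
    (hL₀ : L₀ = closure {g : G | g ∈ normalizer (Z : Set G) ∧ ∃ k : ℕ, orderOf g = 3 ^ k})
    (Q : Subgroup G)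
    (hQ : Q = (Cfsg.pCore 3 (normalizer (Z : Set G))).map (normalizer (Z : Set G)).subtype)
    (hQex : Cfsg.IsExtraspecial 3 Q) (hQcard : Nat.card Q = 3 ^ 5) (hQexp : ∀ a ∈ Q, a ^ 3 = 1)
    (hQL : Q ≤ L₀) [hQn : (Q.subgroupOf L₀).Normal]
    (eL : L₀ ⧸ Q.subgroupOf L₀ ≃* Matrix.SpecialLinearGroup (Fin 2) (ZMod 5))
    (hiii : centralizer (((Cfsg.pCore 3 (centralizer (Z : Set G))).map
          (centralizer (Z : Set G)).subtype : Subgroup G) : Set G)
        ≤ (Cfsg.pCore 3 (centralizer (Z : Set G))).map (centralizer (Z : Set G)).subtype) :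
    ∃ h : Hyp G, h.J = J := by
  refine exists_hyp_core S Z hZ J hJS hJcomm hJexp hJcard M₀ hM₀ hJM eM L₀ hL₀ Q hQ hQex hQcard hQexp hQL eL
    fun x _ hx _ => ?_
  have key : ∀ C, C = centralizer (Z : Set G) →
      centralizer (((Cfsg.pCore 3 C).map C.subtype : Subgroup G) : Set G) ≤
        (Cfsg.pCore 3 C).map C.subtype := by
    intro C hC; subst hC; exact hiii
  exact key (centralizer ({x} : Set G)) (by rw [← hx, zpowers_eq_closure, centralizer_closure])

end CfsgLib.Recog.McLThree
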