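import Cfsg.Agent.Lib.Recog.McLThree.CentY

/-!
The local data pass to a subgroup of index two: every element of order a power of three lies in it.
-/

set_option autoImplicit false
set_option linter.style.haveILetI false

namespace CfsgLib.Recog.McLThree

open Subgroup

variable {G : Type*} [Group G] [Finite G] {h : Hyp G}

theorem mem_of_index_two {G0 : Subgroup G} (h2 : G0.index = 2) {g : G} (hg : ∃ k : ℕ, orderOf g = 3 ^ k) :
    g ∈ G0 := by
  obtain ⟨k, hk⟩ := hg
  haveI : G0.Normal := normal_of_index_eq_two h2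
  have h1 : orderOf (g : G ⧸ G0) ∣ 3 ^ k := hk ▸ orderOf_map_dvd (QuotientGroup.mk' G0) g
  have h3 : orderOf (g : G ⧸ G0) ∣ 2 := by
    rw [← h2, index_eq_card]
    exact orderOf_dvd_natCard _
  exact (QuotientGroup.eq_one_iff g).1
    (orderOf_eq_one_iff.1 (Nat.eq_one_of_dvd_coprimes ((by norm_num : Nat.Coprime 3 2).pow_left k) h1 h3))

theorem le_of_index_two {G0 : Subgroup G} (h2 : G0.index = 2) {P : Subgroup G} (hP : IsPGroup 3 P) :
    P ≤ G0 := fun _ hg => mem_of_index_two h2 (Hyp.orderOf_pow_three hP hg)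

theorem normalizer_subgroupOf {G0 K : Subgroup G} (hK : K ≤ G0) {g : G0} :
    g ∈ normalizer ((K.subgroupOf G0 : Subgroup G0) : Set G0) ↔ (g : G) ∈ normalizer (K : Set G) := by
  rw [mem_normalizer_iff, mem_normalizer_iff]
  constructor
  · intro hg x
    constructor
    · intro hx
      exact (hg ⟨x, hK hx⟩).1 (mem_subgroupOf.2 hx)
    · intro hx
      have hxG : x ∈ G0 := by
        have := mul_mem (mul_mem (inv_mem g.2) (hK hx)) g.2
        simpa [mul_assoc] using this
      exact mem_subgroupOf.1 ((hg ⟨x, hxG⟩).2 (mem_subgroupOf.2 hx))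
  · intro hg x
    rw [mem_subgroupOf, mem_subgroupOf]
    exact hg x

/-- The `3`-core of a subgroup of index two agrees with that of the whole. -/
theorem map_pCore_index_two {G0 : Subgroup G} (h2 : G0.index = 2) (N : Subgroup G) (N0 : Subgroup G0)
    (hN : ∀ g : G0, g ∈ N0 ↔ (g : G) ∈ N) :
    ((Cfsg.pCore 3 N0).map N0.subtype).map G0.subtype = (Cfsg.pCore 3 N).map N.subtype := by
  haveI : G0.Normal := normal_of_index_eq_two h2
  have hnP : (Cfsg.pCore 3 N).Normal := CfsgLib.Amalgam.normal_pCore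
  have hP3 : IsPGroup 3 ((Cfsg.pCore 3 N).map N.subtype) := CfsgLib.Amalgam.isPGroup_pCore.map _
  have hPG : (Cfsg.pCore 3 N).map N.subtype ≤ G0 := le_of_index_two h2 hP3
  let e : N0 →* N := (G0.subtype.comp N0.subtype).codRestrict N (fun x => (hN x).1 x.2)
  apply le_antisymm
  · let A : N0 →* G := G0.subtype.comp N0.subtype
    let K : Subgroup G := (Cfsg.pCore 3 N0).map A
    have hKN : K ≤ N := by rintro _ ⟨x, -, rfl⟩; exact (hN x).1 x.2
    have hKn : (K.subgroupOf N).Normal := by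
      refine ⟨?_⟩
      rintro ⟨k, hk⟩ ⟨x, hx, hxk⟩ ⟨g, hg⟩
      let σ : N0 ≃* N0 :=
        { toFun := fun u => ⟨⟨g * (u : G) * g⁻¹, Subgroup.Normal.conj_mem ‹_› _ (u : G0).2 g⟩,
            (hN _).2 (mul_mem (mul_mem hg ((hN _).1 u.2)) (inv_mem hg))⟩
          invFun := fun u => ⟨⟨g⁻¹ * (u : G) * g⁻¹⁻¹, Subgroup.Normal.conj_mem ‹_› _ (u : G0).2 g⁻¹⟩,
            (hN _).2 (mul_mem (mul_mem (inv_mem hg) ((hN _).1 u.2)) (inv_mem (inv_mem hg)))⟩
          left_inv := fun u => Subtype.ext (Subtype.ext (by simp [mul_assoc]))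
          right_inv := fun u => Subtype.ext (Subtype.ext (by simp [mul_assoc]))
          map_mul' := fun u v => Subtype.ext (Subtype.ext (by simp [mul_assoc])) }
      have hσ : σ x ∈ Cfsg.pCore 3 N0 := by
        rw [← CfsgLib.Amalgam.map_pCore_eq σ]; exact ⟨x, hx, rfl⟩
      refine ⟨σ x, hσ, ?_⟩
      show g * (A x) * g⁻¹ = g * k * g⁻¹
      rw [hxk]; rfl
    have hKp : IsPGroup 3 (K.subgroupOf N) := (CfsgLib.Amalgam.isPGroup_pCore.map A).comap_subtype
    rw [Subgroup.map_map]
    intro k hk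
    exact ⟨⟨k, hKN hk⟩, CfsgLib.Amalgam.le_pCore hKn hKp (mem_subgroupOf.2 hk), rfl⟩
  · rintro _ ⟨x, hx, rfl⟩
    have hxG : (x : G) ∈ G0 := hPG ⟨x, hx, rfl⟩
    have hinj : Function.Injective e := fun a b hab =>
      Subtype.ext (Subtype.ext (congrArg (fun t : N => (t : G)) hab))
    refine ⟨⟨x, hxG⟩, ⟨⟨⟨x, hxG⟩, (hN _).2 x.2⟩, ?_, rfl⟩, rfl⟩
    refine CfsgLib.Amalgam.le_pCore (hnP.comap e)
      (CfsgLib.Amalgam.isPGroup_pCore.comap_of_injective e hinj) ?_
    rw [mem_comap]
    exact hx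

theorem closure_subgroupOf {G0 : Subgroup G} (P : G → Prop) (hP : ∀ g, P g → g ∈ G0) :
    (closure {g : G | P g}).subgroupOf G0 = closure {g : G0 | P g} := by
  refine map_injective G0.subtype_injective ?_
  have hcl : closure {g : G | P g} ≤ G0 := (closure_le _).2 hP
  rw [MonoidHom.map_closure, subgroupOf_map_subtype, inf_eq_left.2 hcl]
  refine congrArg Subgroup.closure (Set.ext fun g => ⟨fun hg => ⟨⟨g, hP g hg⟩, hg, rfl⟩, ?_⟩)
  rintro ⟨u, hu, rfl⟩
  exact hu

namespace Hyp

variable (h : Hyp G)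

theorem zpowers_subgroupOf {G0 : Subgroup G} (z : G0) :
    (zpowers (z : G)).subgroupOf G0 = zpowers z := by
  refine map_injective G0.subtype_injective ?_
  rw [MonoidHom.map_zpowers, subgroupOf_map_subtype, inf_eq_left.2 (zpowers_le.2 z.2)]
  rfl

theorem M0_le_of_index_two {G0 : Subgroup G} (h2 : G0.index = 2) : h.M0 ≤ G0 := by
  rw [h.M0_eq]
  exact (closure_le _).2 fun g hg => mem_of_index_two h2 hg.2

theorem L0_le_of_index_two {G0 : Subgroup G} (h2 : G0.index = 2) : h.L0 ≤ G0 := by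
  rw [h.L0_eq]
  exact (closure_le _).2 fun g hg => mem_of_index_two h2 hg.2

/-- The data in a subgroup of index two. -/
noncomputable def restrict {G0 : Subgroup G} (h2 : G0.index = 2) : Hyp G0 :=
  have hS : (h.S : Subgroup G) ≤ G0 := le_of_index_two h2 h.S.isPGroup'
  have hJ : h.J ≤ G0 := h.J_le.trans hS
  have hL : h.L0 ≤ G0 := h.L0_le_of_index_two h2
  have hM : h.M0 ≤ G0 := h.M0_le_of_index_two h2
  have hz : h.z ∈ G0 := hS h.z_mem_S
  have hZn : ∀ g : G0, g ∈ normalizer ((zpowers (⟨h.z, hz⟩ : G0) : Subgroup G0) : Set G0) ↔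
      (g : G) ∈ normalizer (zpowers h.z : Set G) := fun g => by
    rw [← zpowers_subgroupOf (⟨h.z, hz⟩ : G0)]
    exact normalizer_subgroupOf (zpowers_le.2 hz)
  { S := h.S.subtype hS
    J := h.J.subgroupOf G0
    Q := h.Q.subgroupOf G0
    M0 := h.M0.subgroupOf G0
    L0 := h.L0.subgroupOf G0
    z := ⟨h.z, hz⟩
    z_order := by rw [Subgroup.orderOf_mk]; exact h.z_order
    Z_eq := by
      ext x
      rw [mem_inf, Sylow.coe_subtype, mem_subgroupOf]
      constructor
      · rintro ⟨hx, hc⟩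
        have : (x : G) ∈ zpowers h.z := h.Z_eq.le ⟨hx, mem_centralizer_iff.2 fun s hs =>
          congrArg Subtype.val (mem_centralizer_iff.1 hc ⟨s, hS hs⟩ (mem_subgroupOf.2 hs))⟩
        rw [← zpowers_subgroupOf (⟨h.z, hz⟩ : G0)]
        exact this
      · intro hx
        rw [← zpowers_subgroupOf (⟨h.z, hz⟩ : G0)] at hx
        obtain ⟨h1, h3⟩ := h.Z_eq.symm.le hx
        exact ⟨h1, mem_centralizer_iff.2 fun s hs =>
          Subtype.ext (mem_centralizer_iff.1 h3 s hs)⟩
    J_le := fun x hx => by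
      rw [Sylow.coe_subtype]; exact mem_subgroupOf.2 (h.J_le hx)
    J_comm := fun a ha b hb => Subtype.ext (h.J_comm a ha b hb)
    J_exp := fun a ha => Subtype.ext (h.J_exp a ha)
    J_card := by rw [Nat.card_congr (subgroupOfEquivOfLe hJ).toEquiv, h.J_card]
    M0_eq := by
      conv_lhs => rw [h.M0_eq]
      rw [closure_subgroupOf _ (fun g hg => mem_of_index_two h2 hg.2)]
      refine congrArg Subgroup.closure (Set.ext fun g => ?_)
      simp only [Set.mem_setOf_eq, Subgroup.orderOf_coe, normalizer_subgroupOf hJ]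
    J_le_M0 := fun x hx => h.J_le_M0 hx
    piM := h.piM.comp (subgroupOfEquivOfLe hM).toMonoidHom
    piM_surj := h.piM_surj.comp (subgroupOfEquivOfLe hM).surjective
    piM_ker := by
      ext x
      rw [MonoidHom.mem_ker, MonoidHom.comp_apply, ← MonoidHom.mem_ker, h.piM_ker]
      rfl
    L0_eq := by
      conv_lhs => rw [h.L0_eq]
      rw [closure_subgroupOf _ (fun g hg => mem_of_index_two h2 hg.2)]
      refine congrArg Subgroup.closure (Set.ext fun g => ?_)
      simp only [Set.mem_setOf_eq, Subgroup.orderOf_coe, hZn]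
    Q_eq := by
      refine map_injective G0.subtype_injective ?_
      rw [subgroupOf_map_subtype, inf_eq_left.2 (h.Q_le_L0.trans hL), map_pCore_index_two h2 _ _ hZn]
      exact h.Q_eq
    Q_card := by rw [Nat.card_congr (subgroupOfEquivOfLe (h.Q_le_L0.trans hL)).toEquiv, h.Q_card]
    Q_exp := fun a ha => Subtype.ext (h.Q_exp a ha)
    Q_comm := fun a ha b hb => by
      rw [← zpowers_subgroupOf (⟨h.z, hz⟩ : G0)]
      exact mem_subgroupOf.2 (h.Q_comm a ha b hb)
    Q_center := fun a ha hc => by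
      rw [← zpowers_subgroupOf (⟨h.z, hz⟩ : G0)]
      exact mem_subgroupOf.2 (h.Q_center a ha fun b hb =>
        congrArg Subtype.val (hc ⟨b, hL (h.Q_le_L0 hb)⟩ (mem_subgroupOf.2 hb)))
    Q_le_L0 := fun x hx => h.Q_le_L0 hx
    piL := h.piL.comp (subgroupOfEquivOfLe hL).toMonoidHom
    piL_surj := h.piL_surj.comp (subgroupOfEquivOfLe hL).surjective
    piL_ker := by
      ext x
      rw [MonoidHom.mem_ker, MonoidHom.comp_apply, ← MonoidHom.mem_ker, h.piL_ker]
      rfl
    cent_Q' := fun hzJ x hx => h.cent_Q' hzJ (mem_centralizer_iff.2 fun q hq =>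
      congrArg Subtype.val (mem_centralizer_iff.1 hx ⟨q, hL (h.Q_le_L0 hq)⟩ (mem_subgroupOf.2 hq))) }

/-- The hypothesis on the cores passes to a subgroup of index two. -/
theorem restrict_iii {G0 : Subgroup G} (h2 : G0.index = 2)
    (hiii : ∀ x ∈ h.J, x ≠ 1 → centralizer (core3 x : Set G) ≤ core3 x) :
    ∀ x ∈ (h.restrict h2).J, x ≠ 1 → centralizer (core3 x : Set G0) ≤ core3 x := by
  intro x hx hne u hu
  have hmap : (core3 x).map G0.subtype = core3 (x : G) := by
    refine map_pCore_index_two h2 _ _ fun g => ?_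
    rw [mem_centralizer_singleton_iff, mem_centralizer_singleton_iff]
    exact ⟨fun e => congrArg Subtype.val e, fun e => Subtype.ext e⟩
  have h1 : (u : G) ∈ centralizer (core3 (x : G) : Set G) := mem_centralizer_iff.2 fun v hv => by
    rw [SetLike.mem_coe, ← hmap] at hv
    obtain ⟨v, hv, rfl⟩ := hv
    exact congrArg Subtype.val (mem_centralizer_iff.1 hu v hv)
  have h3 := hiii x hx (fun e => hne (Subtype.ext e)) h1
  rw [← hmap] at h3
  obtain ⟨v, hv, e⟩ := h3
  rwa [← G0.subtype_injective e]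

end Hyp

end CfsgLib.Recog.McLThree
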