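import Cfsg.Agent.Lib.Recog.McLThree.CentTChart
import Cfsg.Agent.Lib.Recog.McLThree.CentTK
import Cfsg.Agent.Lib.Recog.McLThree.ChartAbstract

/-!
In the small case the centraliser of `T` is the double cover of the alternating group of degree eight.
-/

set_option autoImplicit false
set_option linter.style.haveILetI false

namespace CfsgLib.Recog.McLThree

open Subgroup

variable {G : Type*} [Group G] [Finite G] {h : Hyp G}

namespace Coords

variable (c : Coords h)

theorem cover_of_small (hy : centralizer ({c.y} : Set G) ≤ normalizer (h.J : Set G))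
    (hsmall : h.CZ = h.L0) :
    Cfsg.IsNonsplitDoubleCover (centralizer ({c.T} : Set G)) (alternatingGroup (Fin 8)) := by
  obtain ⟨hcard, hKn, eK, z, w, hzb, hz, hzK, hw, hC⟩ := c.chart_facts c.KT hsmall c.KT_le c.card_KT
    (fun x hx hxT => by
      obtain ⟨k, hk, a, ha, e⟩ := c.exists_KT_mul (g := x) ⟨hx, mem_centralizer_singleton_iff.2 hxT⟩
      exact ⟨a, ha, k, hk, e.trans (c.KT_comm_Z hk ha)⟩)
    (fun a ha hk => mem_bot.1 (c.KT_inf_Z.le ⟨hk, ha⟩))
    (fun n hn hnT k hk => c.conj_KT hn hnT hk) c.T_mem_KT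
  haveI := hKn
  obtain ⟨eL⟩ := exists_kerSign_equiv hcard (c.Kb c.KT c.KT_le) eK z w hz hzK hw hC
  exact c.cover_of_chart hy hsmall eL

end Coords

end CfsgLib.Recog.McLThree
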