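import Cfsg.Agent.S3330
import Cfsg.Agent.Lib.Recog.McLThree.BigExc
import Cfsg.Agent.Lib.Recog.McLThree.BigQuot
import Cfsg.Agent.Lib.Recog.McLThree.BigChart
import Cfsg.Agent.Lib.Recog.McLThree.BigY
import Cfsg.Agent.Lib.Recog.McLThree.EightFacts

/-!
In the big case the centraliser of `T` modulo `T` is symmetric of degree eight.
-/

set_option autoImplicit false
set_option linter.style.haveILetI false
set_option linter.unusedSectionVars false

namespace CfsgLib.Recog.McLThree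

open Subgroup

variable {G : Type*} [Group G] [Finite G] {h : Hyp G}

namespace Coords

variable (c : Coords h)

/-- The central quotient of the centraliser of `T` is symmetric of degree eight. -/
theorem exists_theta_eight (hbig : Nat.card h.CZ = 2 * Nat.card h.L0)
    (hy : centralizer ({c.y} : Set G) ≤ normalizer (h.J : Set G)) : Nonempty (c.CTbar ≃* Q8p) := by
  classical
  obtain ⟨P, hP⟩ := c.exists_sylow
  obtain ⟨d, hd, hdL⟩ := c.exists_outer hbig
  obtain ⟨⟨eC⟩, ⟨eL⟩⟩ := c.big_charts hbig hd hdL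
  haveI hcn : ((centralizer (c.Eb : Set c.CTbar)).subgroupOf (normalizer (c.Eb : Set c.CTbar))).Normal := by
    refine ⟨fun x hx g => ?_⟩
    rw [mem_subgroupOf, mem_centralizer_iff] at hx ⊢
    intro e he
    have he' := (mem_normalizer_iff.1 (inv_mem g.2) e).1 he
    have := hx _ he'
    simp only [Subgroup.coe_mul, Subgroup.coe_inv, inv_inv] at this ⊢
    calc e * ((g : c.CTbar) * x * (g : c.CTbar)⁻¹)
        = (g : c.CTbar) * ((g : c.CTbar)⁻¹ * e * g * x) * (g : c.CTbar)⁻¹ := by group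
      _ = (g : c.CTbar) * (x * ((g : c.CTbar)⁻¹ * e * g)) * (g : c.CTbar)⁻¹ := by rw [this]
      _ = (g : c.CTbar) * x * (g : c.CTbar)⁻¹ * e := by group
  obtain ⟨⟨eN⟩, ⟨eNC⟩⟩ := c.big_norm_data hbig
  obtain ⟨hycard, hyn, hysq, hNy⟩ := c.cent_yb_big hbig hy
  set yb := c.mkT ⟨c.y, c.E_le_cent c.y_mem_E⟩
  obtain ⟨hyNn, hyNcard, hyNsq⟩ := hNy _ rfl
  have hgen : closure {yb, c.zb} = c.Eb := by
    refine le_antisymm ((closure_le _).2 ?_) ?_
    · rintro _ (rfl | rfl)
      · exact ⟨⟨c.y, c.y_mem_E⟩, rfl⟩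
      · exact ⟨⟨h.z, c.z_mem_E⟩, rfl⟩
    · rintro _ ⟨e, rfl⟩
      obtain ⟨a, b, he⟩ := c.mem_E_iff.1 e.2
      have e1 : c.iotaE e = c.zb ^ (a : ℕ) * (c.zb⁻¹ * yb) ^ (b : ℕ) := by
        rw [← map_inv, ← map_mul, ← map_pow, ← map_pow, ← map_mul]
        refine congrArg c.mkT (Subtype.ext ?_)
        simp only [Subgroup.coe_inclusion, Subgroup.coe_mul, SubmonoidClass.coe_pow, Subgroup.coe_inv]
        rw [show c.y = h.z * c.z' from rfl, inv_mul_cancel_left]
        exact he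
      rw [e1]
      have hz : c.zb ∈ closure {yb, c.zb} := Subgroup.subset_closure (Set.mem_insert_of_mem _ rfl)
      exact mul_mem (pow_mem hz _) (pow_mem (mul_mem (inv_mem hz) (Subgroup.subset_closure (Set.mem_insert _ _))) _)
  have hexp : ∀ a ∈ c.Eb, a ^ 3 = 1 := by
    rintro _ ⟨e, rfl⟩
    rw [← map_pow, show e ^ 3 = 1 from Subtype.ext (h.J_exp _ e.2.1), map_one]
  have hcomm : IsMulCommutative c.Eb := ⟨⟨by
    rintro ⟨_, e, rfl⟩ ⟨_, e', rfl⟩
    exact Subtype.ext (by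
      show c.iotaE e * c.iotaE e' = c.iotaE e' * c.iotaE e
      rw [← map_mul, ← map_mul, show e * e' = e' * e from Subtype.ext (h.J_comm _ e.2.1 _ e'.2.1)])⟩⟩
  rcases Cfsg.Agent.S3330.result P c.Eb hP.symm yb c.zb hgen hcomm c.card_Eb hexp
    (c.card_cent_Eb hbig) eN eNC hyn hycard hysq _ rfl hyNn hyNcard hyNsq eC eL with h8 | ⟨N, hN, -, ⟨e₀⟩, -, -, hsq⟩
  · exact h8
  · haveI := hN
    exact (c.no_product N e₀ hsq).elim

end Coords

end CfsgLib.Recog.McLThree
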