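import Cfsg.Agent.Lib.Recog.McLThree.BigClasses
import Mathlib.GroupTheory.Transfer

/-!
The transfer of the sign of the centraliser of `T` cuts out a subgroup of index two.
-/

set_option autoImplicit false
set_option linter.style.haveILetI false
set_option linter.unusedSectionVars false

namespace CfsgLib.Recog.McLThree

open Subgroup

variable {G : Type*} [Group G] [Finite G]

/-- The transfer of a sign character at an involution all of whose conjugates in the subgroup have sign
`-1`: it is `-1` to the number of fixed cosets. -/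
theorem transfer_invol {C : Subgroup G} (χ : C →* ℤˣ) {u : G} (hu : u * u = 1)
    (hodd : ∀ (g : G) (hg : g⁻¹ * u * g ∈ C), χ ⟨g⁻¹ * u * g, hg⟩ = -1) :
    MonoidHom.transfer χ u = (-1) ^ Nat.card {x : G ⧸ C // u • x = x} := by
  classical
  haveI := Fintype.ofFinite (G ⧸ C)
  haveI := Fintype.ofFinite (Quotient (MulAction.orbitRel (zpowers u) (G ⧸ C)))
  rw [MonoidHom.transfer_eq_prod_quotient_orbitRel_zpowers_quot]
  have hper : ∀ x : G ⧸ C, Function.minimalPeriod (u • ·) x = 1 ∨
      Function.minimalPeriod (u • ·) x = 2 := fun x => by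
    have h2 : Function.IsPeriodicPt (u • ·) 2 x := by
      show u • u • x = x
      rw [← mul_smul, hu, one_smul]
    exact (Nat.dvd_prime Nat.prime_two).1 h2.minimalPeriod_dvd
  have hone : ∀ x : G ⧸ C, Function.minimalPeriod (u • ·) x = 1 ↔ u • x = x := fun x =>
    Function.minimalPeriod_eq_one_iff_isFixedPt
  -- the fixed cosets are the orbits of length one
  have horb : ∀ x : G ⧸ C, u • x = x → (Quotient.mk (MulAction.orbitRel (zpowers u) (G ⧸ C)) x).out = x := by
    intro x hx
    obtain ⟨⟨k, hk⟩, e⟩ := Quotient.mk_out (s := MulAction.orbitRel (zpowers u) (G ⧸ C)) x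
    obtain ⟨n, rfl⟩ := mem_zpowers_iff.1 hk
    rw [← e]
    have hs : u ∈ MulAction.stabilizer G x := hx
    exact zpow_mem hs n
  let e : {q : Quotient (MulAction.orbitRel (zpowers u) (G ⧸ C)) // u • q.out = q.out} ≃
      {x : G ⧸ C // u • x = x} :=
    { toFun := fun q => ⟨q.1.out, q.2⟩
      invFun := fun x => ⟨Quotient.mk _ x.1, by rw [horb x.1 x.2]; exact x.2⟩
      left_inv := fun q => Subtype.ext q.1.out_eq
      right_inv := fun x => Subtype.ext (horb x.1 x.2) }
  rw [← Nat.card_congr e, Nat.card_eq_fintype_card, Fintype.card_subtype]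
  rw [← Finset.prod_const, Finset.prod_filter]
  refine Finset.prod_congr rfl fun q _ => ?_
  rcases hper q.out with e1 | e1
  · rw [if_pos ((hone _).1 e1)]
    have hg : q.out.out⁻¹ * u * q.out.out ∈ C := by
      have := QuotientGroup.out_conj_pow_minimalPeriod_mem C u q.out
      rwa [e1, pow_one] at this
    refine Eq.trans ?_ (hodd _ hg)
    congr 1
    exact Subtype.ext (by
      show q.out.out⁻¹ * u ^ Function.minimalPeriod (u • ·) q.out * q.out.out = q.out.out⁻¹ * u * q.out.out
      rw [e1, pow_one])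
  · rw [if_neg (fun hh => by rw [(hone _).2 hh] at e1; omega)]
    refine Eq.trans ?_ (map_one χ)
    congr 1
    exact Subtype.ext (by
      show q.out.out⁻¹ * u ^ Function.minimalPeriod (u • ·) q.out * q.out.out = 1
      rw [e1, pow_two, hu, mul_one, inv_mul_cancel])

variable {h : Hyp G}

namespace Coords

variable (c : Coords h)

theorem exists_index_two (hbig : Nat.card h.CZ = 2 * Nat.card h.L0)
    (hy : centralizer ({c.y} : Set G) ≤ normalizer (h.J : Set G)) (θ : c.CTbar ≃* Q8p) :
    ∃ G0 : Subgroup G, G0.index = 2 ∧ h.CZ ⊓ G0 = h.L0 := by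
  classical
  haveI := Fintype.ofFinite G
  obtain ⟨χ, d, hdD, hdL, hχd, hχU, hχT, hd2, heven, hodd⟩ := c.exists_odd_char hbig hy θ
  -- an odd involution
  obtain ⟨u, hu2, hχu, hud⟩ : ∃ u : c.CT, u * u = 1 ∧ χ u = -1 ∧
      (u = d ∨ u = d * ⟨c.U, c.U_mem_cent⟩) := by
    rcases hd2 with e | e
    · exact ⟨d, e, hχd, Or.inl rfl⟩
    · exact ⟨_, e, by rw [map_mul, hχd, hχU, mul_one], Or.inr rfl⟩
  have hu2' : (u : G) * u = 1 := congrArg Subtype.val hu2
  have huT : (u : G) * c.T = c.T * u := c.mem_cent_T.1 u.2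
  let V : G →* ℤˣ := MonoidHom.transfer χ
  -- conjugates of `u` inside the centraliser are odd
  have hconj : ∀ (g : G) (hg : g⁻¹ * (u : G) * g ∈ c.CT), χ ⟨g⁻¹ * u * g, hg⟩ = -1 := by
    intro g hg
    set v : c.CT := ⟨g⁻¹ * u * g, hg⟩
    have hv2 : v * v = 1 := Subtype.ext (by
      show g⁻¹ * u * g * (g⁻¹ * u * g) = 1
      rw [show g⁻¹ * u * g * (g⁻¹ * u * g) = g⁻¹ * ((u : G) * u) * g by group, hu2']; group)
    rcases Int.units_eq_one_or (χ v) with e | e
    · exfalso
      have hv1 : v ≠ 1 := fun e1 => by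
        have h1 : g⁻¹ * (u : G) * g = 1 := congrArg Subtype.val e1
        have h1' : (u : G) = 1 := by
          calc (u : G) = g * (g⁻¹ * u * g) * g⁻¹ := by group
            _ = 1 := by rw [h1]; group
        rw [show u = 1 from Subtype.ext h1', map_one] at hχu
        exact absurd hχu (by decide)
      obtain ⟨k, hk⟩ : ∃ k : G, k * c.T * k⁻¹ = (v : G) := by
        by_cases hvT : v = c.Tc
        · exact ⟨1, by rw [hvT]; simp⟩
        · exact heven v hv2 hv1 hvT e
      refine hodd u hu2 hχu (g * k) ?_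
      rw [show g * k * c.T * (g * k)⁻¹ = g * (k * c.T * k⁻¹) * g⁻¹ by group, hk]
      show g * (g⁻¹ * u * g) * g⁻¹ = u
      group
    · exact e
  -- the conjugates of `T` commuting with `u`
  let F := {v : G // (∃ g : G, g * c.T * g⁻¹ = v) ∧ v * (u : G) = u * v}
  have hFix : Nat.card {x : G ⧸ c.CT // (u : G) • x = x} = Nat.card F := by
    have key : ∀ g : G, (u : G) • (g : G ⧸ c.CT) = g ↔ g * c.T * g⁻¹ * u = u * (g * c.T * g⁻¹) := by
      intro g
      have e : (u : G) • (g : G ⧸ c.CT) = ((((u : G) * g) : G) : G ⧸ c.CT) := rfl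
      rw [e, eq_comm, QuotientGroup.eq, mem_centralizer_singleton_iff]
      constructor
      · intro hh
        calc g * c.T * g⁻¹ * u = g * (c.T * (g⁻¹ * (u * g))) * g⁻¹ := by group
          _ = g * (g⁻¹ * (u * g) * c.T) * g⁻¹ := by rw [← hh]
          _ = u * (g * c.T * g⁻¹) := by group
      · intro hh
        calc g⁻¹ * ((u : G) * g) * c.T = g⁻¹ * (u * (g * c.T * g⁻¹)) * g := by group
          _ = g⁻¹ * (g * c.T * g⁻¹ * u) * g := by rw [hh]
          _ = c.T * (g⁻¹ * (u * g)) := by group
    let e : {x : G ⧸ c.CT // (u : G) • x = x} → F := fun x =>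
      ⟨x.1.out * c.T * x.1.out⁻¹, ⟨x.1.out, rfl⟩,
        (key x.1.out).1 (by rw [QuotientGroup.out_eq']; exact x.2)⟩
    refine Nat.card_eq_of_bijective e ⟨fun x y exy => ?_, ?_⟩
    · have e1 : x.1.out * c.T * x.1.out⁻¹ = y.1.out * c.T * y.1.out⁻¹ := congrArg Subtype.val exy
      refine Subtype.ext ?_
      rw [← QuotientGroup.out_eq' x.1, ← QuotientGroup.out_eq' y.1, QuotientGroup.eq,
        mem_centralizer_singleton_iff]
      calc x.1.out⁻¹ * y.1.out * c.T = x.1.out⁻¹ * (y.1.out * c.T * y.1.out⁻¹) * y.1.out := by group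
        _ = c.T * (x.1.out⁻¹ * y.1.out) := by rw [← e1]; group
    · rintro ⟨v, ⟨g, rfl⟩, hv⟩
      refine ⟨⟨(g : G ⧸ c.CT), (key g).2 hv⟩, Subtype.ext ?_⟩
      obtain ⟨k, hk⟩ := QuotientGroup.mk_out_eq_mul c.CT g
      show (g : G ⧸ c.CT).out * c.T * (g : G ⧸ c.CT).out⁻¹ = g * c.T * g⁻¹
      rw [hk, show g * (k : G) * c.T * (g * k)⁻¹ = g * ((k : G) * c.T * (k : G)⁻¹) * g⁻¹ by group,
        c.mem_cent_T.1 k.2, mul_inv_cancel_right]
  -- their number is odd
  have hFodd : Odd (Nat.card F) := by
    let S : Finset G := Finset.univ.filter fun v =>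
      (∃ g : G, g * c.T * g⁻¹ = v) ∧ v * (u : G) = u * v
    have hcard : Nat.card F = S.card := by
      rw [Nat.card_eq_fintype_card]; exact Fintype.card_subtype _
    have hTS : c.T ∈ S := Finset.mem_filter.2 ⟨Finset.mem_univ _, ⟨1, by simp⟩, huT.symm⟩
    let φ : G → G := fun v => if v * c.T = c.T * v then v * c.T else c.T * v * c.T
    have hmem : ∀ v ∈ S.erase c.T, φ v ∈ S.erase c.T ∧ φ v ≠ v ∧ φ (φ v) = v := by
      intro v hv
      obtain ⟨hvT, -, ⟨g, hg⟩, hvu⟩ := (by simpa [S] using hv :
        v ≠ c.T ∧ True ∧ (∃ g : G, g * c.T * g⁻¹ = v) ∧ v * (u : G) = u * v)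
      by_cases hc : v * c.T = c.T * v
      · have hφ : φ v = v * c.T := if_pos hc
        have hv2 : v * v = 1 := by
          rw [← hg, show g * c.T * g⁻¹ * (g * c.T * g⁻¹) = g * (c.T * c.T) * g⁻¹ by group, c.T_sq]
          group
        set vc : c.CT := ⟨v, c.mem_cent_T.2 hc⟩
        have hχv : χ vc = 1 := (Int.units_eq_one_or (χ vc)).resolve_right fun e =>
          hodd vc (Subtype.ext hv2) e g hg
        have h2 : v * c.T * (v * c.T) = 1 := by
          rw [(show Commute c.T v from hc.symm).mul_mul_mul_comm, hv2, c.T_sq, one_mul]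
        have hne : v * c.T ≠ c.T := fun e => by
          have hv1 : v = 1 := mul_eq_right.1 e
          rw [hv1] at hg
          exact c.T_ne (conj_eq_one_iff.1 hg)
        obtain ⟨g', hg'⟩ := heven (vc * c.Tc) (Subtype.ext h2)
          (fun e => hvT (by
            have e' : v * c.T = 1 := congrArg Subtype.val e
            rw [eq_inv_of_mul_eq_one_left e', c.T_inv]))
          (fun e => hne (congrArg Subtype.val e)) (by rw [map_mul, hχv, hχT, mul_one])
        refine ⟨?_, ?_, ?_⟩
        · rw [hφ]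
          simp only [S, Finset.mem_erase, Finset.mem_filter, Finset.mem_univ, true_and]
          refine ⟨hne, ⟨g', hg'⟩, ?_⟩
          exact ((show Commute v (u : G) from hvu).mul_left huT.symm).eq
        · rw [hφ]; exact fun e => c.T_ne (mul_eq_left.1 e)
        · rw [hφ, show φ (v * c.T) = v * c.T * c.T from if_pos (by rw [← mul_assoc c.T, ← hc]),
            mul_assoc, c.T_sq, mul_one]
      · have hφ : φ v = c.T * v * c.T := if_neg hc
        refine ⟨?_, ?_, ?_⟩
        · rw [hφ]
          simp only [S, Finset.mem_erase, Finset.mem_filter, Finset.mem_univ, true_and]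
          refine ⟨fun e => hc ?_, ⟨c.T * g, ?_⟩, ?_⟩
          · have hv : v = c.T := by
              calc v = c.T * c.T * v * (c.T * c.T) := by rw [c.T_sq, one_mul, mul_one]
                _ = c.T * (c.T * v * c.T) * c.T := by simp only [mul_assoc]
                _ = c.T := by rw [e, c.T_sq, one_mul]
            rw [hv]
          · rw [← hg, mul_inv_rev, c.T_inv]; simp only [mul_assoc]
          · exact (((show Commute c.T (u : G) from huT.symm).mul_left hvu).mul_left huT.symm).eq
        · rw [hφ]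
          intro e
          refine hc ?_
          calc v * c.T = c.T * v * c.T * c.T := by rw [e]
            _ = c.T * v := by rw [mul_assoc, c.T_sq, mul_one]
        · have hc' : ¬ (c.T * v * c.T * c.T = c.T * (c.T * v * c.T)) := by
            rw [mul_assoc (c.T * v) c.T c.T, c.T_sq, mul_one, ← mul_assoc c.T (c.T * v) c.T,
              ← mul_assoc c.T c.T v, c.T_sq, one_mul]
            exact fun e => hc e.symm
          rw [hφ, show φ (c.T * v * c.T) = c.T * (c.T * v * c.T) * c.T from if_neg hc',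
            ← mul_assoc c.T (c.T * v) c.T, ← mul_assoc c.T c.T v, c.T_sq, one_mul, mul_assoc v c.T c.T,
            c.T_sq, mul_one]
    have h0 : ((S.erase c.T).card : ZMod 2) = 0 := by
      rw [Finset.cast_card]
      exact Finset.sum_involution (fun v _ => φ v) (fun v _ => (by decide : (1 : ZMod 2) + 1 = 0))
        (fun v hv _ => (hmem v hv).2.1) (fun v hv => (hmem v hv).1) (fun v hv => (hmem v hv).2.2)
    rw [ZMod.natCast_eq_zero_iff_even] at h0
    rw [hcard, ← Finset.card_erase_add_one hTS]
    exact h0.add_one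
  have hVu : V u = -1 := by
    show MonoidHom.transfer χ (u : G) = -1
    rw [transfer_invol χ hu2' hconj, hFix, hFodd.neg_one_pow]
  have hV2 : ∀ x : G, V x * V x = 1 := fun x => Int.units_mul_self _
  have hVU : V c.U = 1 := by
    obtain ⟨σ, hσ, -⟩ := c.exists_sigma
    rw [← hσ, map_mul, map_mul, map_inv, mul_comm (V σ), mul_inv_cancel_right]
    show V (c.W * c.W) = 1
    rw [map_mul, hV2]
  have hVd : V d = -1 := by
    rcases hud with rfl | rfl
    · exact hVu
    · have : V ((d : G) * c.U) = -1 := hVu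
      rwa [map_mul, hVU, mul_one] at this
  have hidx : V.ker.index = 2 := by
    rw [Subgroup.index_ker, MonoidHom.range_eq_top.2 (fun x => by
      rcases Int.units_eq_one_or x with e | e
      · exact ⟨1, by rw [map_one, e]⟩
      · exact ⟨d, by rw [hVd, e]⟩), Subgroup.card_top, Nat.card_eq_fintype_card]
    decide
  have hL0 : h.L0 ≤ V.ker := by
    rw [h.L0_eq, closure_le]
    rintro g ⟨-, k, hk⟩
    show V g = 1
    rcases Int.units_eq_one_or (V g) with e | e
    · exact e
    · exfalso
      have := congrArg V (pow_orderOf_eq_one g)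
      rw [map_pow, map_one, e, hk, (Odd.pow (by decide : Odd 3)).neg_one_pow] at this
      exact absurd this (by decide)
  refine ⟨V.ker, hidx, le_antisymm ?_ (le_inf h.L0_le_CZ hL0)⟩
  rintro g ⟨hgC, hgV⟩
  by_contra hgL
  have h1 : V (g * (d : G)) = 1 := hL0 (h.mul_mem_L0 hbig hgC (c.D_CZ hdD) hgL hdL)
  rw [map_mul, show V g = 1 from hgV, hVd, one_mul] at h1
  exact absurd h1 (by decide)

end Coords

end CfsgLib.Recog.McLThree
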