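import Cfsg.Prelude.Def_Spor_Conway
import Cfsg.Agent.Lib.Recog.McLThree.Main
import Cfsg.Agent.Lib.Recog.McLThree.SmallCase
import Cfsg.Agent.Lib.Recog.McLThree.Theta
import Cfsg.Agent.Lib.Recog.McLThree.TransferSign
import Cfsg.Agent.Lib.Recog.McLThree.Restrict
import Cfsg.Agent.Lib.Recog.McLThree.Endgame
import Cfsg.Agent.Lib.Recog.McLThree.AutWrap

/-!
The `3`-local characterisation of the McLaughlin group, given the characterisation by the centraliser of
an involution.
-/

set_option autoImplicit false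
set_option linter.style.haveILetI false

namespace CfsgLib.Recog.McLThree

open Subgroup

universe u

/-- The characterisation by the centraliser of an involution. -/
def InvolutionCriterion : Prop :=
  ∀ (G : Type u) [Group G] [Finite G] (t : G), orderOf t = 2 →
    Cfsg.IsNonsplitDoubleCover (centralizer ({t} : Set G)) (alternatingGroup (Fin 8)) →
    centralizer ({t} : Set G) ⊔ Cfsg.oddCore G = ⊤ ∨ Nonempty (G ≃* Cfsg.Spor.McL)

/-- The centraliser of `y` normalises `J` in every group with the packaged hypotheses. -/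
def YCriterion : Prop :=
  ∀ (G : Type u) [Group G] [Finite G] (h : Hyp G) (c : Coords h),
    centralizer ({c.y} : Set G) ≤ normalizer (h.J : Set G)

theorem mcl_of_small (hrec : InvolutionCriterion.{u}) {G : Type u} [Group G] [Finite G] (h : Hyp G)
    (hy : ∀ c : Coords h, centralizer ({c.y} : Set G) ≤ normalizer (h.J : Set G))
    (hsmall : h.CZ = h.L0) :
    Nonempty (G ≃* Cfsg.Spor.McL) := by
  obtain ⟨c⟩ := exists_coords h
  have hcov := c.cover_of_small (hy c) hsmall
  exact c.iso_of_cover (fun t ht hc => hrec G t ht hc) hcov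

/-- Either the McLaughlin group, or a normal self-centralising copy of it of index two. -/
theorem mcl_or_index_two (hrec : InvolutionCriterion.{u}) {G : Type u} [Group G] [Finite G] (h : Hyp G)
    (hy : ∀ c : Coords h, centralizer ({c.y} : Set G) ≤ normalizer (h.J : Set G))
    (hy0 : ∀ (G0 : Subgroup G) (hidx : G0.index = 2) (c : Coords (h.restrict hidx)),
      centralizer ({c.y} : Set G0) ≤ normalizer ((h.restrict hidx).J : Set G0)) :
    Nonempty (G ≃* Cfsg.Spor.McL) ∨ ∃ G0 : Subgroup G, G0.Normal ∧ G0.index = 2 ∧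
      centralizer (G0 : Set G) = ⊥ ∧ Nonempty (G0 ≃* Cfsg.Spor.McL) := by
  obtain ⟨c⟩ := exists_coords h
  rcases c.card_CZ with h1 | h1
  · exact Or.inl (mcl_of_small hrec h hy (Subgroup.eq_of_le_of_card_ge h.L0_le_CZ h1.le).symm)
  · right
    obtain ⟨θ⟩ := c.exists_theta_eight h1 (hy c)
    obtain ⟨G0, hidx, hCZ⟩ := c.exists_index_two h1 (hy c) θ
    have hsmall : (h.restrict hidx).CZ = (h.restrict hidx).L0 := by
      ext g
      show g ∈ (h.restrict hidx).CZ ↔ (g : G) ∈ h.L0
      rw [← hCZ, mem_inf, Hyp.mem_CZ, Hyp.mem_CZ]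
      exact ⟨fun e => ⟨congrArg Subtype.val e, g.2⟩, fun e => Subtype.ext e.1⟩
    exact ⟨G0, normal_of_index_eq_two hidx, hidx, c.cent_eq_bot G0 (h.M0_le_of_index_two hidx),
      mcl_of_small hrec (h.restrict hidx) (hy0 G0 hidx) hsmall⟩

/-- The conclusion of the `3`-local characterisations, from the criterion at `y`. -/
theorem mcl_or_aut_of_criterion (hrec : InvolutionCriterion.{u}) {G : Type u} [Group G] [Finite G]
    (h : Hyp G) (hy : ∀ c : Coords h, centralizer ({c.y} : Set G) ≤ normalizer (h.J : Set G))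
    (hy0 : ∀ (G0 : Subgroup G) (hidx : G0.index = 2) (c : Coords (h.restrict hidx)),
      centralizer ({c.y} : Set G0) ≤ normalizer ((h.restrict hidx).J : Set G0)) :
    Nonempty (G ≃* Cfsg.Spor.McL) ∨ Nonempty (G ≃* MulAut Cfsg.Spor.McL) := by
  rcases mcl_or_index_two hrec h hy hy0 with h1 | ⟨G0, hn, hidx, hC, ⟨e⟩⟩
  · exact Or.inl h1
  · haveI := hn
    exact Or.inr (mulEquiv_mulAut_of_index_two G0 hidx e hC)

theorem mcl_or_aut (hrec : InvolutionCriterion.{u}) {G : Type u} [Group G] [Finite G] (h : Hyp G)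
    (hiii : ∀ x ∈ h.J, x ≠ 1 → centralizer (core3 x : Set G) ≤ core3 x) :
    Nonempty (G ≃* Cfsg.Spor.McL) ∨ Nonempty (G ≃* MulAut Cfsg.Spor.McL) :=
  mcl_or_aut_of_criterion hrec h (fun c => c.cent_y_le hiii)
    (fun _ hidx c => c.cent_y_le (h.restrict_iii hidx hiii))

end CfsgLib.Recog.McLThree
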