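import Cfsg.Agent.Lib.Recog.McLThree.Points

/-!
The anisotropic form on `Q/A` obtained from the commutators with the second point.
-/

set_option autoImplicit false
set_option linter.style.haveILetI false
set_option linter.unusedSectionVars false

namespace CfsgLib.Recog.McLThree

open Subgroup

variable {G : Type*} [Group G] [Finite G]

namespace Hyp

variable (h : Hyp G)

open Classical in
/-- The exponent of an element of the centre. -/
noncomputable def zexp (x : G) : ZMod 3 := if x = h.z then 1 else if x = h.z⁻¹ then -1 else 0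

theorem z_ne_inv : h.z ≠ h.z⁻¹ := fun e => by
  have h2 : h.z ^ 2 = 1 := by rw [pow_two]; nth_rewrite 2 [e]; exact mul_inv_cancel _
  have h3 := orderOf_dvd_of_pow_eq_one h2
  rw [h.z_order] at h3
  omega

theorem zexp_zpow (n : ℤ) : h.zexp (h.z ^ n) = (n : ZMod 3) := by
  have e1 : h.z ^ n = h.z ^ (n % 3) := by
    conv_lhs => rw [← zpow_mod_orderOf, h.z_order]
    rfl
  have e2 : (n : ZMod 3) = ((n % 3 : ℤ) : ZMod 3) := (ZMod.intCast_mod n 3).symm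
  have h0 : n % 3 = 0 ∨ n % 3 = 1 ∨ n % 3 = 2 := by omega
  have hz2 : h.z ^ (2 : ℤ) = h.z⁻¹ := eq_inv_of_mul_eq_one_left (by
    rw [show (2 : ℤ) = ((2 : ℕ) : ℤ) from rfl, zpow_natCast, ← pow_succ, h.z_cube])
  rw [e1, e2, zexp]
  rcases h0 with e | e | e <;> rw [e]
  · rw [zpow_zero, if_neg h.z_ne.symm, if_neg (fun hh => h.z_ne (inv_eq_one.1 hh.symm)), Int.cast_zero]
  · rw [zpow_one, if_pos rfl, Int.cast_one]
  · rw [hz2, if_neg h.z_ne_inv.symm, if_pos rfl]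
    decide

theorem zexp_one : h.zexp 1 = 0 := by simpa using h.zexp_zpow 0

theorem zexp_mul {a b : G} (ha : a ∈ h.Z) (hb : b ∈ h.Z) : h.zexp (a * b) = h.zexp a + h.zexp b := by
  obtain ⟨m, rfl⟩ := mem_zpowers_iff.1 ha
  obtain ⟨n, rfl⟩ := mem_zpowers_iff.1 hb
  rw [← zpow_add, h.zexp_zpow, h.zexp_zpow, h.zexp_zpow, Int.cast_add]

theorem zexp_eq_zero {a : G} (ha : a ∈ h.Z) (he : h.zexp a = 0) : a = 1 := by
  obtain ⟨m, rfl⟩ := mem_zpowers_iff.1 ha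
  rw [h.zexp_zpow, ZMod.intCast_zmod_eq_zero_iff_dvd] at he
  obtain ⟨k, rfl⟩ := he
  rw [zpow_mul, show h.z ^ ((3 : ℕ) : ℤ) = 1 by rw [zpow_natCast]; exact h.z_cube, one_zpow]

/-- The commutator with an element of `A` is multiplicative. -/
theorem comm_A_mul {x a b : G} (hx : x ∈ h.Q) (ha : a ∈ h.A) (hb : b ∈ h.A) :
    x * (a * b) * x⁻¹ * (a * b)⁻¹ = (x * a * x⁻¹ * a⁻¹) * (x * b * x⁻¹ * b⁻¹) := by
  have hz := h.Q_comm x hx b hb.2
  calc x * (a * b) * x⁻¹ * (a * b)⁻¹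
      = (x * a * x⁻¹ * a⁻¹) * (a * (x * b * x⁻¹ * b⁻¹) * a⁻¹) := by group
    _ = _ := by rw [h.Z_comm_Q ha.2 hz, mul_inv_cancel_right]

end Hyp

variable {h : Hyp G}

namespace Coords

variable (c : Coords h)

/-- The commutator with the second point. -/
abbrev al (x : G) : G := x * c.z' * x⁻¹ * c.z'⁻¹

/-- The pairing. -/
noncomputable def beta (x y : G) : ZMod 3 := h.zexp (x * c.al y * x⁻¹ * (c.al y)⁻¹)

theorem al_mem {y : G} (hy : y ∈ h.Q) : c.al y ∈ h.A := c.comm_z' (h.Q_le_S hy)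

theorem beta_mem {x y : G} (hx : x ∈ h.Q) (hy : y ∈ h.Q) :
    x * c.al y * x⁻¹ * (c.al y)⁻¹ ∈ h.Z := h.Q_comm x hx _ (c.al_mem hy).2

theorem beta_mul_left {x₁ x₂ y : G} (h1 : x₁ ∈ h.Q) (h2 : x₂ ∈ h.Q) (hy : y ∈ h.Q) :
    c.beta (x₁ * x₂) y = c.beta x₁ y + c.beta x₂ y := by
  have e : x₁ * x₂ * c.al y * (x₁ * x₂)⁻¹ * (c.al y)⁻¹ =
      (x₁ * (x₂ * c.al y * x₂⁻¹ * (c.al y)⁻¹) * x₁⁻¹) * (x₁ * c.al y * x₁⁻¹ * (c.al y)⁻¹) := by group
  rw [beta, e, h.Z_comm_Q h1 (c.beta_mem h2 hy), mul_inv_cancel_right,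
    h.zexp_mul (c.beta_mem h2 hy) (c.beta_mem h1 hy), add_comm]
  rfl

theorem beta_A_left {a y : G} (ha : a ∈ h.A) (hy : y ∈ h.Q) : c.beta a y = 0 := by
  rw [beta, h.A_comm a ha _ (c.al_mem hy), mul_inv_cancel_right, mul_inv_cancel, h.zexp_one]

theorem beta_inv_left {x y : G} (hx : x ∈ h.Q) (hy : y ∈ h.Q) : c.beta x⁻¹ y = -c.beta x y := by
  have := c.beta_mul_left (inv_mem hx) hx hy
  rw [inv_mul_cancel, c.beta_A_left (one_mem _) hy] at this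
  exact eq_neg_of_add_eq_zero_left this.symm

theorem beta_pow_left {x y : G} (hx : x ∈ h.Q) (hy : y ∈ h.Q) :
    ∀ n : ℕ, c.beta (x ^ n) y = n * c.beta x y
  | 0 => by rw [pow_zero, c.beta_A_left (one_mem _) hy, Nat.cast_zero, zero_mul]
  | n + 1 => by
    rw [pow_succ, c.beta_mul_left (pow_mem hx n) hx hy, beta_pow_left hx hy n, Nat.cast_succ,
      add_mul, one_mul]

theorem beta_congr {x x' y : G} (hx : x ∈ h.Q) (ha : x' * x⁻¹ ∈ h.A) (hy : y ∈ h.Q) :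
    c.beta x' y = c.beta x y := by
  have := c.beta_mul_left ha.2 hx hy
  rwa [inv_mul_cancel_right, c.beta_A_left ha hy, zero_add] at this

theorem al_mul (y₁ y₂ : G) :
    c.al (y₁ * y₂) = (y₁ * c.al y₂ * y₁⁻¹ * (c.al y₂)⁻¹) * (c.al y₂ * c.al y₁) := by
  simp only [al]; group

theorem beta_symm {x y : G} (hx : x ∈ h.Q) (hy : y ∈ h.Q) : c.beta x y = c.beta y x := by
  have hc := h.Q_comm y hy x hx
  have e : c.al (y * x) = c.al (x * y) := by
    have hw : x * y * c.z' * (x * y)⁻¹ ∈ h.J :=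
      h.conj_J (h.S_le_normJ (h.Q_le_S (mul_mem hx hy))) c.z'_mem_E.1
    have hcJ : y * x * y⁻¹ * x⁻¹ ∈ h.J := (zpowers_le.2 h.z_mem_J : h.Z ≤ h.J) hc
    calc c.al (y * x)
        = (y * x * y⁻¹ * x⁻¹) * (x * y * c.z' * (x * y)⁻¹) * (y * x * y⁻¹ * x⁻¹)⁻¹ * c.z'⁻¹ := by
          simp only [al]; group
      _ = c.al (x * y) := by rw [h.J_comm _ hcJ _ hw, mul_inv_cancel_right]
  rw [al_mul, al_mul, h.A_comm _ (c.al_mem hx) _ (c.al_mem hy)] at e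
  exact congrArg h.zexp (mul_right_cancel e).symm

theorem beta_conj {g : G} (hg : g ∈ h.NZ) (ε η : ℤ)
    (hz : g * h.z * g⁻¹ = h.z ^ ε) (hz' : g * c.z' * g⁻¹ = c.z' ^ η) (hη : η * η = 1) {x y : G}
    (hx : x ∈ h.Q) (hy : y ∈ h.Q) :
    c.beta (g * x * g⁻¹) (g * y * g⁻¹) = ((ε * η : ℤ) : ZMod 3) * c.beta x y := by
  have hgy := h.conj_Q hg hy
  have hal : ∀ w ∈ h.Q, w * c.z' ^ η * w⁻¹ * (c.z' ^ η)⁻¹ = c.al w ^ η := by
    intro w hw
    have e : c.al w * c.z' = w * c.z' * w⁻¹ := by simp only [al]; group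
    have hcm : Commute (c.al w) c.z' := h.J_comm _ (c.al_mem hw).1 _ c.z'_mem_E.1
    rw [← conj_zpow, ← e, hcm.mul_zpow, mul_inv_cancel_right]
  have e1 : c.al (g * y * g⁻¹) ^ η = g * c.al y * g⁻¹ := by
    rw [← hal _ hgy, ← hz']
    simp only [al]; group
  have e2 : c.al (g * y * g⁻¹) = g * c.al y ^ η * g⁻¹ := by
    rw [← conj_zpow, ← e1, ← zpow_mul, hη, zpow_one]
  obtain ⟨n, hn⟩ := mem_zpowers_iff.1 (c.beta_mem hx hy)
  have e3 : x * c.al y ^ η * x⁻¹ * (c.al y ^ η)⁻¹ = h.z ^ (n * η) := by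
    have e : h.z ^ n * c.al y = x * c.al y * x⁻¹ := by rw [hn, inv_mul_cancel_right]
    have hcm : Commute (h.z ^ n) (c.al y) :=
      (Commute.symm (h.z_comm_Q (c.al_mem hy).2)).zpow_left n
    rw [← conj_zpow, ← e, hcm.mul_zpow, mul_inv_cancel_right, zpow_mul]
  have e4 : g * x * g⁻¹ * c.al (g * y * g⁻¹) * (g * x * g⁻¹)⁻¹ * (c.al (g * y * g⁻¹))⁻¹ =
      g * (x * c.al y ^ η * x⁻¹ * (c.al y ^ η)⁻¹) * g⁻¹ := by rw [e2]; group
  rw [beta, beta, e4, e3, ← conj_zpow, hz, ← zpow_mul, ← hn, h.zexp_zpow, h.zexp_zpow]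
  push_cast
  ring

theorem beta_T {x y : G} (hx : x ∈ h.Q) (hy : y ∈ h.Q) :
    c.beta (c.T * x * c.T⁻¹) y = -c.beta x y := by
  have e : c.T * x * c.T⁻¹ * x⁻¹⁻¹ = c.T * x * c.T⁻¹ * x := by rw [inv_inv]
  rw [c.beta_congr (inv_mem hx) (e ▸ c.T_inverts_QA hx) hy, c.beta_inv_left hx hy]

theorem W_conj_Q {x : G} (hx : x ∈ h.Q) : c.W * x * c.W⁻¹ ∈ h.Q := h.conj_Q c.W_NZ hx

theorem beta_W {x y : G} (hx : x ∈ h.Q) (hy : y ∈ h.Q) :
    c.beta (c.W * x * c.W⁻¹) (c.W * y * c.W⁻¹) = c.beta x y := by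
  rw [c.beta_conj c.W_NZ (-1) (-1) (by rw [c.W_z, zpow_neg_one])
    (by rw [c.W_z', zpow_neg_one]) (by norm_num) hx hy]
  norm_num

theorem beta_W_left {x y : G} (hx : x ∈ h.Q) (hy : y ∈ h.Q) :
    c.beta (c.W * x * c.W⁻¹) y = -c.beta x (c.W * y * c.W⁻¹) := by
  have hWx := c.W_conj_Q hx
  rw [← c.beta_W hWx hy,
    show c.W * (c.W * x * c.W⁻¹) * c.W⁻¹ = c.T * x * c.T⁻¹ by group,
    c.beta_T hx (c.W_conj_Q hy)]

theorem beta_W_self {x : G} (hx : x ∈ h.Q) : c.beta x (c.W * x * c.W⁻¹) = 0 := by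
  have e := c.beta_W_left hx hx
  rw [c.beta_symm (c.W_conj_Q hx) hx] at e
  exact (show ∀ b : ZMod 3, b = -b → b = 0 by decide) _ e

theorem solve_pair : ∀ a s i j i' j' : ZMod 3, a ≠ 0 → i * a + j * -s = i' * a + j' * -s →
    i * s + j * a = i' * s + j' * a → i = i' ∧ j = j' := by decide

/-- The pairing with an element outside `A` and with its image under `W` separates the cosets of `A`. -/
theorem ker_pair {q x : G} (hq : q ∈ h.Q) (hqA : q ∉ h.A) (hx : x ∈ h.Q)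
    (h1 : c.beta x q = 0) (h2 : c.beta x (c.W * q * c.W⁻¹) = 0) : x ∈ h.A := by
  obtain ⟨r, hr, hrq⟩ : ∃ r ∈ h.Q, c.beta r q ≠ 0 := by
    by_contra hc
    push Not at hc
    refine hqA (c.comm_z'_Z hq (h.Q_center _ (c.al_mem hq).2 fun b hb => ?_))
    exact (mul_inv_eq_iff_eq_mul.1 (mul_inv_eq_one.1 (h.zexp_eq_zero (c.beta_mem hb hq) (hc b hb)))).symm
  set p := c.W * q * c.W⁻¹
  have hp : p ∈ h.Q := c.W_conj_Q hq
  set r' := c.W * r * c.W⁻¹
  have hr' : r' ∈ h.Q := c.W_conj_Q hr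
  let f : h.A × ZMod 3 × ZMod 3 → h.Q := fun t =>
    ⟨(t.1 : G) * r ^ t.2.1.val * r' ^ t.2.2.val,
      mul_mem (mul_mem t.1.2.2 (pow_mem hr _)) (pow_mem hr' _)⟩
  have hval : ∀ t : h.A × ZMod 3 × ZMod 3,
      c.beta (f t : G) q = t.2.1 * c.beta r q + t.2.2 * -c.beta r p ∧
      c.beta (f t : G) p = t.2.1 * c.beta r p + t.2.2 * c.beta r q := by
    intro t
    have key : ∀ w ∈ h.Q, c.beta (f t : G) w = t.2.1 * c.beta r w + t.2.2 * c.beta r' w := by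
      intro w hw
      show c.beta ((t.1 : G) * r ^ t.2.1.val * r' ^ t.2.2.val) w = _
      rw [c.beta_mul_left (mul_mem t.1.2.2 (pow_mem hr _)) (pow_mem hr' _) hw,
        c.beta_mul_left t.1.2.2 (pow_mem hr _) hw, c.beta_A_left t.1.2 hw, zero_add,
        c.beta_pow_left hr hw, c.beta_pow_left hr' hw, ZMod.natCast_zmod_val, ZMod.natCast_zmod_val]
    exact ⟨by rw [key q hq, c.beta_W_left hr hq], by rw [key p hp, c.beta_W hr hq]⟩
  have hinj : Function.Injective f := by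
    rintro ⟨a, i, j⟩ ⟨a', i', j'⟩ e
    have v := hval ⟨a, i, j⟩
    have v' := hval ⟨a', i', j'⟩
    rw [e] at v
    obtain ⟨rfl, rfl⟩ := solve_pair _ _ _ _ _ _ hrq (v.1.symm.trans v'.1) (v.2.symm.trans v'.2)
    have e' : (a : G) * r ^ i.val * r' ^ j.val = (a' : G) * r ^ i.val * r' ^ j.val :=
      congrArg Subtype.val e
    exact Prod.ext (Subtype.ext (mul_right_cancel (mul_right_cancel e'))) rfl
  have hbij := (Nat.bijective_iff_injective_and_card f).2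
    ⟨hinj, by rw [Nat.card_prod, Nat.card_prod, Nat.card_zmod, h.card_A, h.Q_card]⟩
  obtain ⟨⟨a, i, j⟩, e⟩ := hbij.2 ⟨x, hx⟩
  have v := hval ⟨a, i, j⟩
  rw [e] at v
  obtain ⟨rfl, rfl⟩ := solve_pair (c.beta r q) (c.beta r p) i j 0 0 hrq
    (by rw [← v.1]; simp [h1]) (by rw [← v.2]; simp [h2])
  have e' : (a : G) * r ^ (0 : ZMod 3).val * r' ^ (0 : ZMod 3).val = x := congrArg Subtype.val e
  rw [ZMod.val_zero, pow_zero, pow_zero, mul_one, mul_one] at e'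
  rw [← e']; exact a.2

/-- The pairing is anisotropic. -/
theorem beta_aniso {q : G} (hq : q ∈ h.Q) (he : c.beta q q = 0) : q ∈ h.A :=
  Classical.byContradiction fun hqA => hqA (c.ker_pair hq hqA hq he (c.beta_W_self hq))

theorem exists_notMem_A (h : Hyp G) : ∃ q ∈ h.Q, q ∉ h.A := by
  by_contra hc
  push Not at hc
  have := Subgroup.card_le_of_le (show h.Q ≤ h.A from hc)
  rw [h.Q_card, h.card_A] at this
  omega

/-- A transformation reversing the sign of the pairing is no involution on `Q/A`. -/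
theorem no_anti_involution {σ : G} (hσ : σ ∈ h.NZ) (ε η : ℤ)
    (hz : σ * h.z * σ⁻¹ = h.z ^ ε) (hz' : σ * c.z' * σ⁻¹ = c.z' ^ η) (hη : η * η = 1)
    (hεη : ε * η = -1)
    (h2 : ∀ q ∈ h.Q, σ * (σ * q * σ⁻¹) * σ⁻¹ * q⁻¹ ∈ h.A) : False := by
  obtain ⟨q, hq, hqA⟩ := exists_notMem_A h
  have hc : ∀ x ∈ h.Q, c.beta (σ * x * σ⁻¹) (σ * x * σ⁻¹) = -c.beta x x := fun x hx => by
    rw [c.beta_conj hσ ε η hz hz' hη hx hx, hεη]
    norm_num
  have hzero : ∀ b : ZMod 3, b = -b → b = 0 := by decide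
  have hσq := h.conj_Q hσ hq
  have hσσq := h.conj_Q hσ hσq
  set u := q * (σ * q * σ⁻¹)
  have hu : u ∈ h.Q := mul_mem hq hσq
  have hσu : ∀ y ∈ h.Q, c.beta (σ * u * σ⁻¹) y = c.beta u y := by
    intro y hy
    rw [show σ * u * σ⁻¹ = σ * q * σ⁻¹ * (σ * (σ * q * σ⁻¹) * σ⁻¹) by simp only [u]; group,
      c.beta_mul_left hσq hσσq hy, c.beta_congr hq (h2 q hq) hy, c.beta_mul_left hq hσq hy, add_comm]
  have hσu' := h.conj_Q hσ hu
  have huA : u ∈ h.A := by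
    refine c.beta_aniso hu (hzero _ ?_)
    rw [← hc u hu, hσu _ hσu', c.beta_symm hu hσu', hσu _ hu]
  have hinv : ∀ y ∈ h.Q, c.beta (σ * q * σ⁻¹) y = -c.beta q y := fun y hy => by
    have := c.beta_mul_left hq hσq hy
    rw [c.beta_A_left huA hy] at this
    exact eq_neg_of_add_eq_zero_right this.symm
  refine hqA (c.beta_aniso hq (hzero _ ?_))
  rw [← hc q hq, hinv _ hσq, c.beta_symm hq hσq, hinv _ hq, neg_neg]

end Coords

end CfsgLib.Recog.McLThree
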