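import Cfsg.Agent.Lib.Recog.McLThree.Coords

/-!
The involution `t = w²`, the group `E = C_J(t)`, and the two lines of `E` conjugate to the centre.
-/

set_option autoImplicit false
set_option linter.style.haveILetI false
set_option linter.unusedSectionVars false

namespace CfsgLib.Recog.McLThree

open Subgroup

variable {G : Type*} [Group G] [Finite G] {h : Hyp G}

namespace Coords

variable (c : Coords h)

/-- The lift of order four. -/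
abbrev W : G := (c.w : G)
/-- The exchanging involution. -/
abbrev U : G := (c.u : G)
/-- The central involution. -/
abbrev T : G := (c.w : G) * (c.w : G)
/-- The second point. -/
abbrev z' : G := c.U * h.z * c.U⁻¹
/-- The centraliser of `T` in `J`. -/
abbrev E : Subgroup G := h.J ⊓ centralizer ({c.T} : Set G)

theorem T_sq : c.T * c.T = 1 := by
  have := congrArg Subtype.val c.w_four
  simp only [Subgroup.coe_pow, Subgroup.coe_one] at this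
  rw [← this, show (4 : ℕ) = 2 + 2 from rfl, pow_add, pow_two]

theorem T_inv : c.T⁻¹ = c.T := inv_eq_of_mul_eq_one_right c.T_sq

theorem U_sq : c.U * c.U = 1 := congrArg Subtype.val c.u_two

theorem U_inv : c.U⁻¹ = c.U := inv_eq_of_mul_eq_one_right c.U_sq

theorem U_T : c.U * c.T = c.T * c.U := congrArg Subtype.val c.u_t

theorem pi_T : c.pi (c.w * c.w) = t0 := by rw [map_mul, c.pi_w, w0_facts.1]

theorem T_mem_M0 : c.T ∈ h.M0 := (c.w * c.w).2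

theorem U_normJ : c.U ∈ normalizer (h.J : Set G) := h.M0_le_normJ c.u.2

theorem W_normJ : c.W ∈ normalizer (h.J : Set G) := h.M0_le_normJ c.w.2

theorem W_normS : c.W ∈ normalizer ((h.S : Subgroup G) : Set G) := by
  have hf : ∀ k : h.M0, (∀ p : A6, InP0 p → InP0 (c.pi k * p * (c.pi k)⁻¹)) →
      ∀ s ∈ (h.S : Subgroup G), (k : G) * s * (k : G)⁻¹ ∈ (h.S : Subgroup G) := by
    intro k hk s hs
    have := (c.mem_S (k * ⟨s, h.S_le_M0 hs⟩ * k⁻¹)).2 (by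
      rw [map_mul, map_mul, map_inv]; exact hk _ ((c.mem_S ⟨s, h.S_le_M0 hs⟩).1 hs))
    simpa using this
  have hw : ∀ p : A6, InP0 p → InP0 (w0 * p * w0⁻¹) := fun p hp => by
    obtain ⟨a, b, rfl⟩ := p0_mul p hp
    exact (p0_inverted a b).2
  have hw3 : ∀ p : A6, InP0 p → InP0 (w0⁻¹ * p * w0⁻¹⁻¹) := fun p hp => by
    have e : w0⁻¹ = w0 * (w0 * w0) := by
      refine inv_eq_of_mul_eq_one_right ?_
      rw [← mul_assoc, w0_facts.1, ← w0_facts.2.1]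
    have := hw _ (hw _ (hw p hp))
    rw [e]
    convert this using 1
    group
  refine mem_normalizer_iff.2 fun s => ⟨hf c.w (by rw [c.pi_w]; exact hw) s, fun hs => ?_⟩
  have := hf c.w⁻¹ (by rw [map_inv, c.pi_w]; exact hw3) _ hs
  simpa [mul_assoc] using this

theorem W_NZ : c.W ∈ h.NZ := h.normS_le_NZ c.W_normS

theorem T_normJ : c.T ∈ normalizer (h.J : Set G) := mul_mem c.W_normJ c.W_normJ

theorem T_CZ : c.T ∈ h.CZ := by
  refine h.mem_CZ.2 (mul_inv_eq_iff_eq_mul.1 ?_)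
  rw [show c.T * h.z * c.T⁻¹ = c.W * (c.W * h.z * c.W⁻¹) * c.W⁻¹ by group]
  rcases h.z_conj c.W_NZ with e | e
  · rw [e, e]
  · rw [e, ← conj_inv, e, inv_inv]

theorem T_NZ : c.T ∈ h.NZ := h.CZ_le_NZ c.T_CZ

theorem T_inverts_mod {s : G} (hs : s ∈ (h.S : Subgroup G)) : c.T * s * c.T⁻¹ * s ∈ h.J := by
  have := (c.pi_ker ((c.w * c.w) * ⟨s, h.S_le_M0 hs⟩ * (c.w * c.w)⁻¹ * ⟨s, h.S_le_M0 hs⟩)).1 (by
    obtain ⟨a, b, e⟩ := p0_mul _ ((c.mem_S ⟨s, h.S_le_M0 hs⟩).1 hs)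
    rw [map_mul, map_mul, map_mul, map_inv, c.pi_T, e]
    exact (p0_inverted a b).1)
  simpa using this

theorem T_inverts_QA {q : G} (hq : q ∈ h.Q) : c.T * q * c.T⁻¹ * q ∈ h.A :=
  ⟨c.T_inverts_mod (h.Q_le_S hq), mul_mem (h.conj_Q c.T_NZ hq) hq⟩

theorem fixQ_T : h.fixQ c.T c.T_CZ = h.Z := by
  refine le_antisymm ?_ (h.Z_le_fixQ _)
  rintro q ⟨hq, hfix⟩
  have hqA : q ∈ h.A := by
    have h1 := c.T_inverts_QA hq
    have h2 : (c.T * q * c.T⁻¹ * q⁻¹)⁻¹ * (c.T * q * c.T⁻¹ * q) ∈ h.A :=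
      mul_mem (inv_mem ((zpowers_le.2 h.z_mem_A : h.Z ≤ h.A) hfix)) h1
    rw [show (c.T * q * c.T⁻¹ * q⁻¹)⁻¹ * (c.T * q * c.T⁻¹ * q) = q * q by group] at h2
    have h4 := mul_mem h2 h2
    rw [show q * q * (q * q) = q ^ 3 * q by simp [pow_succ, mul_assoc], h.Q_exp q hq, one_mul] at h4
    exact h4
  refine h.Q_center q hq fun x hx => ?_
  have hc := h.Q_comm x hx q hq
  set a := c.T * x * c.T⁻¹ * x with ha
  have haA : a ∈ h.A := c.T_inverts_QA hx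
  set q' := c.T * q * c.T⁻¹ with hq'
  have hq'A : q' ∈ h.A := ⟨h.conj_J c.T_normJ hqA.1, h.conj_Q c.T_NZ hq⟩
  have hk : (q' * q⁻¹) ∈ h.Z := hfix
  -- the pairing is preserved
  have e1 : c.T * x * c.T⁻¹ * q' * (c.T * x * c.T⁻¹)⁻¹ * q'⁻¹ = x * q * x⁻¹ * q⁻¹ := by
    have h1 := h.Z_comm_CZ c.T_CZ hc
    rw [← h1]; simp only [q']; group
  have e2 : c.T * x * c.T⁻¹ = a * x⁻¹ := by simp only [a]; group
  have hxi := h.Q_comm x⁻¹ (inv_mem hx) q' hq'A.2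
  have e3 : a * x⁻¹ * q' * (a * x⁻¹)⁻¹ * q'⁻¹ = x⁻¹ * q' * x⁻¹⁻¹ * q'⁻¹ := by
    calc a * x⁻¹ * q' * (a * x⁻¹)⁻¹ * q'⁻¹
        = a * (x⁻¹ * q' * x⁻¹⁻¹ * q'⁻¹) * (q' * a⁻¹ * q'⁻¹) := by group
      _ = a * (x⁻¹ * q' * x⁻¹⁻¹ * q'⁻¹) * a⁻¹ := by
          rw [h.A_comm q' hq'A a⁻¹ (inv_mem haA), mul_inv_cancel_right]
      _ = x⁻¹ * q' * x⁻¹⁻¹ * q'⁻¹ := by rw [h.Z_comm_Q haA.2 hxi, mul_inv_cancel_right]
  have e4 : x⁻¹ * q' * x⁻¹⁻¹ * q'⁻¹ = x⁻¹ * q * x⁻¹⁻¹ * q⁻¹ := by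
    calc x⁻¹ * q' * x⁻¹⁻¹ * q'⁻¹ = x⁻¹ * ((q' * q⁻¹) * q) * x * ((q' * q⁻¹) * q)⁻¹ := by group
      _ = (x⁻¹ * (q' * q⁻¹) * x⁻¹⁻¹) * (x⁻¹ * q * x⁻¹⁻¹ * q⁻¹) * (q' * q⁻¹)⁻¹ := by group
      _ = (q' * q⁻¹) * (x⁻¹ * q * x⁻¹⁻¹ * q⁻¹) * (q' * q⁻¹)⁻¹ := by
          rw [h.Z_comm_CZ (h.Q_le_CZ (inv_mem hx)) hk]
      _ = x⁻¹ * q * x⁻¹⁻¹ * q⁻¹ := by
          rw [h.Z_comm_CZ (h.Q_le_CZ ((zpowers_le.2 h.z_mem_Q : h.Z ≤ h.Q) hk))
            (h.Q_comm x⁻¹ (inv_mem hx) q hq)]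
  have e5 : x * q * x⁻¹ * q⁻¹ = (x * q * x⁻¹ * q⁻¹)⁻¹ := by
    conv_lhs => rw [← e1, e2, e3, e4]
    have hcx := h.Z_comm_Q (inv_mem hx) hc
    calc x⁻¹ * q * x⁻¹⁻¹ * q⁻¹ = x⁻¹ * (x * q * x⁻¹ * q⁻¹)⁻¹ * x := by group
      _ = (x * q * x⁻¹ * q⁻¹)⁻¹ := by
          rw [h.Z_comm_Q (inv_mem hx) (inv_mem hc), inv_mul_cancel_right]
  have h1 : (x * q * x⁻¹ * q⁻¹) = 1 := by
    obtain ⟨n, hn⟩ := mem_zpowers_iff.1 hc
    rw [← hn] at e5 ⊢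
    have h2 : (h.z ^ n) ^ 2 = 1 := by
      rw [pow_two]; nth_rewrite 1 [e5]; rw [inv_mul_cancel]
    have h3 : (h.z ^ n) ^ 3 = 1 := by
      rw [← zpow_natCast, ← zpow_mul, mul_comm, zpow_mul, zpow_natCast, h.z_cube, one_zpow]
    rwa [pow_succ, h2, one_mul] at h3
  exact (mul_inv_eq_iff_eq_mul.1 (mul_inv_eq_one.1 h1)).symm

theorem T_inverts_Q {q : G} (hq : q ∈ h.Q) : c.T * q * c.T⁻¹ * q ∈ h.Z := by
  have hgq := h.conj_Q c.T_NZ hq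
  refine c.fixQ_T.le ⟨mul_mem hgq hq, ?_⟩
  have hc := h.Q_comm q hq (c.T * q * c.T⁻¹) hgq
  convert hc using 1
  rw [c.T_inv]
  calc c.T * (c.T * q * c.T * q) * c.T * (c.T * q * c.T * q)⁻¹
      = (c.T * c.T) * q * (c.T * q * c.T) * (c.T * q * c.T * q)⁻¹ := by simp only [mul_assoc]
    _ = q * (c.T * q * c.T) * (c.T * q * c.T * q)⁻¹ := by rw [c.T_sq, one_mul]
    _ = q * (c.T * q * c.T) * q⁻¹ * (c.T * q * c.T)⁻¹ := by group

theorem centQ_T {q : G} (hq : q ∈ h.Q) (hc : c.T * q = q * c.T) : q ∈ h.Z :=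
  c.fixQ_T.le ⟨hq, by rw [hc, mul_inv_cancel_right, mul_inv_cancel]; exact one_mem _⟩

/-- `T` is the central involution of `L0` modulo `Q`. -/
theorem T_L0 : ∃ hT : c.T ∈ h.L0, h.piL ⟨c.T, hT⟩ = -1 := by
  obtain ⟨⟨g, hg⟩, hpi⟩ := h.piL_surj (-1)
  have hgC := h.L0_le_CZ hg
  have hTg : c.T * g ∈ h.Q := by
    refine h.mem_Q_of_trivial (mul_mem c.T_CZ hgC) fun q hq => ?_
    set c1 := g * q * g⁻¹ * q with hc1
    have hc1Z : c1 ∈ h.Z := (h.neg_one_inverts hg hpi hq).1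
    set c2 := c.T * q⁻¹ * c.T⁻¹ * q⁻¹ with hc2
    have hc2Z : c2 ∈ h.Z := c.T_inverts_Q (inv_mem hq)
    have e : c.T * g * q * (c.T * g)⁻¹ * q⁻¹ = (c.T * c1 * c.T⁻¹) * c2 := by
      simp only [c1, c2]; group
    rw [e, h.Z_comm_CZ c.T_CZ hc1Z]
    exact mul_mem hc1Z hc2Z
  have hT : c.T ∈ h.L0 := by
    have := mul_mem (h.Q_le_L0 hTg) (inv_mem hg)
    rwa [mul_inv_cancel_right] at this
  refine ⟨hT, ?_⟩
  have hk : (⟨c.T, hT⟩ * ⟨g, hg⟩ : h.L0) ∈ h.piL.ker := by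
    rw [h.piL_ker, mem_subgroupOf]; exact hTg
  rw [MonoidHom.mem_ker, map_mul, hpi] at hk
  calc h.piL ⟨c.T, hT⟩ = h.piL ⟨c.T, hT⟩ * (-1 * -1) := by rw [sl_neg_one.2.1, mul_one]
    _ = -1 := by rw [← mul_assoc, hk, one_mul]

theorem T_comm_L0 {g : G} (hg : g ∈ h.L0) : c.T * g * c.T⁻¹ * g⁻¹ ∈ h.Q := by
  obtain ⟨hT, hpi⟩ := c.T_L0
  have : (⟨c.T, hT⟩ * ⟨g, hg⟩ * ⟨c.T, hT⟩⁻¹ * ⟨g, hg⟩⁻¹ : h.L0) ∈ h.piL.ker := by
    rw [MonoidHom.mem_ker, map_mul, map_mul, map_mul, map_inv, map_inv, hpi, sl_neg_one.2.2,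
      mul_inv_cancel_right, mul_inv_cancel]
  rwa [h.piL_ker, mem_subgroupOf] at this

theorem z_mem_E : h.z ∈ c.E :=
  ⟨h.z_mem_J, mem_centralizer_singleton_iff.2 (h.mem_CZ.1 c.T_CZ).symm⟩

theorem E_A_le {x : G} (hx : x ∈ c.E) (hA : x ∈ h.Q) : x ∈ h.Z :=
  c.centQ_T hA (mem_centralizer_singleton_iff.1 hx.2).symm

theorem z'_mem_E : c.z' ∈ c.E := by
  refine ⟨h.conj_J c.U_normJ h.z_mem_J, mem_centralizer_singleton_iff.2 ?_⟩
  have e1 := c.U_T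
  have e2 : h.z * c.T = c.T * h.z := (h.mem_CZ.1 c.T_CZ).symm
  have e3 : c.U⁻¹ * c.T = c.T * c.U⁻¹ := ((show Commute c.U c.T from e1).inv_left).eq
  calc c.z' * c.T = c.U * h.z * (c.U⁻¹ * c.T) := mul_assoc _ _ _
    _ = c.U * (h.z * c.T) * c.U⁻¹ := by rw [e3, ← mul_assoc, mul_assoc c.U h.z c.T]
    _ = c.U * c.T * h.z * c.U⁻¹ := by rw [e2, ← mul_assoc c.U c.T h.z]
    _ = c.T * c.z' := by rw [e1, mul_assoc c.T c.U h.z, mul_assoc c.T (c.U * h.z)]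

theorem z'_notMem_Z : c.z' ∉ h.Z := by
  intro hmem
  have hU : c.U ∈ h.NZ := by
    have hf : ∀ x ∈ h.Z, c.U * x * c.U⁻¹ ∈ h.Z := fun x hx => by
      obtain ⟨n, rfl⟩ := mem_zpowers_iff.1 hx
      rw [← conj_zpow]; exact zpow_mem hmem n
    refine mem_normalizer_iff.2 fun x => ⟨hf x, fun hx => ?_⟩
    have := hf _ hx
    rw [show c.U * (c.U * x * c.U⁻¹) * c.U⁻¹ = (c.U * c.U) * x * (c.U * c.U)⁻¹ by group, c.U_sq] at this
    simpa using this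
  have hUS := h.NZ_normJ_le_normS hU c.U_normJ
  refine w0_facts.2.2.2.2.2.2.2.2.2.2 ?_
  obtain ⟨⟨g, hg⟩, e⟩ := c.pi_surj c1
  have hgS : g ∈ (h.S : Subgroup G) := (c.mem_S ⟨g, hg⟩).2 (e ▸ p0_gens.1)
  have := (c.mem_S (c.u * ⟨g, hg⟩ * c.u⁻¹)).1 ((mem_normalizer_iff.1 hUS g).1 hgS)
  rwa [map_mul, map_mul, map_inv, c.pi_u, e] at this

theorem z'_notMem_Q : c.z' ∉ h.Q := fun hq => c.z'_notMem_Z (c.E_A_le c.z'_mem_E hq)

theorem z'_cube : c.z' ^ 3 = 1 := h.J_exp _ c.z'_mem_E.1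

theorem J_comm_E {x y : G} (hx : x ∈ c.E) (hy : y ∈ c.E) : x * y = y * x := h.J_comm x hx.1 y hy.1

theorem card_E : Nat.card c.E = 9 := by
  haveI : Fact (Nat.Prime 3) := ⟨by norm_num⟩
  have h1 := CfsgLib.PLocal.card_mul_le_card_sup_mul_inf c.E h.A
  have h2 : Nat.card ↥(c.E ⊔ h.A) ≤ 81 :=
    h.J_card ▸ Subgroup.card_le_of_le (sup_le inf_le_left inf_le_left)
  have h3 : Nat.card ↥(c.E ⊓ h.A) ≤ 3 :=
    h.card_Z ▸ Subgroup.card_le_of_le (fun x hx => c.E_A_le hx.1 hx.2.2)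
  rw [h.card_A] at h1
  have hle : Nat.card c.E ≤ 9 := by nlinarith
  obtain ⟨k, -, hk⟩ := h.card_three_pow ((inf_le_left : c.E ≤ h.J).trans h.J_le)
  have hlt : Nat.card h.Z < Nat.card c.E := by
    refine lt_of_le_of_ne (Subgroup.card_le_of_le (zpowers_le.2 c.z_mem_E)) fun e => c.z'_notMem_Z ?_
    exact (Subgroup.eq_of_le_of_card_ge (zpowers_le.2 c.z_mem_E : h.Z ≤ c.E) e.ge).ge c.z'_mem_E
  rw [h.card_Z, hk] at hlt
  rw [hk] at hle ⊢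
  have hk2 : k ≤ 2 := by
    by_contra hc
    have : 3 ^ 3 ≤ 3 ^ k := Nat.pow_le_pow_right (by norm_num) (by omega)
    omega
  interval_cases k <;> omega

/-- Every element of `E` is a product of powers of the two points. -/
theorem mem_E_iff {x : G} : x ∈ c.E ↔ ∃ a b : Fin 3, x = h.z ^ (a : ℕ) * c.z' ^ (b : ℕ) := by
  constructor
  · classical
    intro hx
    let f : Fin 3 × Fin 3 → c.E := fun p =>
      ⟨h.z ^ (p.1 : ℕ) * c.z' ^ (p.2 : ℕ), mul_mem (pow_mem c.z_mem_E _) (pow_mem c.z'_mem_E _)⟩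
    have hinj : Function.Injective f := by
      rintro ⟨a, b⟩ ⟨a', b'⟩ e
      have e' : h.z ^ (a : ℕ) * c.z' ^ (b : ℕ) = h.z ^ (a' : ℕ) * c.z' ^ (b' : ℕ) := congrArg Subtype.val e
      have e'' : c.z' ^ ((b : ℤ) - (b' : ℤ)) = h.z ^ ((a' : ℤ) - (a : ℤ)) := by
        rw [zpow_sub, zpow_natCast, zpow_natCast, zpow_sub, zpow_natCast, zpow_natCast,
          eq_mul_inv_iff_mul_eq]
        calc c.z' ^ (b : ℕ) * (c.z' ^ (b' : ℕ))⁻¹ * h.z ^ (a : ℕ)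
            = h.z ^ (a : ℕ) * (c.z' ^ (b : ℕ) * (c.z' ^ (b' : ℕ))⁻¹) :=
              c.J_comm_E (mul_mem (pow_mem c.z'_mem_E _) (inv_mem (pow_mem c.z'_mem_E _)))
                (pow_mem c.z_mem_E _)
          _ = h.z ^ (a' : ℕ) := by rw [← mul_assoc, e', mul_inv_cancel_right]
      have hbd : (3 : ℤ) ∣ (b : ℤ) - (b' : ℤ) := by
        by_contra hnd
        refine c.z'_notMem_Z ?_
        have h0 : ((b : ℤ) - b') % 3 = 1 ∨ ((b : ℤ) - b') % 3 = 2 := by omega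
        have ho : orderOf c.z' = 3 :=
          orderOf_eq_prime c.z'_cube fun h1 => c.z'_notMem_Z (h1 ▸ one_mem _)
        have hz : c.z' ^ (((b : ℤ) - b') % 3) ∈ h.Z := by
          rw [show (3 : ℤ) = (orderOf c.z' : ℕ) by rw [ho]; rfl, zpow_mod_orderOf, e'']
          exact zpow_mem (mem_zpowers _) _
        rcases h0 with h0 | h0 <;> rw [h0] at hz
        · simpa using hz
        · have := inv_mem hz
          rwa [show (c.z' ^ (2 : ℤ))⁻¹ = c.z' from inv_eq_of_mul_eq_one_left (by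
            rw [show (2 : ℤ) = ((2 : ℕ) : ℤ) from rfl, zpow_natCast, ← pow_succ', c.z'_cube])] at this
      have hb : b = b' := by
        have := b.isLt; have := b'.isLt
        exact Fin.ext (by omega)
      subst hb
      have ha : h.z ^ (a : ℕ) = h.z ^ (a' : ℕ) := mul_right_cancel e'
      have := pow_injOn_Iio_orderOf (show (a : ℕ) ∈ Set.Iio (orderOf h.z) by rw [h.z_order]; exact a.isLt)
        (show (a' : ℕ) ∈ Set.Iio (orderOf h.z) by rw [h.z_order]; exact a'.isLt) ha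
      exact Prod.ext (Fin.ext this) rfl
    have hbij := (Nat.bijective_iff_injective_and_card f).2
      ⟨hinj, by rw [Nat.card_prod, Nat.card_fin, c.card_E]⟩
    obtain ⟨⟨a, b⟩, e⟩ := hbij.2 ⟨x, hx⟩
    exact ⟨a, b, (congrArg Subtype.val e).symm⟩
  · rintro ⟨a, b, rfl⟩
    exact mul_mem (pow_mem c.z_mem_E _) (pow_mem c.z'_mem_E _)

end Coords

end CfsgLib.Recog.McLThree
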