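import Cfsg.Agent.Lib.Recog.McLThree.ModelPairs
import Mathlib.GroupTheory.Sylow

/-!
A group containing a normal binary icosahedral subgroup with small centraliser: its elements of order a power of
three lie in that subgroup and generate it.
-/

set_option autoImplicit false
set_option maxRecDepth 100000
set_option linter.style.haveILetI false

namespace CfsgLib.Recog.McLThree

open Subgroup

/-- An element of order three. -/
def sa : SL5 := ⟨!![0, 4; 1, 4], by decide⟩

/-- Its partner. -/
def sb : SL5 := ⟨!![0, 1; 4, 4], by decide⟩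

theorem sab_facts : sa ^ 3 = 1 ∧ sa ≠ 1 ∧ GenPair sa sb ∧
    (Finset.univ.image fun t : Fin 3 × Fin 10 × Fin 5 =>
      sa ^ (t.1 : ℕ) * (sa * sb) ^ (t.2.1 : ℕ) * sa * (sa * sb) ^ (t.2.2 : ℕ)).card = 90 ∧
    Fintype.card SL5 = 120 ∧ (Finset.univ.filter fun a : SL5 => a ^ 3 = 1 ∧ a ≠ 1).card = 20 := by
  decide +kernel

theorem sab_closure : closure ({sa, sb} : Set SL5) = ⊤ := by
  classical
  obtain ⟨-, -, -, h90, h120, -⟩ := sab_facts
  set H := closure ({sa, sb} : Set SL5)
  have hsub : (Finset.univ.image fun t : Fin 3 × Fin 10 × Fin 5 =>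
      sa ^ (t.1 : ℕ) * (sa * sb) ^ (t.2.1 : ℕ) * sa * (sa * sb) ^ (t.2.2 : ℕ)) ⊆
      Finset.univ.filter fun x => x ∈ H := by
    intro x hx
    obtain ⟨t, -, rfl⟩ := Finset.mem_image.1 hx
    have ha : sa ∈ H := Subgroup.subset_closure (Set.mem_insert _ _)
    have hb : sb ∈ H := Subgroup.subset_closure (Set.mem_insert_of_mem _ rfl)
    exact Finset.mem_filter.2 ⟨Finset.mem_univ _,
      mul_mem (mul_mem (mul_mem (pow_mem ha _) (pow_mem (mul_mem ha hb) _)) ha) (pow_mem (mul_mem ha hb) _)⟩
  have h1 := Finset.card_le_card hsub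
  rw [h90, ← Fintype.card_subtype, ← Nat.card_eq_fintype_card] at h1
  have h2 : Nat.card H ∣ 120 := h120 ▸ Nat.card_eq_fintype_card (α := SL5) ▸ Subgroup.card_subgroup_dvd_card H
  refine Subgroup.eq_top_of_card_eq _ ?_
  rw [Nat.card_eq_fintype_card (α := SL5), h120]
  obtain ⟨k, hk⟩ := h2
  have : k = 1 := by
    rcases k with _ | _ | k
    · omega
    · rfl
    · nlinarith [hk, h1]
  rw [this, mul_one] at hk
  exact hk.symm

/-- The subgroup generated by the elements of order a power of three. -/
theorem three_closure_eq {X : Type*} [Group X] [Finite X] (K : Subgroup X) [hK : K.Normal]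
    (hC : centralizer (K : Set X) ≤ K) (e : K ≃* SL5) :
    closure {x : X | ∃ k : ℕ, orderOf x = 3 ^ k} = K := by
  classical
  haveI := Fintype.ofFinite X
  obtain ⟨h3, hne, hgp, -, h120, h20⟩ := sab_facts
  let F : X → SL5 × SL5 := fun x => (e (MulAut.conjNormal x (e.symm sa)), e (MulAut.conjNormal x (e.symm sb)))
  -- elements with the same effect differ by the centre
  have hfib : ∀ x y, F x = F y → x⁻¹ * y ∈ centralizer (K : Set X) := by
    intro x y hxy
    simp only [F, Prod.mk.injEq, EmbeddingLike.apply_eq_iff_eq] at hxy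
    let α : SL5 →* K := ((MulAut.conjNormal (x⁻¹ * y) : MulAut K).toMonoidHom).comp e.symm.toMonoidHom
    have hαe : α = e.symm.toMonoidHom := by
      refine MonoidHom.eq_of_eqOn_dense sab_closure fun s hs => ?_
      rcases hs with rfl | rfl
      · show MulAut.conjNormal (x⁻¹ * y) (e.symm sa) = e.symm sa
        rw [map_mul, MulAut.mul_apply, ← hxy.1, ← MulAut.mul_apply, ← map_mul, inv_mul_cancel, map_one]
        rfl
      · show MulAut.conjNormal (x⁻¹ * y) (e.symm sb) = e.symm sb
        rw [map_mul, MulAut.mul_apply, ← hxy.2, ← MulAut.mul_apply, ← map_mul, inv_mul_cancel, map_one]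
        rfl
    refine mem_centralizer_iff.2 fun k hk => ?_
    have h1 := congrArg Subtype.val (DFunLike.congr_fun hαe (e ⟨k, hk⟩))
    simp only [α, MonoidHom.comp_apply, MulEquiv.coe_toMonoidHom, MulEquiv.symm_apply_apply,
      MulAut.conjNormal_apply] at h1
    exact (mul_inv_eq_iff_eq_mul.1 h1).symm
  -- at most 120 effects
  have himg : (Finset.univ.image F).card ≤ 120 := by
    have hsub : Finset.univ.image F ⊆ (Finset.univ.filter fun a : SL5 => a ^ 3 = 1 ∧ a ≠ 1).biUnion
        fun a => (Finset.univ.filter fun b => GenPair a b).image fun b => (a, b) := by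
      intro p hp
      obtain ⟨x, -, rfl⟩ := Finset.mem_image.1 hp
      set θ : SL5 ≃* SL5 := e.symm.trans ((MulAut.conjNormal x : MulAut K).trans e) with hθ
      refine Finset.mem_biUnion.2 ⟨θ sa, Finset.mem_filter.2 ⟨Finset.mem_univ _, by rw [← map_pow, h3, map_one],
        fun he => hne (θ.map_eq_one_iff.1 he)⟩, Finset.mem_image.2 ⟨θ sb, Finset.mem_filter.2
        ⟨Finset.mem_univ _, ⟨by rw [← map_pow, hgp.1, map_one], ?_⟩⟩, rfl⟩⟩
      rw [← map_mul, ← map_pow, hgp.2]
      have hm : ∀ u : SL5, u * u = 1 → u ≠ 1 → u = -1 := by decide +kernel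
      exact hm _ (by rw [← map_mul, show (-1 : SL5) * -1 = 1 from by decide, map_one])
        (fun he => (show (-1 : SL5) ≠ 1 from by decide) (θ.map_eq_one_iff.1 he))
    refine (Finset.card_le_card hsub).trans (Finset.card_biUnion_le.trans ?_)
    refine (Finset.sum_le_card_nsmul _ _ 6 fun a ha => ?_).trans (by rw [h20, smul_eq_mul])
    obtain ⟨-, ha3, ha1⟩ := Finset.mem_filter.1 ha
    exact Finset.card_image_le.trans (genPair_count a ha3 ha1).le
  have hKcard : Nat.card K = 120 := by rw [Nat.card_congr e.toEquiv, Nat.card_eq_fintype_card, h120]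
  have hcen : Nat.card (centralizer (K : Set X)) ≤ 2 := by
    have hz : ∀ u : SL5, (∀ v, u * v = v * u) → u = 1 ∨ u = -1 := by decide +kernel
    let g : centralizer (K : Set X) → ({1, -1} : Finset SL5) := fun x => ⟨e ⟨x, hC x.2⟩, by
      have := hz (e ⟨x, hC x.2⟩) fun v => by
        obtain ⟨w, rfl⟩ := e.surjective v
        rw [← map_mul, ← map_mul]
        exact congrArg e (Subtype.ext ((mem_centralizer_iff.1 x.2 w w.2).symm))
      simpa using this⟩
    have hg : Function.Injective g := fun a b hab => by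
      have h1 := e.injective (congrArg Subtype.val hab)
      exact Subtype.ext (congrArg (fun t : K => (t : X)) h1)
    refine (Nat.card_le_card_of_injective g hg).trans ?_
    rw [Nat.card_eq_fintype_card, Fintype.card_coe]
    exact Finset.card_le_two
  have hX : Nat.card X ≤ 240 := by
    rw [Nat.card_eq_fintype_card, ← Finset.card_univ,
      Finset.card_eq_sum_card_image F Finset.univ]
    refine (Finset.sum_le_card_nsmul _ _ 2 fun p hp => ?_).trans (by rw [smul_eq_mul]; omega)
    obtain ⟨x0, -, rfl⟩ := Finset.mem_image.1 hp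
    let g : {x // x ∈ Finset.univ.filter fun x => F x = F x0} → centralizer (K : Set X) := fun x =>
      ⟨x0⁻¹ * x.1, hfib x0 x.1 (Finset.mem_filter.1 x.2).2.symm⟩
    have hg : Function.Injective g := fun a b hab =>
      Subtype.ext (mul_left_cancel (congrArg Subtype.val hab))
    have := (Nat.card_le_card_of_injective g hg).trans hcen
    rwa [Nat.card_eq_fintype_card, Fintype.card_coe] at this
  have hidx : K.index ≤ 2 := by
    have := K.card_mul_index
    rw [hKcard] at this
    omega
  refine le_antisymm ((closure_le _).2 ?_) fun k hk => ?_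
  · rintro x ⟨n, hn⟩
    rw [SetLike.mem_coe, ← QuotientGroup.eq_one_iff, ← orderOf_eq_one_iff]
    have h1 : orderOf (x : X ⧸ K) ∣ 3 ^ n := hn ▸ orderOf_map_dvd (QuotientGroup.mk' K) x
    have h2 : orderOf (x : X ⧸ K) ≤ 2 := (Nat.le_of_dvd Nat.card_pos (orderOf_dvd_natCard _)).trans
      (by rw [← index_eq_card]; exact hidx)
    obtain ⟨j, -, hj⟩ := (Nat.dvd_prime_pow Nat.prime_three).1 h1
    rw [hj] at h2 ⊢
    rcases j with _ | j
    · rfl
    · exfalso; rw [pow_succ] at h2; nlinarith [Nat.one_le_pow j 3 (by norm_num)]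
  · have hmem : ∀ u : SL5, u ^ 3 = 1 → (e.symm u : X) ∈ closure {x : X | ∃ k : ℕ, orderOf x = 3 ^ k} := by
      intro u hu
      refine Subgroup.subset_closure ?_
      have : orderOf ((e.symm u : K) : X) ∣ 3 ^ 1 := orderOf_dvd_of_pow_eq_one (by
        rw [pow_one, ← Subgroup.coe_pow, ← map_pow, hu, map_one]; rfl)
      obtain ⟨j, -, hj⟩ := (Nat.dvd_prime_pow Nat.prime_three).1 this
      exact ⟨j, hj⟩
    have hle : closure ({sa, sb} : Set SL5) ≤
        (closure {x : X | ∃ k : ℕ, orderOf x = 3 ^ k}).comap (K.subtype.comp e.symm.toMonoidHom) := by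
      rw [closure_le]
      rintro u (rfl | rfl)
      · exact hmem _ h3
      · exact hmem _ hgp.1
    have := hle (sab_closure ▸ mem_top (e ⟨k, hk⟩))
    simpa using this

end CfsgLib.Recog.McLThree
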