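import Cfsg.Prelude.Def_Local
import Cfsg.Prelude.Def_Transfer
import Cfsg.Agent.Lib.Recog.McLThree.Basic
import Cfsg.Agent.Lib.Recog.McLThree.SLFive
import Cfsg.Agent.Lib.Comp.FStar
import Cfsg.Agent.Lib.Solvable.Fitting

/-!
The data of the local-structure recognition of the McLaughlin group as a `Hyp`.
-/

set_option autoImplicit false
set_option linter.style.haveILetI false
set_option linter.unusedSectionVars false

namespace CfsgLib.Recog.McLThree

open Subgroup

variable {G : Type*} [Group G] [Finite G]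

/-- An element of order a power of three of an image lifts to one. -/
theorem exists_three_lift {H : Type*} [Group H] (f : G →* H) (hf : Function.Surjective f) {y : H}
    (hy : ∃ k : ℕ, orderOf y = 3 ^ k) : ∃ x : G, f x = y ∧ ∃ k : ℕ, orderOf x = 3 ^ k := by
  haveI : Fact (Nat.Prime 3) := ⟨Nat.prime_three⟩
  haveI : Finite H := Finite.of_surjective f hf
  obtain ⟨k, hk⟩ := hy
  have hp : IsPGroup 3 (zpowers y) := IsPGroup.of_card (n := k) (by rw [Nat.card_zpowers, hk])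
  obtain ⟨P', hP'⟩ := hp.exists_le_sylow
  obtain ⟨P, rfl⟩ := Sylow.mapSurjective_surjective hf 3 P'
  obtain ⟨x, hx, hxy⟩ := hP' (mem_zpowers y)
  exact ⟨x, hxy, Hyp.orderOf_pow_three P.isPGroup' hx⟩

/-- The subgroup generated by the `3`-elements of `N`, onto the one generated by those of a quotient. -/
theorem exists_pi {X A : Type*} [Group X] [Group A] (N : Subgroup G) (f : N →* X)
    (hf : Function.Surjective f) (K : Subgroup X) (hK : closure {x : X | ∃ k : ℕ, orderOf x = 3 ^ k} = K)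
    (e : K ≃* A) (R : Subgroup G) (hR : f.ker = R.subgroupOf N) :
    ∃ π : closure {g : G | g ∈ N ∧ ∃ k : ℕ, orderOf g = 3 ^ k} →* A, Function.Surjective π ∧
      π.ker = R.subgroupOf (closure {g : G | g ∈ N ∧ ∃ k : ℕ, orderOf g = 3 ^ k}) := by
  set M := closure {g : G | g ∈ N ∧ ∃ k : ℕ, orderOf g = 3 ^ k} with hM
  have hMN : M ≤ N := (closure_le _).2 fun g hg => hg.1
  have hfM : ∀ x : M, f (inclusion hMN x) ∈ K := by
    have hle : M ≤ (K.comap f).map N.subtype := by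
      rw [hM, closure_le]
      rintro g ⟨hg, k, hk⟩
      refine ⟨⟨g, hg⟩, ?_, rfl⟩
      show f ⟨g, hg⟩ ∈ K
      rw [← hK]
      refine Subgroup.subset_closure ?_
      have hd : orderOf (f ⟨g, hg⟩) ∣ 3 ^ k := by
        rw [← hk, ← Subgroup.orderOf_mk g hg]; exact orderOf_map_dvd f _
      obtain ⟨j, -, hj⟩ := (Nat.dvd_prime_pow Nat.prime_three).1 hd
      exact ⟨j, hj⟩
    intro x
    obtain ⟨y, hy, hyx⟩ := hle x.2
    have : y = inclusion hMN x := Subtype.ext hyx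
    exact this ▸ hy
  let π : M →* A := e.toMonoidHom.comp ((f.comp (inclusion hMN)).codRestrict K hfM)
  refine ⟨π, ?_, ?_⟩
  · intro a
    have hle : K ≤ (M.subgroupOf N).map f := by
      rw [← hK, closure_le]
      intro y hy
      obtain ⟨x, hx, k, hk⟩ := exists_three_lift f hf hy
      exact ⟨x, mem_subgroupOf.2 (Subgroup.subset_closure ⟨x.2, k, by rw [Subgroup.orderOf_coe, hk]⟩), hx⟩
    obtain ⟨n, hn, hne⟩ := hle (e.symm a).2
    refine ⟨⟨n, mem_subgroupOf.1 hn⟩, ?_⟩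
    show e ⟨f ⟨(n : G), _⟩, _⟩ = a
    rw [← e.apply_symm_apply a]
    exact congrArg e (Subtype.ext hne)
  · ext x
    rw [MonoidHom.mem_ker, mem_subgroupOf]
    show e ⟨f (inclusion hMN x), _⟩ = 1 ↔ _
    rw [e.map_eq_one_iff, ← Subtype.coe_inj, Subgroup.coe_one]
    show f (inclusion hMN x) = 1 ↔ _
    rw [← MonoidHom.mem_ker, hR, mem_subgroupOf, Subgroup.coe_inclusion]

/-- The recognition data as a `Hyp`. -/
theorem exists_hyp_lsp (Z : Subgroup G) (hZ : Nat.card Z = 3) (C : Subgroup G)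
    (hCdef : C = centralizer (Z : Set G))
    (S : Sylow 3 C) (J : Subgroup G) (hJS : J ≤ (S : Subgroup C).map C.subtype)
    (hJ : Cfsg.IsElementaryAbelian 3 J) (hJcard : Nat.card J = 3 ^ 4)
    (hQ : Cfsg.IsExtraspecial 3 (Cfsg.generalizedFittingSubgroup C))
    (hQcard : Nat.card (Cfsg.generalizedFittingSubgroup C) = 3 ^ 5)
    [hQn : (Cfsg.generalizedFittingSubgroup C).Normal]
    (hexp : ∀ x ∈ Cfsg.generalizedFittingSubgroup C, x ^ 3 = 1)
    (hFMQ : Nonempty (Cfsg.generalizedFittingSubgroup (C ⧸ Cfsg.generalizedFittingSubgroup C) ≃*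
        Matrix.SpecialLinearGroup (Fin 2) (ZMod 5)))
    [hJn : (J.subgroupOf (normalizer (J : Set G))).Normal]
    (hA6 : Nonempty (closure {x : normalizer (J : Set G) ⧸ J.subgroupOf (normalizer (J : Set G)) |
      ∃ k : ℕ, orderOf x = 3 ^ k} ≃* alternatingGroup (Fin 6))) :
    ∃ h : Hyp G, h.J = J := by
  classical
  haveI : Fact (Nat.Prime 3) := ⟨by norm_num⟩
  set Qc := Cfsg.generalizedFittingSubgroup C with hQc
  set T0 := (S : Subgroup C).map C.subtype with hT0
  have hCQ : centralizer (Qc : Set C) ≤ Qc := CfsgLib.Comp.centralizer_generalizedFitting_le C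
  haveI hZnt : Nontrivial Z := Finite.one_lt_card_iff_nontrivial.1 (by rw [hZ]; norm_num)
  obtain ⟨⟨z, hzZ⟩, hzne⟩ := exists_ne (1 : Z)
  have hord : orderOf z = 3 := by
    have h1 : orderOf (⟨z, hzZ⟩ : Z) ∣ 3 := hZ ▸ orderOf_dvd_natCard _
    rw [← Subgroup.orderOf_mk z hzZ]
    exact ((Nat.dvd_prime Nat.prime_three).1 h1).resolve_left fun e => hzne (orderOf_eq_one_iff.1 e)
  have hZz : zpowers z = Z := Subgroup.eq_of_le_of_card_ge (zpowers_le.2 hzZ)
    (by rw [hZ, Nat.card_zpowers, hord])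
  have hcomm : ∀ c ∈ C, ∀ u ∈ Z, c * u = u * c := fun c hc u hu =>
    ((mem_centralizer_iff.1 (hCdef.le hc)) u hu).symm
  have hCmem : ∀ {c : G}, (∀ u ∈ Z, u * c = c * u) → c ∈ C := fun hc =>
    hCdef.ge (mem_centralizer_iff.2 hc)
  have hZC : Z ≤ C := fun u hu => hCmem fun v hv => by
    obtain ⟨i, rfl⟩ := mem_zpowers_iff.1 (hZz.symm.le hu)
    obtain ⟨j, rfl⟩ := mem_zpowers_iff.1 (hZz.symm.le hv)
    exact ((Commute.refl z).zpow_zpow j i).eq
  have hZQc : ∀ u (hu : u ∈ Z), (⟨u, hZC hu⟩ : C) ∈ Qc := fun u hu => hCQ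
    (mem_centralizer_iff.2 fun v _ => Subtype.ext (hcomm v v.2 u hu))
  set Q := Qc.map C.subtype with hQdef
  have hQC : Q ≤ C := map_subtype_le _
  have hZQ : Z ≤ Q := fun u hu => ⟨_, hZQc u hu, rfl⟩
  have hQcenter : (center Qc).map (C.subtype.comp Qc.subtype) = Z := by
    refine (Subgroup.eq_of_le_of_card_ge (fun u hu => mem_map.2 ⟨⟨⟨u, hZC hu⟩, hZQc u hu⟩,
      mem_center_iff.2 fun v => Subtype.ext (Subtype.ext (hcomm v.1 v.1.2 u hu)), rfl⟩) ?_).symm
    rw [card_map_of_injective (f := C.subtype.comp Qc.subtype) (fun a b e => Qc.subtype_injective (C.subtype_injective e)), hQ.2, hZ]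
  have hCGQ : centralizer (Q : Set G) ≤ C := (centralizer_le hZQ).trans hCdef.ge
  have hcQ : centralizer (Q : Set G) ≤ Q := fun x hx =>
    ⟨⟨x, hCGQ hx⟩, hCQ (mem_centralizer_iff.2 fun v hv =>
      Subtype.ext (mem_centralizer_iff.1 hx v ⟨v, hv, rfl⟩)), rfl⟩
  have hQctr : ∀ a ∈ Q, (∀ b ∈ Q, a * b = b * a) → a ∈ Z := by
    rintro _ ⟨a, ha, rfl⟩ hab
    exact hQcenter.le ⟨⟨a, ha⟩, mem_center_iff.2 fun b => Subtype.ext (Subtype.ext
      (hab b.1 ⟨b.1, b.2, rfl⟩).symm), rfl⟩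
  have hQcP : IsPGroup 3 Qc := IsPGroup.of_card hQcard
  have hQ3 : IsPGroup 3 Q := hQcP.map _
  have hQS : Q ≤ T0 := map_mono ((CfsgLib.Amalgam.le_pCore hQn hQcP).trans (CfsgLib.Amalgam.pCore_le_sylow S))
  -- `S` is a Sylow subgroup of the whole group
  obtain ⟨T, hT⟩ := (S.isPGroup'.map C.subtype).exists_le_sylow
  have hcenT : (T : Subgroup G) ⊓ centralizer ((T : Subgroup G) : Set G) ≤ Z := fun x hx =>
    hQctr x (hcQ (centralizer_le (hQS.trans hT) hx.2)) fun b hb =>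
      (mem_centralizer_iff.1 hx.2 b (hT (hQS hb))).symm
  have hTne : Nontrivial (T : Subgroup G) := by
    refine (Subgroup.nontrivial_iff_ne_bot _).2 fun e => ?_
    have := card_le_of_le (hJS.trans hT)
    rw [e, card_bot, hJcard] at this
    norm_num at this
  have hcenTeq : (T : Subgroup G) ⊓ centralizer ((T : Subgroup G) : Set G) = Z := by
    refine le_antisymm hcenT ?_
    haveI := hTne
    haveI := T.isPGroup'.center_nontrivial
    obtain ⟨⟨⟨x, hxT⟩, hxc⟩, hx1⟩ := exists_ne (1 : center (T : Subgroup G))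
    have hx : x ∈ (T : Subgroup G) ⊓ centralizer ((T : Subgroup G) : Set G) := ⟨hxT,
      mem_centralizer_iff.2 fun s hs => congrArg Subtype.val (mem_center_iff.1 hxc ⟨s, hs⟩)⟩
    have hx0 : x ≠ 1 := fun e => hx1 (Subtype.ext (Subtype.ext e))
    have hgen : zpowers x = Z := Subgroup.eq_of_le_of_card_ge (zpowers_le.2 (hcenT hx)) (by
      rw [hZ, Nat.card_zpowers]
      have h1 : orderOf (⟨x, hcenT hx⟩ : Z) ∣ 3 := hZ ▸ orderOf_dvd_natCard _
      rw [Subgroup.orderOf_mk] at h1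
      exact ((Nat.dvd_prime Nat.prime_three).1 h1).resolve_left (fun e => hx0 (orderOf_eq_one_iff.1 e))
        |>.ge)
    exact hgen ▸ zpowers_le.2 hx
  have hTC : (T : Subgroup G) ≤ C := fun t ht => hCmem fun u hu =>
    (mem_centralizer_iff.1 (hcenTeq.ge hu).2 t ht).symm
  have hST : (T : Subgroup G) = T0 := by
    rw [hT0, ← S.is_maximal' (T.isPGroup'.comap_subtype (K := C))
      (fun s hs => mem_subgroupOf.2 (hT ⟨s, hs, rfl⟩))]
    show _ = ((T : Subgroup G).subgroupOf C).map C.subtype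
    rw [subgroupOf_map_subtype, inf_eq_left.2 hTC]
  -- the two normalisers
  set NJ := normalizer (J : Set G)
  obtain ⟨eM⟩ := hA6
  obtain ⟨πM, hπM, hkM⟩ := exists_pi NJ (QuotientGroup.mk' (J.subgroupOf NJ))
    (QuotientGroup.mk'_surjective _) _ rfl eM J (QuotientGroup.ker_mk' _)
  obtain ⟨eL⟩ := hFMQ
  have hKn := CfsgLib.Comp.generalizedFittingSubgroup_normal (C ⧸ Qc)
  obtain ⟨πL, hπL, hkL⟩ := exists_pi C (QuotientGroup.mk' Qc) (QuotientGroup.mk'_surjective _) _
    (three_closure_eq _ (CfsgLib.Comp.centralizer_generalizedFitting_le (C ⧸ Qc)) eL) eL Q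
    (by rw [QuotientGroup.ker_mk', hQdef, subgroupOf, comap_map_eq_self_of_injective C.subtype_injective])
  have hthree : ∀ g ∈ normalizer (Z : Set G), (∃ k : ℕ, orderOf g = 3 ^ k) → g ∈ C := by
    intro g hg hk
    obtain ⟨k, hk⟩ := hk
    obtain ⟨n, hn⟩ := mem_zpowers_iff.1 (hZz.symm.le ((mem_normalizer_iff.1 hg z).1 hzZ))
    have h2 : g * g * z = z * (g * g) := by
      have e : g * g * z * (g * g)⁻¹ = z := by
        calc g * g * z * (g * g)⁻¹ = g * (g * z * g⁻¹) * g⁻¹ := by group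
          _ = (g * z * g⁻¹) ^ n := by rw [conj_zpow, hn]
          _ = z ^ (n * n) := by rw [← hn, ← zpow_mul]
          _ = z := by
            have h0 : n % 3 = 0 ∨ n % 3 = 1 ∨ n % 3 = 2 := by omega
            have hmod : ∀ m : ℤ, z ^ m = z ^ (m % 3) := fun m => by
              rw [show (3 : ℤ) = (orderOf z : ℕ) by rw [hord]; rfl, zpow_mod_orderOf]
            rcases h0 with h0 | h0 | h0
            · exfalso
              rw [hmod, h0, zpow_zero] at hn
              rw [eq_comm, conj_eq_one_iff] at hn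
              rw [hn, orderOf_one] at hord
              omega
            all_goals
              rw [hmod, show (n * n) % 3 = 1 by rw [Int.mul_emod, h0]; norm_num, zpow_one]
      exact mul_inv_eq_iff_eq_mul.1 e
    have hg2 : Commute (g ^ 2) z := by rw [pow_two]; exact h2
    have hodd : g = (g ^ 2) ^ ((3 ^ k + 1) / 2) := by
      have h3 : Odd (3 ^ k) := Odd.pow (by decide)
      obtain ⟨j, hj⟩ := h3
      rw [← pow_mul, show 2 * ((3 ^ k + 1) / 2) = 3 ^ k + 1 by omega, pow_succ, ← hk, pow_orderOf_eq_one,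
        one_mul]
    refine hCmem fun u hu => ?_
    obtain ⟨i, rfl⟩ := mem_zpowers_iff.1 (hZz.symm.le hu)
    have hgz : Commute g z := by rw [hodd]; exact hg2.pow_left _
    exact (hgz.zpow_right i).symm.eq
  have hCN : C ≤ normalizer (Z : Set G) := by
    intro c hc
    refine mem_normalizer_iff.2 fun u => ⟨fun hu => ?_, fun hu => ?_⟩
    · rw [hcomm c hc u hu, mul_inv_cancel_right]; exact hu
    · have h1 := hcomm c hc _ hu
      have h2 : c * u * c⁻¹ = u := by
        calc c * u * c⁻¹ = c⁻¹ * (c * (c * u * c⁻¹)) := by group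
          _ = c⁻¹ * (c * u * c⁻¹ * c) := by rw [h1]
          _ = u := by group
      rwa [h2] at hu
  have hset : {g : G | g ∈ normalizer (zpowers z : Set G) ∧ ∃ k : ℕ, orderOf g = 3 ^ k} =
      {g : G | g ∈ C ∧ ∃ k : ℕ, orderOf g = 3 ^ k} := by
    rw [hZz]
    exact Set.ext fun g => ⟨fun hg => ⟨hthree g hg.1 hg.2, hg.2⟩, fun hg => ⟨hCN hg.1, hg.2⟩⟩
  refine ⟨{
    S := T, J := J, Q := Q
    M0 := closure {g : G | g ∈ NJ ∧ ∃ k : ℕ, orderOf g = 3 ^ k}
    L0 := closure {g : G | g ∈ C ∧ ∃ k : ℕ, orderOf g = 3 ^ k}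
    z := z
    z_order := hord
    Z_eq := hcenTeq.trans hZz.symm
    J_le := hJS.trans hT
    J_comm := fun a ha b hb => congrArg Subtype.val (hJ.1.is_comm.comm ⟨a, ha⟩ ⟨b, hb⟩)
    J_exp := hJ.2
    J_card := by rw [hJcard]; norm_num
    M0_eq := rfl
    J_le_M0 := fun a ha => Subgroup.subset_closure
      ⟨le_normalizer ha, Hyp.orderOf_pow_three (IsPGroup.of_card hJcard) ha⟩
    piM := πM
    piM_surj := hπM
    piM_ker := hkM
    L0_eq := by rw [hset]
    Q_eq := ?_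
    Q_card := by rw [hQdef, card_map_of_injective C.subtype_injective, hQcard]; norm_num
    Q_exp := ?_
    Q_comm := ?_
    Q_center := fun a ha hc => hZz.symm.le (hQctr a ha hc)
    Q_le_L0 := fun q hq => Subgroup.subset_closure ⟨hQC hq, Hyp.orderOf_pow_three hQ3 hq⟩
    piL := πL
    piL_surj := hπL
    piL_ker := hkL
    cent_Q' := fun _ => hcQ }, rfl⟩
  · rw [hZz]
    set NZ := normalizer (Z : Set G)
    have hQN : Q ≤ NZ := hQC.trans hCN
    have hconj : ∀ n ∈ NZ, ∀ k ∈ C, n * k * n⁻¹ ∈ C := by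
      intro n hn k hk
      refine hCmem fun u hu => ?_
      have hu' : n⁻¹ * u * n ∈ Z := (mem_normalizer_iff''.1 hn u).1 hu
      calc u * (n * k * n⁻¹) = n * ((n⁻¹ * u * n) * k) * n⁻¹ := by group
        _ = n * (k * (n⁻¹ * u * n)) * n⁻¹ := by rw [hcomm k hk _ hu']
        _ = n * k * n⁻¹ * u := by group
    refine le_antisymm (fun q hq => ?_) (fun r hr => ?_)
    · refine ⟨⟨q, hQN hq⟩, CfsgLib.Amalgam.le_pCore (N := Q.subgroupOf NZ) ⟨fun a ha n => ?_⟩
        hQ3.comap_subtype (mem_subgroupOf.2 hq), rfl⟩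
      let R : Subgroup C := (Q.map (MulAut.conj (n : G)).toMonoidHom).subgroupOf C
      have hRn : R.Normal := ⟨fun x hx k => by
        obtain ⟨q', hq', hx'⟩ := mem_subgroupOf.1 hx
        obtain ⟨qc, hqc, rfl⟩ := hq'
        have hk' : (n : G)⁻¹ * k * n ∈ C := by
          simpa using hconj _ (inv_mem n.2) k k.2
        refine mem_subgroupOf.2 ⟨_, ⟨_, hQn.conj_mem qc hqc ⟨_, hk'⟩, rfl⟩, ?_⟩
        simp only [MulEquiv.coe_toMonoidHom, MulAut.conj_apply] at hx' ⊢
        simp only [map_mul, map_inv, Subgroup.subtype_apply, Subgroup.coe_mul, Subgroup.coe_inv] at hx' ⊢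
        rw [← hx']; group⟩
      have hle : R ≤ Qc := ((CfsgLib.Amalgam.le_pCore hRn (hQ3.map _).comap_subtype).trans
        (CfsgLib.Solvable.pCore_le_fittingSubgroup 3)).trans le_sup_right
      have hnC : (n : G) * a * (n : G)⁻¹ ∈ C := hconj n n.2 a (hQC (mem_subgroupOf.1 ha))
      exact mem_subgroupOf.2 ⟨⟨_, hnC⟩, hle (mem_subgroupOf.2 ⟨_, mem_subgroupOf.1 ha, rfl⟩), rfl⟩
    · obtain ⟨r', hr', rfl⟩ := hr
      have hP : IsPGroup 3 (Cfsg.pCore 3 NZ) := CfsgLib.Amalgam.isPGroup_pCore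
      have hrC : ∀ x ∈ (Cfsg.pCore 3 NZ).map NZ.subtype, x ∈ C := fun x hx =>
        hthree x (map_subtype_le _ hx) (Hyp.orderOf_pow_three (hP.map _) hx)
      let R : Subgroup C := ((Cfsg.pCore 3 NZ).map NZ.subtype).subgroupOf C
      have hRn : R.Normal := ⟨fun x hx k => by
        obtain ⟨y, hy, hyx⟩ := mem_subgroupOf.1 hx
        refine mem_subgroupOf.2 ⟨_, (CfsgLib.Amalgam.normal_pCore).conj_mem y hy ⟨k, hCN k.2⟩, ?_⟩
        simp only [map_mul, map_inv, hyx]
        rfl⟩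
      have hle : R ≤ Qc := ((CfsgLib.Amalgam.le_pCore hRn (hP.map _).comap_subtype).trans
        (CfsgLib.Solvable.pCore_le_fittingSubgroup 3)).trans le_sup_right
      exact ⟨⟨_, hrC _ ⟨r', hr', rfl⟩⟩, hle (mem_subgroupOf.2 ⟨r', hr', rfl⟩), rfl⟩
  · rintro _ ⟨a, ha, rfl⟩
    exact congrArg Subtype.val (hexp a ha)
  · rintro _ ⟨a, ha, rfl⟩ _ ⟨b, hb, rfl⟩
    refine hZz.symm.le (hQcenter.le ⟨⟨a, ha⟩ * ⟨b, hb⟩ * ⟨a, ha⟩⁻¹ * ⟨b, hb⟩⁻¹, ?_, rfl⟩)
    rw [← hQ.1.2.2, ← commutatorElement_def]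
    exact Subgroup.commutator_mem_commutator (mem_top _) (mem_top _)

end CfsgLib.Recog.McLThree
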