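import Cfsg.Prelude.Def_Local
import Cfsg.Agent.Lib.Recog.McLThree.Final
import Cfsg.Agent.Lib.Recog.McLThree.LspHyp
import Cfsg.Agent.Lib.Recog.ONanLines.Main
import Cfsg.Agent.Lib.Fusion.McLSimple

/-!
The generalized Fitting subgroup in the conclusion of the local-structure recognition.
-/

set_option autoImplicit false
set_option linter.style.haveILetI false

namespace CfsgLib.Recog.McLThree

open Subgroup

universe u

theorem isSimple_sporMcL : IsSimpleGroup Cfsg.Spor.McL :=
  haveI := CfsgLib.Golay.isSimple_mclGroup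
  CfsgLib.Fusion.MathieuCert.M22.mclEquiv.symm.isSimpleGroup

/-- The generalized Fitting subgroup is the McLaughlin group. -/
theorem isoMcL_fstar (hrec : InvolutionCriterion.{u}) {G : Type u} [Group G] [Finite G] (h : Hyp G)
    (hy : ∀ c : Coords h, centralizer ({c.y} : Set G) ≤ normalizer (h.J : Set G))
    (hy0 : ∀ (G0 : Subgroup G) (hidx : G0.index = 2) (c : Coords (h.restrict hidx)),
      centralizer ({c.y} : Set G0) ≤ normalizer ((h.restrict hidx).J : Set G0)) :
    Cfsg.Spor.IsoMcL (Cfsg.generalizedFittingSubgroup G) := by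
  haveI := isSimple_sporMcL
  rcases mcl_or_index_two hrec h hy hy0 with ⟨⟨e⟩⟩ | ⟨G0, hn, -, hC, ⟨e⟩⟩
  · haveI : IsSimpleGroup G := e.isSimpleGroup
    have htop : Cfsg.generalizedFittingSubgroup G = ⊤ := by
      haveI : IsSimpleGroup (⊤ : Subgroup G) := Subgroup.topEquiv.isSimpleGroup
      refine CfsgLib.ONanLines.fstar_of_simple ⊤ ?_
      rw [Subgroup.coe_top, centralizer_univ]
      refine ((inferInstance : (center G).Normal).eq_bot_or_eq_top).resolve_right fun hc => ?_
      obtain ⟨c⟩ := exists_coords h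
      refine c.z'_notMem_Z ?_
      have hUz : c.U * h.z = h.z * c.U := (mem_center_iff.1 (hc ▸ mem_top h.z) c.U)
      show c.U * h.z * c.U⁻¹ ∈ h.Z
      rw [hUz, mul_inv_cancel_right]
      exact mem_zpowers _
    exact ⟨((MulEquiv.subgroupCongr htop).trans Subgroup.topEquiv).trans e⟩
  · haveI := hn
    haveI : IsSimpleGroup G0 := e.isSimpleGroup
    exact ⟨(MulEquiv.subgroupCongr (CfsgLib.ONanLines.fstar_of_simple G0 hC)).trans e⟩

end CfsgLib.Recog.McLThree
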