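import Cfsg.Agent.Lib.Recog.McLThree.CentTQuot

/-!
The normaliser of the image of `E` acts on it as a dihedral group of order eight.
-/

set_option autoImplicit false
set_option linter.style.haveILetI false
set_option linter.unusedSectionVars false

namespace CfsgLib.Recog.McLThree

open Subgroup

variable {G : Type*} [Group G] [Finite G] {h : Hyp G}

namespace Coords

variable (c : Coords h)

theorem D_comm_E {d e : G} (hd : d ∈ c.D) (he : e ∈ c.E) : d * e = e * d := by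
  obtain ⟨d1, -, d3⟩ := c.mem_D.1 hd
  obtain ⟨a, b, rfl⟩ := c.mem_E_iff.1 he
  exact (((show Commute d h.z from d1).pow_right _).mul_right ((show Commute d c.z' from d3).pow_right _)).eq

theorem D_mk_cent {x : c.CT} (hx : (x : G) ∈ c.D) : c.mkT x ∈ centralizer (c.Eb : Set c.CTbar) := by
  refine mem_centralizer_iff.2 ?_
  rintro _ ⟨e, rfl⟩
  show c.mkT (inclusion c.E_le_cent e) * c.mkT x = c.mkT x * c.mkT (inclusion c.E_le_cent e)
  rw [← map_mul, ← map_mul]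
  congr 1
  exact Subtype.ext (c.D_comm_E hx e.2).symm

theorem cent_mk_D {x : c.CT} (hx : c.mkT x ∈ centralizer (c.Eb : Set c.CTbar)) : (x : G) ∈ c.D := by
  have key : ∀ e ∈ c.E, (x : G) * e * (x : G)⁻¹ = e := by
    intro e he
    have := mem_centralizer_iff.1 hx (c.mkT ⟨e, c.E_le_cent he⟩) ⟨⟨e, he⟩, rfl⟩
    exact c.lift_eq (a := x * ⟨e, c.E_le_cent he⟩ * x⁻¹) (b := ⟨e, c.E_le_cent he⟩)
      (by simp only [Subgroup.coe_mul, Subgroup.coe_inv]; rw [conj_pow, h.J_exp _ he.1]; simp)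
      (h.J_exp _ he.1)
      (by rw [map_mul, map_mul, map_inv, mul_inv_eq_iff_eq_mul]; exact this.symm)
  exact c.mem_D.2 ⟨mul_inv_eq_iff_eq_mul.1 (key _ c.z_mem_E), c.mem_cent_T.1 x.2,
    mul_inv_eq_iff_eq_mul.1 (key _ c.z'_mem_E)⟩

theorem exists_eNC
    [((centralizer (c.Eb : Set c.CTbar)).subgroupOf (normalizer (c.Eb : Set c.CTbar))).Normal]
    {l : G} (hl : l ∈ h.L0) (hlT : l * c.T = c.T * l) (hlz' : l * c.z' * l⁻¹ = c.z'⁻¹) :
    ∃ (hR : c.mkT (⟨l, c.mem_cent_T.2 hlT⟩ * ⟨c.U, c.U_mem_cent⟩) ∈ normalizer (c.Eb : Set c.CTbar))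
      (hU : c.mkT ⟨c.U, c.U_mem_cent⟩ ∈ normalizer (c.Eb : Set c.CTbar)),
      Nonempty (normalizer (c.Eb : Set c.CTbar) ⧸
        (centralizer (c.Eb : Set c.CTbar)).subgroupOf (normalizer (c.Eb : Set c.CTbar)) ≃* DihedralGroup 4) ∧
      closure ({QuotientGroup.mk' _ ⟨_, hR⟩, QuotientGroup.mk' _ ⟨_, hU⟩} :
        Set (normalizer (c.Eb : Set c.CTbar) ⧸
          (centralizer (c.Eb : Set c.CTbar)).subgroupOf (normalizer (c.Eb : Set c.CTbar)))) = ⊤ := by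
  classical
  set X := normalizer (c.Eb : Set c.CTbar)
  let π : X →* X ⧸ (centralizer (c.Eb : Set c.CTbar)).subgroupOf X := QuotientGroup.mk' _
  have hlz : l * h.z * l⁻¹ = h.z := mul_inv_eq_iff_eq_mul.2 (h.mem_CZ.1 (h.L0_le_CZ hl))
  let R : c.CT := ⟨l, c.mem_cent_T.2 hlT⟩ * ⟨c.U, c.U_mem_cent⟩
  let Uc : c.CT := ⟨c.U, c.U_mem_cent⟩
  have R1 : (R : G) * h.z * (R : G)⁻¹ = c.z'⁻¹ := by
    show l * c.U * h.z * (l * c.U)⁻¹ = _
    rw [← hlz']; simp only [z']; group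
  have R2 : (R : G) * c.z' * (R : G)⁻¹ = h.z := by
    show l * c.U * c.z' * (l * c.U)⁻¹ = _
    conv_rhs => rw [← hlz, ← c.U_conj_z']
    group
  have U1 : (Uc : G) * h.z * (Uc : G)⁻¹ = c.z' := rfl
  have U2 : (Uc : G) * c.z' * (Uc : G)⁻¹ = h.z := c.U_conj_z'
  have comp : ∀ g k : c.CT, ∀ x x1 x2 : G, (k : G) * x * (k : G)⁻¹ = x1 → (g : G) * x1 * (g : G)⁻¹ = x2 →
      ((g * k : c.CT) : G) * x * ((g * k : c.CT) : G)⁻¹ = x2 := by
    intro g k x x1 x2 e1 e2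
    rw [← e2, ← e1]; simp only [Subgroup.coe_mul]; group
  have R1i : (R : G) * c.z'⁻¹ * (R : G)⁻¹ = h.z⁻¹ := by rw [← conj_inv, R2]
  have R2i : (R : G) * h.z⁻¹ * (R : G)⁻¹ = c.z' := by rw [← conj_inv, R1, inv_inv]
  have S1 := comp R R _ _ _ R1 R1i
  have S2 := comp R R _ _ _ R2 R1
  have T1 := comp R (R * R) _ _ _ S1 R2i
  have T2 := comp R (R * R) _ _ _ S2 R1i
  have F1 := comp R (R * (R * R)) _ _ _ T1 R2
  have F2 := comp R (R * (R * R)) _ _ _ T2 R2i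
  have fwd : ∀ n : c.CT, (n : G) * h.z * (n : G)⁻¹ ∈ c.E → (n : G) * c.z' * (n : G)⁻¹ ∈ c.E →
      c.mkT n ∈ X := by
    intro n h1 h2
    refine c.norm_of_forward fun e he => ?_
    obtain ⟨a, b, rfl⟩ := c.mem_E_iff.1 he
    rw [← conj_mul, ← conj_pow, ← conj_pow]
    exact mul_mem (pow_mem h1 _) (pow_mem h2 _)
  have hR : c.mkT R ∈ X := fwd R (R1 ▸ inv_mem c.z'_mem_E) (R2 ▸ c.z_mem_E)
  have hU : c.mkT Uc ∈ X := fwd Uc (U1 ▸ c.z'_mem_E) (U2 ▸ c.z_mem_E)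
  set r := π ⟨c.mkT R, hR⟩
  set s := π ⟨c.mkT Uc, hU⟩
  have same : ∀ g n : c.CT, ∀ (hg : c.mkT g ∈ X) (hn : c.mkT n ∈ X),
      (g : G) * h.z * (g : G)⁻¹ = (n : G) * h.z * (n : G)⁻¹ →
      (g : G) * c.z' * (g : G)⁻¹ = (n : G) * c.z' * (n : G)⁻¹ →
      π ⟨c.mkT g, hg⟩ = π ⟨c.mkT n, hn⟩ := by
    intro g n hg hn h1 h2
    refine QuotientGroup.eq.2 (mem_subgroupOf.2 ?_)
    exact c.D_mk_cent (x := g⁻¹ * n) (c.mem_D_of_same (c.mem_cent_T.1 g.2) (c.mem_cent_T.1 n.2) h1 h2)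
  have moved : ∀ n : c.CT, ∀ (hn : c.mkT n ∈ X), π ⟨c.mkT n, hn⟩ = 1 →
      (n : G) * h.z * (n : G)⁻¹ = h.z := by
    intro n hn e
    exact mul_inv_eq_iff_eq_mul.2
      (c.mem_D.1 (c.cent_mk_D (mem_subgroupOf.1 ((QuotientGroup.eq_one_iff _).1 e)))).1
  have pR : ∀ n : c.CT, ∀ (hn : c.mkT n ∈ X), π ⟨c.mkT n, hn⟩ * r =
      π ⟨c.mkT (n * R), by rw [map_mul]; exact mul_mem hn hR⟩ := fun n hn => (map_mul π _ _).symm
  have hr2 : r * r = π ⟨c.mkT (R * R), by rw [map_mul]; exact mul_mem hR hR⟩ := pR R hR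
  have hr4 : r ^ 4 = 1 := by
    have hR2m : c.mkT (R * R) ∈ X := by rw [map_mul]; exact mul_mem hR hR
    have e : r ^ 4 = π ⟨c.mkT (R * (R * (R * R))), by rw [map_mul, map_mul]; exact mul_mem hR (mul_mem hR hR2m)⟩ := by
      rw [show (4 : ℕ) = 3 + 1 from rfl, pow_succ', pow_succ', pow_succ, pow_one, hr2]
      exact (congrArg (r * ·) (map_mul π _ _).symm).trans (map_mul π _ _).symm
    have h1m : c.mkT 1 ∈ X := by rw [map_one]; exact one_mem _
    rw [e, same _ 1 _ h1m (by rw [F1]; simp) (by rw [F2]; simp)]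
    exact (congrArg π (Subtype.ext (map_one c.mkT))).trans (map_one π)
  have hr2ne : r ^ 2 ≠ 1 := by
    rw [pow_two, hr2]
    intro e
    have := moved _ _ e
    rw [S1] at this
    exact h.z_ne_inv this.symm
  haveI : Fact (Nat.Prime 2) := ⟨by norm_num⟩
  have hord : orderOf r = 4 := orderOf_eq_prime_pow (p := 2) (n := 1) hr2ne hr4
  have hs2 : s ^ 2 = 1 := by
    rw [pow_two]
    refine ((map_mul π _ _).symm.trans ?_)
    refine Eq.trans (congrArg π (Subtype.ext ?_)) (map_one π)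
    show c.mkT Uc * c.mkT Uc = 1
    rw [← map_mul, show Uc * Uc = 1 from Subtype.ext c.U_sq, map_one]
  have hs1 : s ≠ 1 := fun e => c.z'_ne_z.1 ((U1.symm.trans (moved _ _ e)))
  have hso : orderOf s = 2 := orderOf_eq_prime hs2 hs1
  have hsr : s * r * s⁻¹ = r⁻¹ := by
    refine eq_inv_of_mul_eq_one_left ?_
    rw [show s⁻¹ = s from inv_eq_of_mul_eq_one_right (by rw [← pow_two, hs2])]
    have hURU : c.mkT (Uc * R * Uc) ∈ X := by rw [map_mul, map_mul]; exact mul_mem (mul_mem hU hR) hU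
    have e : s * r * s = π ⟨c.mkT (Uc * R * Uc), hURU⟩ := by
      rw [← map_mul, ← map_mul]; rfl
    have h1m : c.mkT 1 ∈ X := by rw [map_one]; exact one_mem _
    have U1i : (Uc : G) * c.z'⁻¹ * (Uc : G)⁻¹ = h.z⁻¹ := by rw [← conj_inv, U2]
    have A1 := comp (Uc * R * Uc) R _ _ _ R1 (comp (Uc * R) Uc _ _ _ U1i (comp Uc R _ _ _ R2i U2))
    have A2 := comp (Uc * R * Uc) R _ _ _ R2 (comp (Uc * R) Uc _ _ _ U1 (comp Uc R _ _ _ R2 U1))
    rw [e, pR, same _ 1 _ h1m (by rw [A1]; simp) (by rw [A2]; simp)]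
    exact (congrArg π (Subtype.ext (map_one c.mkT))).trans (map_one π)
  have hnot : s ∉ zpowers r := by
    intro hmem
    rw [mem_zpowers_iff_mem_range_orderOf, hord] at hmem
    obtain ⟨k, hk, e⟩ := Finset.mem_image.1 hmem
    rw [Finset.mem_range] at hk
    have hUR : ∀ g : c.CT, ∀ (hg : c.mkT g ∈ X), π ⟨c.mkT g, hg⟩ = s → (g : G) * c.z' * (g : G)⁻¹ = h.z ∧
        (g : G) * h.z * (g : G)⁻¹ = c.z' := by
      intro g hg e
      have hd := c.cent_mk_D (x := g⁻¹ * Uc) (mem_subgroupOf.1 (QuotientGroup.eq.1 e))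
      obtain ⟨d1, -, d2⟩ := c.mem_D.1 hd
      simp only [Subgroup.coe_mul, Subgroup.coe_inv] at d1 d2
      constructor
      · calc (g : G) * c.z' * (g : G)⁻¹ = (g : G) * (c.z' * ((g : G)⁻¹ * c.U)) * c.U⁻¹ := by group
          _ = (g : G) * ((g : G)⁻¹ * c.U * c.z') * c.U⁻¹ := by rw [d2]
          _ = c.U * c.z' * c.U⁻¹ := by group
          _ = h.z := c.U_conj_z'
      · calc (g : G) * h.z * (g : G)⁻¹ = (g : G) * (h.z * ((g : G)⁻¹ * c.U)) * c.U⁻¹ := by group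
          _ = (g : G) * ((g : G)⁻¹ * c.U * h.z) * c.U⁻¹ := by rw [d1]
          _ = c.z' := by simp only [z']; group
    interval_cases k
    · exact hs1 (e.symm.trans (pow_zero r))
    · have := (hUR R hR ((pow_one r).symm.trans e)).2
      rw [R1] at this
      exact c.z'_notMem_Q (by
        have h' : c.z' * c.z' = 1 := mul_eq_one_iff_eq_inv.2 this.symm
        have h3' := c.z'_cube
        rw [pow_succ, pow_two, h', one_mul] at h3'
        rw [h3']; exact one_mem _)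
    · have := (hUR (R * R) (by rw [map_mul]; exact mul_mem hR hR) (by rw [← hr2, ← pow_two]; exact e)).2
      rw [S1] at this
      exact c.z'_ne_z.2 this.symm
    · have hm : c.mkT (R * (R * R)) ∈ X := by rw [map_mul, map_mul]; exact mul_mem hR (mul_mem hR hR)
      have := (hUR _ hm (by
        rw [← e, pow_succ', pow_two, hr2]
        exact map_mul π ⟨c.mkT R, hR⟩ ⟨c.mkT (R * R), by rw [map_mul]; exact mul_mem hR hR⟩)).1
      rw [T2] at this
      exact h.z_ne_inv this.symm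
  obtain ⟨eD⟩ := CfsgLib.Invol.exists_mulEquiv_dihedral hord hso hsr hnot
  -- generation
  have hgen : closure ({r, s} : Set _) = ⊤ := by
    refine eq_top_iff.2 fun q _ => ?_
    obtain ⟨⟨x, hx⟩, rfl⟩ := QuotientGroup.mk'_surjective _ q
    obtain ⟨n, rfl⟩ := QuotientGroup.mk'_surjective c.TN x
    have hrm : r ∈ closure ({r, s} : Set _) := Subgroup.subset_closure (Set.mem_insert _ _)
    have hsm : s ∈ closure ({r, s} : Set _) := Subgroup.subset_closure (Set.mem_insert_of_mem _ rfl)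
    let K : Subgroup c.CT := (closure ({r, s} : Set _)).comap π |>.map X.subtype |>.comap c.mkT
    have hKR : R ∈ K := ⟨⟨c.mkT R, hR⟩, hrm, rfl⟩
    have hKU : Uc ∈ K := ⟨⟨c.mkT Uc, hU⟩, hsm, rfl⟩
    have fin : ∀ g ∈ K, (g : G) * h.z * (g : G)⁻¹ = (n : G) * h.z * (n : G)⁻¹ →
        (g : G) * c.z' * (g : G)⁻¹ = (n : G) * c.z' * (n : G)⁻¹ →
        π ⟨c.mkT n, hx⟩ ∈ closure ({r, s} : Set _) := by
      rintro g ⟨⟨y, hy⟩, hy', hyg⟩ h1 h2
      have hgX : c.mkT g ∈ X := hyg ▸ hy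
      rw [← same g n hgX hx h1 h2, show (⟨c.mkT g, hgX⟩ : X) = ⟨y, hy⟩ from Subtype.ext hyg.symm]
      exact hy'
    obtain ⟨ε, η, hε, hη, hc⟩ := c.conj_points (c.forward_of_norm hx)
    rcases hε with rfl | rfl <;> rcases hη with rfl | rfl <;>
      simp only [zpow_one, zpow_neg_one] at hc <;> rcases hc with ⟨u, v⟩ | ⟨u, v⟩
    · exact fin 1 (one_mem _) (by rw [u]; simp) (by rw [v]; simp)
    · exact fin Uc hKU (U1.trans u.symm) (U2.trans v.symm)
    · exact fin (Uc * (R * (R * R))) (mul_mem hKU (mul_mem hKR (mul_mem hKR hKR)))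
        ((comp Uc _ _ _ _ T1 U2).trans u.symm)
        ((comp Uc _ _ _ _ T2 (by rw [← conj_inv, U1] : (Uc : G) * h.z⁻¹ * (Uc : G)⁻¹ = c.z'⁻¹)).trans v.symm)
    · exact fin (R * (R * R)) (mul_mem hKR (mul_mem hKR hKR)) (T1.trans u.symm) (T2.trans v.symm)
    · exact fin (Uc * R) (mul_mem hKU hKR)
        ((comp Uc R _ _ _ R1 (by rw [← conj_inv, U2] : (Uc : G) * c.z'⁻¹ * (Uc : G)⁻¹ = h.z⁻¹)).trans u.symm)
        ((comp Uc R _ _ _ R2 U1).trans v.symm)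
    · exact fin R hKR (R1.trans u.symm) (R2.trans v.symm)
    · exact fin (R * R) (mul_mem hKR hKR) (S1.trans u.symm) (S2.trans v.symm)
    · exact fin (Uc * (R * R)) (mul_mem hKU (mul_mem hKR hKR))
        ((comp Uc _ _ _ _ S1 (by rw [← conj_inv, U1] : (Uc : G) * h.z⁻¹ * (Uc : G)⁻¹ = c.z'⁻¹)).trans u.symm)
        ((comp Uc _ _ _ _ S2 (by rw [← conj_inv, U2] : (Uc : G) * c.z'⁻¹ * (Uc : G)⁻¹ = h.z⁻¹)).trans v.symm)
  exact ⟨hR, hU, ⟨(topEquiv.symm.trans (MulEquiv.subgroupCongr hgen.symm)).trans eD⟩, hgen⟩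

end Coords

end CfsgLib.Recog.McLThree
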