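import Cfsg.Agent.Lib.Recog.McLThree.Frame

/-!
The lifts of order four invert both points, and the conjugates of the centre in `E`.
-/

set_option autoImplicit false
set_option linter.style.haveILetI false
set_option linter.unusedSectionVars false

namespace CfsgLib.Recog.McLThree

open Subgroup

variable {G : Type*} [Group G] [Finite G]

/-- In a finite group an element mapping a subgroup into itself normalises it. -/
theorem mem_normalizer_of_forward {H : Subgroup G} {g : G} (hf : ∀ x ∈ H, g * x * g⁻¹ ∈ H) :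
    g ∈ normalizer (H : Set G) := by
  have e : H.map (MulAut.conj g).toMonoidHom = H := Subgroup.eq_of_le_of_card_ge
    (by rintro _ ⟨x, hx, rfl⟩; exact hf x hx)
    (by rw [Subgroup.card_map_of_injective (MulAut.conj g).injective])
  refine mem_normalizer_iff.2 fun x => ⟨hf x, fun hx => ?_⟩
  obtain ⟨b, hb, eb⟩ := e.ge hx
  exact (MulAut.conj g).injective eb ▸ hb

variable {h : Hyp G}

namespace Coords

variable (c : Coords h)

theorem exists_lift {p : A6} (hp : InP0 p) :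
    ∃ s : h.M0, (s : G) ∈ (h.S : Subgroup G) ∧ c.pi s = p := by
  obtain ⟨s, hs⟩ := c.pi_surj p
  exact ⟨s, (c.mem_S s).2 (hs ▸ hp), hs⟩

/-- A member of `M0` normalises `S` when its image normalises the Sylow subgroup. -/
theorem normS_of_pi {k : h.M0}
    (hk : InP0 (c.pi k * c1 * (c.pi k)⁻¹) ∧ InP0 (c.pi k * c2 * (c.pi k)⁻¹)) :
    (k : G) ∈ normalizer ((h.S : Subgroup G) : Set G) := by
  refine mem_normalizer_of_forward fun s hs => ?_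
  have := (c.mem_S (k * ⟨s, h.S_le_M0 hs⟩ * k⁻¹)).2 (by
    obtain ⟨a, b, e⟩ := p0_mul _ ((c.mem_S ⟨s, h.S_le_M0 hs⟩).1 hs)
    rw [map_mul, map_mul, map_inv, e, conj_mul.symm, ← conj_pow, ← conj_pow]
    exact (P0.mul_mem (P0.pow_mem hk.1 _) (P0.pow_mem hk.2 _) : _ ∈ P0))
  simpa using this

/-- A member of `M0` normalising `S` is a power of `W` times a member of `S`. -/
theorem normS_decomp {k : h.M0} (hk : (k : G) ∈ normalizer ((h.S : Subgroup G) : Set G)) :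
    ∃ s ∈ (h.S : Subgroup G), ∃ i : ℕ, (k : G) = s * c.W ^ i := by
  have hc : ∀ p : A6, InP0 p → InP0 (c.pi k * p * (c.pi k)⁻¹) := fun p hp => by
    obtain ⟨s, hs, rfl⟩ := c.exists_lift hp
    have := (c.mem_S (k * s * k⁻¹)).1 ((mem_normalizer_iff.1 hk _).1 hs)
    rwa [map_mul, map_mul, map_inv] at this
  obtain ⟨i, hi⟩ := norm_p0 (c.pi k) (hc _ p0_gens.1) (hc _ p0_gens.2.1)
  have := (c.mem_S (k * (c.w ^ (i : ℕ))⁻¹)).2 (by rw [map_mul, map_inv, map_pow, c.pi_w]; exact hi)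
  refine ⟨_, this, i, ?_⟩
  simp

/-- The conjugates of `z` under `M0`. -/
theorem M0_points (g : h.M0) : (g : G) ∈ normalizer ((h.S : Subgroup G) : Set G) ∨
    ∃ s ∈ (h.S : Subgroup G), ∃ n : G, n ∈ normalizer ((h.S : Subgroup G) : Set G) ∧
      n ∈ h.M0 ∧ (g : G) = s * c.U * n := by
  by_cases hg : InP0 (c.pi g * c1 * (c.pi g)⁻¹) ∧ InP0 (c.pi g * c2 * (c.pi g)⁻¹)
  · exact Or.inl (c.normS_of_pi hg)
  · right
    obtain ⟨a, b, hab⟩ := double_coset _ hg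
    obtain ⟨s, hs, hsp⟩ := c.exists_lift (p0_closed a b)
    refine ⟨s, hs, ((s * c.u)⁻¹ * g : h.M0), ?_, SetLike.coe_mem _, by simp [mul_assoc]⟩
    refine c.normS_of_pi ?_
    rw [map_mul, map_inv, map_mul, hsp, c.pi_u]
    exact hab

theorem comm_z' {s : G} (hs : s ∈ (h.S : Subgroup G)) : s * c.z' * s⁻¹ * c.z'⁻¹ ∈ h.A := by
  obtain ⟨j, hj, q, hq, rfl⟩ := h.exists_mul hs
  have h1 := inv_mem (h.comm_JQ c.z'_mem_E.1 hq)
  have e1 : (c.z' * q * c.z'⁻¹ * q⁻¹)⁻¹ = q * c.z' * q⁻¹ * c.z'⁻¹ := by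
    simp only [mul_inv_rev, inv_inv, mul_assoc]
  rw [e1] at h1
  have e2 : j * q * c.z' * (j * q)⁻¹ * c.z'⁻¹ =
      (j * (q * c.z' * q⁻¹ * c.z'⁻¹) * j⁻¹) * (j * c.z' * j⁻¹ * c.z'⁻¹) := by group
  rw [e2, h.J_comm j hj _ h1.1, mul_inv_cancel_right, h.J_comm j hj _ c.z'_mem_E.1,
    mul_inv_cancel_right, mul_inv_cancel, mul_one]
  exact h1

theorem comm_z'_Z {q : G} (hq : q ∈ h.Q) (hc : q * c.z' * q⁻¹ * c.z'⁻¹ ∈ h.Z) : q ∈ h.A := by
  refine h.fix_j c.z'_mem_E.1 c.z'_notMem_Q hq ?_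
  have := inv_mem hc
  have e : ∀ x : G, (q * x * q⁻¹ * x⁻¹)⁻¹ = x * q * x⁻¹ * q⁻¹ := fun x => by group
  rwa [e] at this

theorem z'_pow_mem {a : G} (ha : a ∈ h.A) {i : ℤ} (hi : a * c.z' ^ i ∈ h.A) : (3 : ℤ) ∣ i := by
  by_contra hnd
  have h1 : c.z' ^ i ∈ h.A := by
    have := mul_mem (inv_mem ha) hi
    rwa [inv_mul_cancel_left] at this
  have h0 : i % 3 = 1 ∨ i % 3 = 2 := by omega
  have ho : orderOf c.z' = 3 := by
    haveI : Fact (Nat.Prime 3) := ⟨by norm_num⟩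
    exact orderOf_eq_prime c.z'_cube fun h1 => c.z'_notMem_Z (h1 ▸ one_mem _)
  rw [← zpow_mod_orderOf, ho] at h1
  rcases h0 with h0 | h0 <;> rw [Nat.cast_ofNat, h0] at h1
  · exact c.z'_notMem_Q (by simpa using h1.2)
  · refine c.z'_notMem_Q ?_
    have := inv_mem (show _ ∈ h.Q from h1.2)
    rwa [show (c.z' ^ (2 : ℤ))⁻¹ = c.z' from inv_eq_of_mul_eq_one_left (by
      rw [show (2 : ℤ) = ((2 : ℕ) : ℤ) from rfl, zpow_natCast, ← pow_succ', c.z'_cube])] at this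

theorem U_conj_z' : c.U * c.z' * c.U⁻¹ = h.z := by
  show c.U * (c.U * h.z * c.U⁻¹) * c.U⁻¹ = h.z
  rw [show c.U * (c.U * h.z * c.U⁻¹) * c.U⁻¹ = (c.U * c.U) * h.z * (c.U * c.U)⁻¹ by group, c.U_sq]
  group

/-- The element of order four inverts the centre. -/
theorem W_z : c.W * h.z * c.W⁻¹ = h.z⁻¹ := by
  classical
  haveI := Fintype.ofFinite G
  refine (h.z_conj c.W_NZ).resolve_left fun hW => ?_
  -- then the normaliser of `S` in `M0` centralises `z`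
  have hN : ∀ n : h.M0, (n : G) ∈ normalizer ((h.S : Subgroup G) : Set G) →
      (n : G) * h.z * (n : G)⁻¹ = h.z := by
    intro n hn
    obtain ⟨s, hs, i, e⟩ := c.normS_decomp hn
    have hWi : Commute c.W h.z := mul_inv_eq_iff_eq_mul.1 hW
    rw [e, show s * c.W ^ i * h.z * (s * c.W ^ i)⁻¹ = s * (c.W ^ i * h.z * (c.W ^ i)⁻¹) * s⁻¹ by group,
      (hWi.pow_left i).eq, mul_inv_cancel_right, h.z_central hs, mul_inv_cancel_right]
  -- the class of the image under the involution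
  have hμ : ∀ q ∈ h.Q, q ∉ h.A → c.U * (q * c.z' * q⁻¹ * c.z'⁻¹) * c.U⁻¹ * c.z'⁻¹ ∈ h.A := by
    intro q hq hqA
    have hqM := h.S_le_M0 (h.Q_le_S hq)
    set g : h.M0 := c.u * ⟨q, hqM⟩ * c.u with hg
    have hgz : (g : G) * h.z * (g : G)⁻¹ = c.U * (q * c.z' * q⁻¹ * c.z'⁻¹) * c.U⁻¹ * h.z := by
      show c.U * q * c.U * h.z * (c.U * q * c.U)⁻¹ = _
      rw [← c.U_conj_z']
      show c.U * q * c.U * (c.U * c.z' * c.U⁻¹) * (c.U * q * c.U)⁻¹ = _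
      rw [show c.U * q * c.U * (c.U * c.z' * c.U⁻¹) * (c.U * q * c.U)⁻¹ =
        c.U * q * (c.U * c.U) * c.z' * (c.U * c.U)⁻¹ * q⁻¹ * c.U⁻¹ by group, c.U_sq]
      group
    rcases c.M0_points g with hn | ⟨s, hs, n, hn, hnM, e⟩
    · exfalso
      rw [hN g hn] at hgz
      have h1 : c.U * (q * c.z' * q⁻¹ * c.z'⁻¹) * c.U⁻¹ = 1 := mul_eq_right.1 hgz.symm
      exact hqA (c.comm_z'_Z hq (by rw [conj_eq_one_iff.1 h1]; exact one_mem _))
    · have e2 : (g : G) * h.z * (g : G)⁻¹ = s * c.z' * s⁻¹ := by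
        rw [e, show s * c.U * n * h.z * (s * c.U * n)⁻¹ = s * (c.U * (n * h.z * n⁻¹) * c.U⁻¹) * s⁻¹ by
          group, hN ⟨n, hnM⟩ hn]
      rw [e2] at hgz
      have e3 : c.U * (q * c.z' * q⁻¹ * c.z'⁻¹) * c.U⁻¹ * c.z'⁻¹ =
          (s * c.z' * s⁻¹ * c.z'⁻¹) * (c.z' * h.z⁻¹ * c.z'⁻¹) := by
        rw [eq_mul_inv_of_mul_eq hgz.symm]; group
      rw [e3, h.J_comm _ c.z'_mem_E.1 _ (inv_mem h.z_mem_J), mul_inv_cancel_right]
      exact mul_mem (c.comm_z' hs) (inv_mem h.z_mem_A)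
  set al : G → G := fun q => q * c.z' * q⁻¹ * c.z'⁻¹ with hal
  have halA : ∀ q ∈ h.Q, al q ∈ h.A := fun q hq => c.comm_z' (h.Q_le_S hq)
  -- the pairing of two elements is forced
  have hB : ∀ q1 ∈ h.Q, ∀ q2 ∈ h.Q, q1 ∉ h.A → q2 ∉ h.A → q1 * q2 ∉ h.A →
      q1 * al q2 * q1⁻¹ * (al q2)⁻¹ = h.z⁻¹ := by
    intro q1 hq1 q2 hq2 n1 n2 n12
    obtain ⟨i, hi⟩ := mem_zpowers_iff.1 (h.Q_comm q1 hq1 (al q2) (halA q2 hq2).2)
    rw [← hi]
    have e12 : al (q1 * q2) = h.z ^ i * al q2 * al q1 := by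
      rw [hi]; simp only [al]; group
    have hm := hμ (q1 * q2) (mul_mem hq1 hq2) n12
    rw [show q1 * q2 * c.z' * (q1 * q2)⁻¹ * c.z'⁻¹ = al (q1 * q2) from rfl, e12] at hm
    have a1 := hμ q1 hq1 n1
    have a2 := hμ q2 hq2 n2
    change c.U * al q1 * c.U⁻¹ * c.z'⁻¹ ∈ h.A at a1
    change c.U * al q2 * c.U⁻¹ * c.z'⁻¹ ∈ h.A at a2
    set A1 := c.U * al q1 * c.U⁻¹ * c.z'⁻¹
    set A2 := c.U * al q2 * c.U⁻¹ * c.z'⁻¹
    have e : c.U * (h.z ^ i * al q2 * al q1) * c.U⁻¹ * c.z'⁻¹ = A2 * A1 * c.z' ^ (i + 1) := by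
      have e1 : c.U * (h.z ^ i * al q2 * al q1) * c.U⁻¹ * c.z'⁻¹ = c.z' ^ i * (A2 * c.z') * A1 := by
        simp only [A1, A2]
        rw [conj_zpow]
        group
      rw [e1, h.J_comm (c.z' ^ i) (zpow_mem (show c.z' ∈ h.J from c.z'_mem_E.1) i) (A2 * c.z')
        (mul_mem a2.1 c.z'_mem_E.1), mul_assoc (A2 * c.z'), h.J_comm _ (zpow_mem (show c.z' ∈ h.J from c.z'_mem_E.1) i) A1 a1.1,
        ← mul_assoc, mul_assoc A2, h.J_comm c.z' c.z'_mem_E.1 A1 a1.1, ← mul_assoc A2,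
        mul_assoc, zpow_add, zpow_one, (Commute.self_zpow c.z' i).eq]
    rw [e] at hm
    obtain ⟨m, hm'⟩ := c.z'_pow_mem (mul_mem a2 a1) hm
    rw [show i = -1 + 3 * m by omega, zpow_add, zpow_mul, zpow_neg_one,
      show h.z ^ (3 : ℤ) = 1 by rw [show (3 : ℤ) = ((3 : ℕ) : ℤ) from rfl, zpow_natCast, h.z_cube],
      one_zpow, mul_one]
  -- a pair of independent elements
  have hAQ : h.A ≤ h.Q := inf_le_right
  obtain ⟨q1, hq1, n1⟩ : ∃ q ∈ h.Q, q ∉ h.A := by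
    by_contra hc
    push Not at hc
    have := Subgroup.card_le_of_le (show h.Q ≤ h.A from hc)
    rw [h.Q_card, h.card_A] at this
    omega
  obtain ⟨q2, hq2, hn2⟩ : ∃ q ∈ h.Q, ∀ a ∈ h.A, ∀ k : Fin 3, q ≠ a * q1 ^ (k : ℕ) := by
    by_contra hc
    push Not at hc
    let f : h.A × Fin 3 → G := fun p => (p.1 : G) * q1 ^ (p.2 : ℕ)
    have hsub : (Finset.univ.filter fun x => x ∈ h.Q) ⊆ Finset.univ.image f := by
      intro x hx
      obtain ⟨a, ha, k, e⟩ := hc x (Finset.mem_filter.1 hx).2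
      exact Finset.mem_image.2 ⟨(⟨a, ha⟩, k), Finset.mem_univ _, e.symm⟩
    have h1 := (Finset.card_le_card hsub).trans Finset.card_image_le
    rw [← Fintype.card_subtype, ← Nat.card_eq_fintype_card, h.Q_card, Finset.card_univ,
      Fintype.card_prod, Fintype.card_fin, ← Nat.card_eq_fintype_card, h.card_A] at h1
    omega
  have n2 : q2 ∉ h.A := fun ha => hn2 q2 ha 0 (by simp)
  have n2' : q2⁻¹ ∉ h.A := fun ha => n2 (inv_mem_iff.1 ha)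
  have hA' : ∀ a ∈ h.A, q1⁻¹ * a * q1 ∈ h.A := fun a ha => by
    obtain ⟨n, hn⟩ := mem_zpowers_iff.1 (h.Q_comm q1⁻¹ (inv_mem hq1) a ha.2)
    rw [show q1⁻¹ * a * q1 = (q1⁻¹ * a * q1⁻¹⁻¹ * a⁻¹) * a by group, ← hn]
    exact mul_mem (zpow_mem h.z_mem_A n) ha
  have n12 : q1 * q2 ∉ h.A := fun ha => by
    refine hn2 _ (hA' _ ha) 2 ?_
    show q2 = q1⁻¹ * (q1 * q2) * q1 * q1 ^ 2
    rw [show q1⁻¹ * (q1 * q2) * q1 * q1 ^ 2 = q2 * q1 ^ 3 by rw [pow_succ']; group, h.Q_exp q1 hq1,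
      mul_one]
  have n12' : q1 * q2⁻¹ ∉ h.A := fun ha => by
    refine hn2 _ (inv_mem ha) 1 ?_
    simp
  have hb := hB q1 hq1 q2 hq2 n1 n2 n12
  have hb' := hB q1 hq1 q2⁻¹ (inv_mem hq2) n1 n2' n12'
  obtain ⟨j, hj⟩ := mem_zpowers_iff.1 (h.Q_comm q2⁻¹ (inv_mem hq2) (al q2)⁻¹ (inv_mem (halA q2 hq2)).2)
  have e' : al q2⁻¹ = h.z ^ j * (al q2)⁻¹ := by rw [hj]; simp only [al]; group
  rw [e'] at hb'
  have hzc : q1 * h.z ^ j = h.z ^ j * q1 := h.Z_comm_Q hq1 (zpow_mem (mem_zpowers _) _)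
  have hinv : q1 * (al q2)⁻¹ * q1⁻¹ * al q2 = (q1 * al q2 * q1⁻¹ * (al q2)⁻¹)⁻¹ := by
    have hc := h.A_comm _ (halA q2 hq2) (q1 * (al q2)⁻¹ * q1⁻¹) (by
      have := hA' _ (inv_mem (halA q2 hq2))
      obtain ⟨n, hn⟩ := mem_zpowers_iff.1 (h.Q_comm q1 hq1 (al q2)⁻¹ (inv_mem (halA q2 hq2)).2)
      rw [show q1 * (al q2)⁻¹ * q1⁻¹ = (q1 * (al q2)⁻¹ * q1⁻¹ * (al q2)⁻¹⁻¹) * (al q2)⁻¹ by group, ← hn]
      exact mul_mem (zpow_mem h.z_mem_A n) (inv_mem (halA q2 hq2)))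
    rw [← hc]; group
  have e2 : q1 * (h.z ^ j * (al q2)⁻¹) * q1⁻¹ * (h.z ^ j * (al q2)⁻¹)⁻¹ = h.z := by
    set X := al q2
    calc q1 * (h.z ^ j * X⁻¹) * q1⁻¹ * (h.z ^ j * X⁻¹)⁻¹
        = q1 * h.z ^ j * X⁻¹ * q1⁻¹ * X * (h.z ^ j)⁻¹ := by
          simp only [mul_inv_rev, inv_inv, mul_assoc]
      _ = h.z ^ j * (q1 * X⁻¹ * q1⁻¹ * X) * (h.z ^ j)⁻¹ := by rw [hzc]; simp only [mul_assoc]
      _ = h.z := by rw [hinv, hb, inv_inv, (Commute.zpow_self h.z j).eq, mul_inv_cancel_right]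
  rw [e2] at hb'
  have h2 : h.z ^ 2 = 1 := by rw [pow_two]; nth_rewrite 1 [hb']; rw [inv_mul_cancel]
  have h3 := orderOf_dvd_of_pow_eq_one h2
  rw [h.z_order] at h3
  omega

/-- The element of order four inverts the second point. -/
theorem W_z' : c.W * c.z' * c.W⁻¹ = c.z'⁻¹ := by
  have hj : c.W * c.U * c.W * c.U ∈ h.J := (c.pi_ker (c.w * c.u * c.w * c.u)).1 (by
    rw [map_mul, map_mul, map_mul, c.pi_w, c.pi_u]
    have e := w0_facts.2.2.2.2.2.2.2.2.2.1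
    rw [inv_eq_of_mul_eq_one_right w0_facts.2.2.2.2.2.2.2.2.1] at e
    calc w0 * u0 * w0 * u0 = w0 * (u0 * w0 * u0) := by simp only [mul_assoc]
      _ = 1 := by rw [e, mul_inv_cancel])
  set j := c.W * c.U * c.W * c.U
  have e1 : c.W * c.U = j * c.U * c.W⁻¹ := by
    simp only [j]
    rw [mul_assoc (c.W * c.U * c.W), c.U_sq]
    group
  have e2 : c.W⁻¹ * h.z * c.W = h.z⁻¹ := by
    have := congrArg (fun x => c.W⁻¹ * x⁻¹ * c.W) c.W_z
    simpa [mul_assoc] using this.symm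
  calc c.W * c.z' * c.W⁻¹ = (c.W * c.U) * h.z * (c.W * c.U)⁻¹ := by
        show c.W * (c.U * h.z * c.U⁻¹) * c.W⁻¹ = _; group
    _ = j * (c.U * (c.W⁻¹ * h.z * c.W) * c.U⁻¹) * j⁻¹ := by rw [e1]; group
    _ = j * c.z'⁻¹ * j⁻¹ := by rw [e2, ← conj_inv]
    _ = c.z'⁻¹ := by rw [h.J_comm j hj _ (inv_mem c.z'_mem_E.1), mul_inv_cancel_right]

end Coords

end CfsgLib.Recog.McLThree
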